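import Groth.Agent.H25AbCube.Basic
import Groth.Agent.H11Ample.Basic
import Groth.Agent.H11Ample.Tensor
import Groth.Agent.H11Tilde.ProjUP
import Mathlib.AlgebraicGeometry.FunctionField

/-!
# Classes of invertible modules on integral schemes through rational functions
-/

set_option autoImplicit false
set_option linter.style.haveILetI false
set_option linter.unusedSectionVars false
set_option backward.isDefEq.respectTransparency false
set_option maxHeartbeats 800000
universe u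

open CategoryTheory CategoryTheory.Limits AlgebraicGeometry TopologicalSpace
open Groth.Agent Groth.Agent.H11Ample Groth.Agent.H11Tilde Groth.Agent.H25AbCube

noncomputable section

namespace Groth.Agent.H25Weilp

variable {X Y : Scheme.{u}} [IsIntegral X] [IsIntegral Y]

theorem eta_mem {V : X.Opens} {x : X} (hx : x ∈ V) : genericPoint X ∈ V :=
  ((genericPoint_spec X).specializes trivial).mem_open V.2 hx

/-- A section as a rational function. -/
def toK {V : X.Opens} (hV : genericPoint X ∈ V) : Γ(X, V) →+* X.functionField :=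
  (X.presheaf.germ V (genericPoint X) hV).hom

theorem toK_res {V W : X.Opens} (h : W ≤ V) (hW : genericPoint X ∈ W) (s : Γ(X, V)) :
    toK hW (X.presheaf.map (homOfLE h).op s) = toK (h hW) s :=
  X.presheaf.germ_res_apply _ _ hW s

theorem toK_injective {V : X.Opens} (hV : genericPoint X ∈ V) : Function.Injective (toK hV) :=
  germ_injective_of_isIntegral _ _ _

/-- A rational function which is a unit at a point. -/
def UnitAt (x : X) (f : X.functionField) : Prop :=
  ∃ (V : X.Opens) (hx : x ∈ V) (s : Γ(X, V)), IsUnit s ∧ toK (eta_mem hx) s = f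

theorem UnitAt.one (x : X) : UnitAt x 1 := ⟨⊤, trivial, 1, isUnit_one, map_one _⟩

theorem UnitAt.mul {x : X} {f g : X.functionField} (hf : UnitAt x f) (hg : UnitAt x g) : UnitAt x (f * g) := by
  obtain ⟨V, hx, s, hs, rfl⟩ := hf
  obtain ⟨W, hx', t, ht, rfl⟩ := hg
  refine ⟨V ⊓ W, ⟨hx, hx'⟩, X.presheaf.map (homOfLE inf_le_left).op s * X.presheaf.map (homOfLE inf_le_right).op t,
    (hs.map _).mul (ht.map _), ?_⟩
  rw [map_mul, toK_res, toK_res]

theorem UnitAt.inv {x : X} {f : X.functionField} (hf : UnitAt x f) : UnitAt x f⁻¹ := by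
  obtain ⟨V, hx, s, ⟨u, rfl⟩, rfl⟩ := hf
  exact ⟨V, hx, ↑u⁻¹, u⁻¹.isUnit, map_units_inv _ u⟩

theorem UnitAt.div {x : X} {f g : X.functionField} (hf : UnitAt x f) (hg : UnitAt x g) : UnitAt x (f / g) := by
  rw [div_eq_mul_inv]; exact hf.mul hg.inv

theorem UnitAt.ne_zero {x : X} {f : X.functionField} (hf : UnitAt x f) : f ≠ 0 := by
  obtain ⟨V, hx, s, hs, rfl⟩ := hf
  exact (hs.map _).ne_zero

theorem UnitAt.of_section {V : X.Opens} {x : X} (hx : x ∈ V) {s : Γ(X, V)} (hs : IsUnit s) :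
    UnitAt x (toK (eta_mem hx) s) :=
  ⟨V, hx, s, hs, rfl⟩

/-- A rational function which is a unit everywhere is a global unit. -/
theorem exists_global (f : X.functionField) (hf : ∀ x : X, UnitAt x f) :
    ∃ s : Γ(X, ⊤), IsUnit s ∧ toK (V := ⊤) trivial s = f := by
  have key : ∀ f : X.functionField, (∀ x : X, UnitAt x f) → ∃ s : Γ(X, ⊤), toK (V := ⊤) trivial s = f := by
    intro f hf
    choose V hV s hs he using hf
    obtain ⟨R, hR, -⟩ := X.sheaf.existsUnique_gluing' V ⊤ (fun _ => homOfLE le_top)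
      (fun z _ => Opens.mem_iSup.2 ⟨z, hV z⟩) s fun x y => by
        refine toK_injective (V := V x ⊓ V y) ⟨eta_mem (hV x), eta_mem (hV y)⟩ ?_
        show toK _ (X.presheaf.map (homOfLE inf_le_left).op (s x)) =
          toK _ (X.presheaf.map (homOfLE inf_le_right).op (s y))
        rw [toK_res, toK_res, he, he]
    obtain ⟨x⟩ := (inferInstance : Nonempty X)
    refine ⟨R, ?_⟩
    rw [← he x, ← hR x]
    exact (toK_res le_top _ R).symm
  obtain ⟨s, hs⟩ := key f hf
  obtain ⟨t, ht⟩ := key f⁻¹ fun x => (hf x).inv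
  obtain ⟨x⟩ := (inferInstance : Nonempty X)
  refine ⟨s, IsUnit.of_mul_eq_one t (toK_injective (V := ⊤) trivial ?_), hs⟩
  rw [map_mul, map_one, hs, ht, mul_inv_cancel₀ (hf x).ne_zero]

/-- `D` gives local equations of the class `u`. -/
def Repr (u : PC X) (D : X → X.functionField) : Prop :=
  ∃ (M : X.Modules) (hM : PicF.IsInvertible M), pc M hM = u ∧
    ∃ (V₀ : X.Opens) (h₀ : genericPoint X ∈ V₀) (e₀ : Γ(M, V₀)) (r : X.functionField), r ≠ 0 ∧ IsGen M e₀ ∧
      ∀ (V : X.Opens) (e : Γ(M, V)), IsGen M e → ∀ (c : Γ(X, V₀ ⊓ V)),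
        M.presheaf.map (homOfLE inf_le_left).op e₀ = c • M.presheaf.map (homOfLE inf_le_right).op e →
        ∀ (x : X) (hx : x ∈ V), UnitAt x (D x / (r * toK (show genericPoint X ∈ V₀ ⊓ V from ⟨h₀, eta_mem hx⟩) c))

theorem isUnit_of_gen {M : X.Modules} {V₀ V : X.Opens} {e₀ : Γ(M, V₀)} {e : Γ(M, V)} (he₀ : IsGen M e₀)
    (he : IsGen M e) (c : Γ(X, V₀ ⊓ V))
    (hc : M.presheaf.map (homOfLE inf_le_left).op e₀ = c • M.presheaf.map (homOfLE inf_le_right).op e) : IsUnit c := by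
  obtain ⟨d, hd⟩ := ((he₀.bijective (inf_le_left : V₀ ⊓ V ≤ V₀))).2 (M.presheaf.map (homOfLE inf_le_right).op e)
  beta_reduce at hd
  refine IsUnit.of_mul_eq_one d ?_
  refine (he₀.bijective (inf_le_left : V₀ ⊓ V ≤ V₀)).1 ?_
  beta_reduce
  rw [one_smul, mul_smul, hd, ← hc]

theorem coord_ne_zero {M : X.Modules} {V₀ V : X.Opens} {e₀ : Γ(M, V₀)} {e : Γ(M, V)} (he₀ : IsGen M e₀)
    (he : IsGen M e) (c : Γ(X, V₀ ⊓ V)) (h : genericPoint X ∈ V₀ ⊓ V)
    (hc : M.presheaf.map (homOfLE inf_le_left).op e₀ = c • M.presheaf.map (homOfLE inf_le_right).op e) :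
    toK h c ≠ 0 := ((isUnit_of_gen he₀ he c hc).map _).ne_zero

/-- One frame at every point suffices. -/
theorem Repr.mk' {u : PC X} {M : X.Modules} (hM : PicF.IsInvertible M) (hu : pc M hM = u) {V₀ : X.Opens}
    (h₀ : genericPoint X ∈ V₀) {e₀ : Γ(M, V₀)} (he₀ : IsGen M e₀) {r : X.functionField} (hr : r ≠ 0)
    {D : X → X.functionField}
    (h : ∀ x, ∃ (V : X.Opens) (e : Γ(M, V)) (c : Γ(X, V₀ ⊓ V)) (hx : x ∈ V), IsGen M e ∧
      M.presheaf.map (homOfLE inf_le_left).op e₀ = c • M.presheaf.map (homOfLE inf_le_right).op e ∧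
      UnitAt x (D x / (r * toK (show genericPoint X ∈ V₀ ⊓ V from ⟨h₀, eta_mem hx⟩) c))) :
    Repr u D := by
  refine ⟨M, hM, hu, V₀, h₀, e₀, r, hr, he₀, fun W e' he' c' hc' x hxW => ?_⟩
  obtain ⟨V, e, c, hxV, he, hc, hD⟩ := h x
  obtain ⟨a, ha⟩ := transition (ei := e) he'
  have hau : IsUnit a := isUnit_of_gen he he' a ha
  have hη : genericPoint X ∈ V₀ ⊓ (V ⊓ W) := ⟨h₀, eta_mem hxV, eta_mem hxW⟩
  have key : toK (V := V₀ ⊓ W) ⟨h₀, eta_mem hxW⟩ c' =
      toK (V := V₀ ⊓ V) ⟨h₀, eta_mem hxV⟩ c * toK (V := V ⊓ W) ⟨eta_mem hxV, eta_mem hxW⟩ a := by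
    have h1 := congrArg (M.presheaf.map (homOfLE (inf_le_inf_left V₀ inf_le_left : V₀ ⊓ (V ⊓ W) ≤ V₀ ⊓ V)).op) hc
    have h2 := congrArg (M.presheaf.map (homOfLE (inf_le_inf_left V₀ inf_le_right : V₀ ⊓ (V ⊓ W) ≤ V₀ ⊓ W)).op) hc'
    have h3 := congrArg (M.presheaf.map (homOfLE (inf_le_right : V₀ ⊓ (V ⊓ W) ≤ V ⊓ W)).op) ha
    simp only [Scheme.Modules.map_smul, H10Coh.mres_mres] at h1 h2 h3
    rw [h3, smul_smul, h2] at h1
    have h4 := (he'.bijective _).1 h1
    have h5 := congrArg (toK hη) h4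
    rw [map_mul, toK_res, toK_res, toK_res] at h5
    exact h5
  have e3 : D x / (r * toK (V := V₀ ⊓ W) ⟨h₀, eta_mem hxW⟩ c') =
      D x / (r * toK (V := V₀ ⊓ V) ⟨h₀, eta_mem hxV⟩ c) *
        (toK (eta_mem (V := V ⊓ W) ⟨hxV, hxW⟩) a)⁻¹ := by
    rw [key, ← div_eq_mul_inv, div_div, _root_.mul_assoc]
  rw [e3]
  exact hD.mul (UnitAt.of_section (V := V ⊓ W) ⟨hxV, hxW⟩ hau).inv

/-- Every class has local equations. -/
theorem exists_repr (u : PC X) : ∃ D : X → X.functionField, Repr u D := by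
  obtain ⟨M, hM, rfl⟩ := exists_rep u
  choose V e hV he using exists_gen hM
  let x₀ := genericPoint X
  choose c hc using fun x => transition (ei := e x₀) (he x)
  refine ⟨fun x => toK (V := V x₀ ⊓ V x) ⟨hV x₀, eta_mem (hV x)⟩ (c x),
    Repr.mk' hM rfl (hV x₀) (he x₀) one_ne_zero fun x => ⟨V x, e x, c x, hV x, he x, hc x, ?_⟩⟩
  rw [one_mul, div_self (coord_ne_zero (he x₀) (he x) (c x) _ (hc x))]
  exact UnitAt.one x

theorem Repr.ne_zero {u : PC X} {D : X → X.functionField} (h : Repr u D) (x : X) : D x ≠ 0 := by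
  obtain ⟨M, hM, -, V₀, h₀, e₀, r, hr, he₀, hD⟩ := h
  obtain ⟨V, e, hx, he⟩ := exists_gen hM x
  obtain ⟨c, hc⟩ := transition (ei := e₀) he
  exact left_ne_zero_of_mul (div_eq_mul_inv (D x) _ ▸ (hD V e he c hc x hx).ne_zero)

/-- Local equations may be changed by units and a global factor. -/
theorem Repr.congr {u : PC X} {D D' : X → X.functionField} (h : Repr u D) {γ : X.functionField} (hγ : γ ≠ 0)
    (h' : ∀ x, UnitAt x (D' x / (γ * D x))) : Repr u D' := by
  obtain ⟨M, hM, hu, V₀, h₀, e₀, r, hr, he₀, hD⟩ := h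
  refine ⟨M, hM, hu, V₀, h₀, e₀, γ * r, mul_ne_zero hγ hr, he₀, fun V e he c hc x hx => ?_⟩
  have hDx : D x ≠ 0 := Repr.ne_zero ⟨M, hM, hu, V₀, h₀, e₀, r, hr, he₀, hD⟩ x
  have := (h' x).mul (hD V e he c hc x hx)
  convert this using 1
  field_simp

/-- The trivial class is cut out by a single rational function. -/
theorem repr_zero_iff {u : PC X} {D : X → X.functionField} (h : Repr u D) :
    u = 0 ↔ ∃ γ : X.functionField, γ ≠ 0 ∧ ∀ x, UnitAt x (D x / γ) := by
  obtain ⟨M, hM, rfl, V₀, h₀, e₀, r, hr, he₀, hD⟩ := h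
  constructor
  · intro h0
    obtain ⟨φ⟩ := (pc_eq_iff hM H11Ample.isInvertible_structureModule).1 (h0.trans pc_one.symm)
    let f₀ : Γ(X, V₀) := φ.hom.app V₀ e₀
    have hunit : ∀ {V : X.Opens} {e : Γ(M, V)}, IsGen M e → IsUnit (show Γ(X, V) from φ.hom.app V e) := by
      intro V e he
      obtain ⟨b, hb⟩ := exists_coeff (isGen_map_iso φ he) (show Γ(Coh.structureModule X, V) from (1 : Γ(X, V)))
      exact IsUnit.of_mul_eq_one_right (show Γ(X, V) from b) hb.symm
    refine ⟨r * toK h₀ f₀, mul_ne_zero hr ((hunit he₀).map _).ne_zero, fun x => ?_⟩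
    obtain ⟨V, e, hx, he⟩ := exists_gen hM x
    obtain ⟨c, hc⟩ := transition (ei := e₀) he
    have h1 := congrArg (φ.hom.app (V₀ ⊓ V)) hc
    rw [Scheme.Modules.Hom.app_smul, app_map_apply, app_map_apply] at h1
    have h2 : toK h₀ f₀ = toK (V := V₀ ⊓ V) ⟨h₀, eta_mem hx⟩ c * toK (eta_mem hx) (φ.hom.app V e) := by
      have := congrArg (toK (V := V₀ ⊓ V) ⟨h₀, eta_mem hx⟩) h1
      erw [map_mul, toK_res, toK_res] at this
      exact this
    rw [h2, ← _root_.mul_assoc, ← div_div]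
    exact (hD V e he c hc x hx).div (UnitAt.of_section hx (hunit he))
  · rintro ⟨γ, hγ, hDγ⟩
    rw [← pc_one]
    refine (pc_eq_iff hM H11Ample.isInvertible_structureModule).2 ?_
    have key : ∀ x, ∃ (W : X.Opens) (e : Γ(M, W)) (c : Γ(X, V₀ ⊓ W)) (s : Γ(X, W)) (hx : x ∈ W), IsGen M e ∧
        IsUnit s ∧ M.presheaf.map (homOfLE inf_le_left).op e₀ = c • M.presheaf.map (homOfLE inf_le_right).op e ∧
        toK (eta_mem hx) s = (r * toK (show genericPoint X ∈ V₀ ⊓ W from ⟨h₀, eta_mem hx⟩) c) / γ := by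
      intro x
      obtain ⟨V, e, hx, he⟩ := exists_gen hM x
      obtain ⟨c, hc⟩ := transition (ei := e₀) he
      have hDx : D x ≠ 0 := Repr.ne_zero ⟨M, hM, rfl, V₀, h₀, e₀, r, hr, he₀, hD⟩ x
      have hu : UnitAt x ((r * toK (show genericPoint X ∈ V₀ ⊓ V from ⟨h₀, eta_mem hx⟩) c) / γ) := by
        have := (hDγ x).div (hD V e he c hc x hx)
        convert this using 1
        field_simp
      obtain ⟨W, hxW, s, hs, hse⟩ := hu
      refine ⟨V ⊓ W, M.presheaf.map (homOfLE inf_le_left).op e,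
        X.presheaf.map (homOfLE (inf_le_inf_left V₀ inf_le_left)).op c,
        X.presheaf.map (homOfLE inf_le_right).op s, ⟨hx, hxW⟩, he.res _, hs.map _, ?_, ?_⟩
      · have := congrArg (M.presheaf.map (homOfLE (inf_le_inf_left V₀ inf_le_left : V₀ ⊓ (V ⊓ W) ≤ V₀ ⊓ V)).op) hc
        simp only [Scheme.Modules.map_smul, H10Coh.mres_mres] at this ⊢
        exact this
      · rw [toK_res, toK_res]
        exact hse
    choose W e c s hx he hs hc hse using key
    obtain ⟨φ, -⟩ := exists_iso_of_gen (P := M) (Q := Coh.structureModule X) W (fun x => ⟨x, hx x⟩) e he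
      (fun x => (show Γ(Coh.structureModule X, W x) from (↑(hs x).unit⁻¹ : Γ(X, W x))))
      (fun x => by
        have := isGen_res (L := Coh.structureModule X) (isGen_one (W x)) le_rfl (hs x).unit⁻¹.isUnit
        convert this using 1
        rw [H10Coh.mres_self]
        exact (_root_.mul_one (↑(hs x).unit⁻¹ : Γ(X, W x))).symm)
      fun i j a ha => by
        have hη : genericPoint X ∈ V₀ ⊓ (W i ⊓ W j) := ⟨h₀, eta_mem (hx i), eta_mem (hx j)⟩
        have h1 := congrArg (M.presheaf.map (homOfLE (inf_le_inf_left V₀ inf_le_left : V₀ ⊓ (W i ⊓ W j) ≤ V₀ ⊓ W i)).op) (hc i)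
        have h2 := congrArg (M.presheaf.map (homOfLE (inf_le_inf_left V₀ inf_le_right : V₀ ⊓ (W i ⊓ W j) ≤ V₀ ⊓ W j)).op) (hc j)
        have h3 := congrArg (M.presheaf.map (homOfLE (inf_le_right : V₀ ⊓ (W i ⊓ W j) ≤ W i ⊓ W j)).op) ha
        simp only [Scheme.Modules.map_smul, H10Coh.mres_mres] at h1 h2 h3
        rw [h3, smul_smul, h2] at h1
        have h4 := congrArg (toK hη) (((he j).bijective _).1 h1)
        rw [map_mul, toK_res, toK_res, toK_res] at h4
        refine toK_injective (V := W i ⊓ W j) ⟨eta_mem (hx i), eta_mem (hx j)⟩ ?_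
        show toK _ (X.presheaf.map _ (↑(hs i).unit⁻¹ : Γ(X, W i))) =
          toK _ (a * X.presheaf.map _ (↑(hs j).unit⁻¹ : Γ(X, W j)))
        rw [map_mul, toK_res, toK_res, map_units_inv, map_units_inv, IsUnit.unit_spec, IsUnit.unit_spec, hse, hse, h4]
        have hci := coord_ne_zero he₀ (he i) (c i) ⟨h₀, eta_mem (hx i)⟩ (hc i)
        have hai : toK (V := W i ⊓ W j) ⟨eta_mem (hx i), eta_mem (hx j)⟩ a ≠ 0 :=
          ((isUnit_of_gen (he i) (he j) a ha).map _).ne_zero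
        field_simp
    exact ⟨φ⟩

/-- Local equations add up. -/
theorem Repr.add {u v : PC X} {D D' : X → X.functionField} (h : Repr u D) (h' : Repr v D') :
    Repr (u + v) fun x => D x * D' x := by
  obtain ⟨M, hM, rfl, V₀, h₀, e₀, r, hr, he₀, hD⟩ := h
  obtain ⟨N, hN, rfl, W₀, k₀, f₀, r', hr', hf₀, hD'⟩ := h'
  refine Repr.mk' (H11Ample.isInvertible_tensor hM hN) (pc_tensor hM hN _) (V₀ := V₀ ⊓ W₀) ⟨h₀, k₀⟩
    (e₀ := tm (M.presheaf.map (homOfLE inf_le_left).op e₀) (N.presheaf.map (homOfLE inf_le_right).op f₀))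
    (isGen_tm (he₀.res _) (hf₀.res _)) (r := r * r') (mul_ne_zero hr hr') fun x => ?_
  obtain ⟨V, e, hx, he⟩ := exists_gen hM x
  obtain ⟨W, f, hx', hf⟩ := exists_gen hN x
  obtain ⟨c, hc⟩ := transition (ei := e₀) he
  obtain ⟨d, hd⟩ := transition (ei := f₀) hf
  refine ⟨V ⊓ W, tm (M.presheaf.map (homOfLE inf_le_left).op e) (N.presheaf.map (homOfLE inf_le_right).op f),
    X.presheaf.map (homOfLE (inf_le_inf inf_le_left inf_le_left : V₀ ⊓ W₀ ⊓ (V ⊓ W) ≤ V₀ ⊓ V)).op c *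
      X.presheaf.map (homOfLE (inf_le_inf inf_le_right inf_le_right : V₀ ⊓ W₀ ⊓ (V ⊓ W) ≤ W₀ ⊓ W)).op d,
    ⟨hx, hx'⟩, isGen_tm (he.res _) (hf.res _), ?_, ?_⟩
  · have h1 := congrArg (M.presheaf.map (homOfLE (inf_le_inf inf_le_left inf_le_left : V₀ ⊓ W₀ ⊓ (V ⊓ W) ≤ V₀ ⊓ V)).op) hc
    have h2 := congrArg (N.presheaf.map (homOfLE (inf_le_inf inf_le_right inf_le_right : V₀ ⊓ W₀ ⊓ (V ⊓ W) ≤ W₀ ⊓ W)).op) hd
    simp only [Scheme.Modules.map_smul, H10Coh.mres_mres] at h1 h2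
    simp only [tm_res, H10Coh.mres_mres, h1, h2, tm_smul_left, tm_smul_right, smul_smul]
    congr 1
    ring
  · have := (hD V e he c hc x hx).mul (hD' W f hf d hd x hx')
    rw [map_mul, toK_res, toK_res]
    convert this using 1
    field_simp

/-- Local equations of the opposite class. -/
theorem Repr.neg {u : PC X} {D : X → X.functionField} (h : Repr u D) : Repr (-u) fun x => (D x)⁻¹ := by
  obtain ⟨D', h'⟩ := exists_repr (-u)
  obtain ⟨γ, hγ, hu⟩ := (repr_zero_iff (h.add h')).1 (add_neg_cancel u)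
  refine h'.congr (inv_ne_zero hγ) fun x => ?_
  have := (hu x).inv
  convert this using 1
  have := h.ne_zero x
  have := h'.ne_zero x
  field_simp

theorem Repr.sub {u v : PC X} {D D' : X → X.functionField} (h : Repr u D) (h' : Repr v D') :
    Repr (u - v) fun x => D x / D' x := by
  rw [sub_eq_add_neg]
  simpa only [div_eq_mul_inv] using h.add h'.neg

/-- The map of function fields of a dominant morphism. -/
def fK (f : X ⟶ Y) (hf : f (genericPoint X) = genericPoint Y) : Y.functionField →+* X.functionField :=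
  (Y.presheaf.stalkSpecializes (show f (genericPoint X) ⤳ genericPoint Y from specializes_of_eq hf) ≫
    f.stalkMap (genericPoint X)).hom

theorem fK_toK (f : X ⟶ Y) (hf : f (genericPoint X) = genericPoint Y) {V : Y.Opens} (hV : genericPoint Y ∈ V)
    (s : Γ(Y, V)) : fK f hf (toK hV s) = toK (V := f ⁻¹ᵁ V) (show f (genericPoint X) ∈ V by rw [hf]; exact hV) (f.app V s) := by
  show (Y.presheaf.germ V (genericPoint Y) hV ≫ Y.presheaf.stalkSpecializes _ ≫ f.stalkMap (genericPoint X)) s = _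
  rw [← Category.assoc, TopCat.Presheaf.germ_stalkSpecializes]
  exact (Scheme.Hom.germ_stalkMap_apply f V (genericPoint X) _ s)

theorem fK_unitAt (f : X ⟶ Y) (hf : f (genericPoint X) = genericPoint Y) {x : X} {a : Y.functionField}
    (ha : UnitAt (f x) a) : UnitAt x (fK f hf a) := by
  obtain ⟨V, hx, s, hs, rfl⟩ := ha
  exact ⟨f ⁻¹ᵁ V, hx, f.app V s, hs.map _, (fK_toK f hf _ s).symm⟩

/-- Local equations pull back. -/
theorem Repr.pullback {u : PC Y} {D : Y → Y.functionField} (h : Repr u D) (f : X ⟶ Y)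
    (hf : f (genericPoint X) = genericPoint Y) : Repr (pullP f u) fun x => fK f hf (D (f x)) := by
  obtain ⟨M, hM, rfl, V₀, h₀, e₀, r, hr, he₀, hD⟩ := h
  have h₀' : genericPoint X ∈ f ⁻¹ᵁ V₀ := show f (genericPoint X) ∈ V₀ by rw [hf]; exact h₀
  refine Repr.mk' (H11Ample.isInvertible_pullback f hM) (pullP_pc f M hM _) h₀'
    (he₀.pullSect f) (r := fK f hf r) ((map_ne_zero _).2 hr) fun x => ?_
  obtain ⟨V, e, hx, he⟩ := exists_gen hM (f x)
  obtain ⟨c, hc⟩ := transition (ei := e₀) he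
  refine ⟨f ⁻¹ᵁ V, OmegaSh.pullSect f M V e, f.app (V₀ ⊓ V) c, hx, he.pullSect f, ?_, ?_⟩
  · have := congrArg (OmegaSh.pullSect f M (V₀ ⊓ V)) hc
    rw [OmegaSh.pullSect_smul, H11Tilde.pullSect_res, H11Tilde.pullSect_res] at this
    exact this
  · have := fK_unitAt f hf (hD V e he c hc (f x) hx)
    rw [map_div₀, map_mul, fK_toK] at this
    exact this

end Groth.Agent.H25Weilp
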