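import Groth.Agent.H25Hat.Descend
import Groth.Agent.H25Hat.BaseK
import Groth.Agent.H25AbCube.Descent
import Groth.Agent.H25AbCube.SeesawPoints
import Groth.Agent.H25Dual.Bilinear
import Groth.Agent.H19Grp.EtaleEndo
import Groth.Agent.H13AlgSp.EtaleLocally
import Groth.Agent.H25Bdd.Descend

/-!
# Dividing a class whose translates by torsion points are trivial
-/

set_option autoImplicit false
set_option linter.style.haveILetI false
set_option linter.unusedSectionVars false
set_option backward.isDefEq.respectTransparency false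
set_option backward.isDefEq.respectTransparency.types false
set_option synthInstance.maxHeartbeats 400000
set_option maxHeartbeats 1600000
universe u

open CategoryTheory CategoryTheory.Limits MonoidalCategory CartesianMonoidalCategory MonObj AlgebraicGeometry
open Groth.Agent Groth.Agent.H25AbCube Groth.Agent.H25Dual Groth.Agent.H25Hat Groth.Agent.H25AbCube.GeomTate
open Groth.Agent.H25Index (Kbar gX gp gM)
open Groth.Agent.H25Theta (pb pT pC pI pO tI)

noncomputable section

attribute [local instance] Functor.grpObjObj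

namespace Groth.Agent.H25Weilp

/-- A class which vanishes on a limit vanishes at some stage. -/
theorem exists_stage_zero {W : Scheme.{u}} {I : Type u} [SmallCategory I] [IsCofiltered I] {E : I ⥤ Scheme.{u}}
    {C : Cone E} (hc : IsLimit C) [∀ (i j : I) (g : i ⟶ j), IsAffineHom (E.map g)]
    (hcpt : ∀ i, CompactSpace (E.obj i)) (hqs : ∀ i, QuasiSeparatedSpace (E.obj i)) {i₀ : I}
    (q : E.obj i₀ ⟶ W) (u : PC W) (hu : pullP (C.π.app i₀ ≫ q) u = 0) :
    ∃ (l : I) (φ : l ⟶ i₀), pullP (E.map φ ≫ q) u = 0 := by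
  haveI := hcpt i₀
  haveI := hqs i₀
  obtain ⟨M, hM, rfl⟩ := exists_rep u
  let F := (Scheme.Modules.pullback q).obj (Coh.structureModule W)
  let G := (Scheme.Modules.pullback q).obj M
  have hFi : PicF.IsInvertible F := H11Ample.isInvertible_pullback q H11Ample.isInvertible_structureModule
  have hGi : PicF.IsInvertible G := H11Ample.isInvertible_pullback q hM
  have hFp := finPres_of_inv hFi
  have hGp := finPres_of_inv hGi
  obtain ⟨e⟩ : Nonempty ((Scheme.Modules.pullback (C.π.app i₀)).obj F ≅
      (Scheme.Modules.pullback (C.π.app i₀)).obj G) := by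
    have hF' := H11Ample.isInvertible_pullback (C.π.app i₀) hFi
    have hG' := H11Ample.isInvertible_pullback (C.π.app i₀) hGi
    refine (pc_eq_iff hF' hG').1 ?_
    rw [pullP_pc _ F hFi, pullP_pc _ G hGi, pullP_pc q _ H11Ample.isInvertible_structureModule,
      pullP_pc q M hM, pullP_pullP, pullP_pullP, pc_one, map_zero]
    exact hu.symm
  obtain ⟨j, φ, h, hh⟩ := H7Lim.ModHom.exists_hom hc hFp (H29Fitt.isQCoh_of_isFP G hGp) e.hom
  have hiso : IsIso ((Scheme.Modules.pullback (C.π.app j)).map h) := by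
    have : IsIso (((H7Lim.ModStage.πIso φ).app F).inv ≫ (Scheme.Modules.pullback (C.π.app j)).map h ≫
        ((H7Lim.ModStage.πIso φ).app G).hom) := by rw [hh]; infer_instance
    haveI := this
    haveI : IsIso ((Scheme.Modules.pullback (C.π.app j)).map h ≫ ((H7Lim.ModStage.πIso φ).app G).hom) :=
      IsIso.of_isIso_comp_left ((H7Lim.ModStage.πIso φ).app F).inv _
    exact IsIso.of_isIso_comp_right _ ((H7Lim.ModStage.πIso φ).app G).hom
  haveI := hcpt j
  haveI := hqs j
  have hFj := finPres_of_inv (H11Ample.isInvertible_pullback (E.map φ) hFi)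
  have hGj := finPres_of_inv (H11Ample.isInvertible_pullback (E.map φ) hGi)
  obtain ⟨l, ψ, hl⟩ := (H7Lim.ModStage.isIso_iff hc (H29Fitt.isQCoh_of_isFP _ hFj)
    (H29Fitt.isQCoh_of_isFP _ hGj) h (H29Fitt.isFT_of_isFP _ hFj) hGj).1 hiso
  haveI := hl
  refine ⟨l, ψ ≫ φ, ?_⟩
  have hFl := H11Ample.isInvertible_pullback (E.map φ) hFi
  have hGl := H11Ample.isInvertible_pullback (E.map φ) hGi
  have heq := (pc_eq_iff (H11Ample.isInvertible_pullback (E.map ψ) hFl)
    (H11Ample.isInvertible_pullback (E.map ψ) hGl)).2 ⟨asIso ((Scheme.Modules.pullback (E.map ψ)).map h)⟩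
  rw [pullP_pc (E.map ψ) _ hFl, pullP_pc (E.map φ) F hFi, pullP_pc q _ H11Ample.isInvertible_structureModule,
    pullP_pc (E.map ψ) _ hGl, pullP_pc (E.map φ) G hGi, pullP_pc q M hM, pc_one] at heq
  simp only [pullP_pullP, map_zero] at heq
  rw [E.map_comp, Category.assoc]
  exact heq.symm

variable {k : Type u} [Field k] {A : Over (Spec (CommRingCat.of k))} [GrpObj A] [IsProper A.hom]
  [GeometricallyIntegral A.hom]

/-- A rigidified class trivial over an algebraic extension of the ground field is trivial. -/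
theorem eq_zero_of_field (Ω : Type u) [Field Ω] [Algebra k Ω] [Algebra.IsAlgebraic k Ω]
    (T : Over (Spec (CommRingCat.of k))) [QuasiCompact T.hom] [QuasiSeparated T.hom] (c : PC (A ⊗ T).left)
    (hr : ev c (lift (1 : T ⟶ A) (𝟙 T)) = 0)
    (h0 : pullP (pullback.fst (A ⊗ T).hom (σ k Ω)) c = 0) : c = 0 := by
  classical
  let f := (A ⊗ T).hom
  haveI : QuasiCompact f := inferInstanceAs (QuasiCompact (pullback.fst A.hom T.hom ≫ A.hom))
  haveI : QuasiSeparated f := inferInstanceAs (QuasiSeparated (pullback.fst A.hom T.hom ≫ A.hom))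
  have haff : ∀ i, IsAffine ((adD k Ω).obj i).left := fun i => isAffine_Spec _
  haveI : ∀ (i j : (Finset Ω)ᵒᵖ) (g : i ⟶ j), IsAffineHom ((H8Props.FunDescent.xtDiag f (adD k Ω)).map g) :=
    H8Props.FunDescent.isAffineHom_xtDiag f (adD k Ω) haff
  obtain ⟨l, φ, hl⟩ := exists_stage_zero (H8Props.FunDescent.isLimitXtCone f (adD k Ω) (adC k Ω) (adC_isLimit k Ω))
    (fun i => (compact_qs_stage k Ω f i).1) (fun i => (compact_qs_stage k Ω f i).2) (i₀ := Opposite.op ∅)
    (pullback.fst f ((adD k Ω).obj (Opposite.op ∅)).hom) c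
    ((congrArg (fun r => pullP r c) (FGA.XTmap_fst f ((adC k Ω).π.app (Opposite.op ∅)))).trans h0)
  have hl' : pullP (pullback.fst f ((adD k Ω).obj l).hom) c = 0 :=
    (congrArg (fun r => pullP r c) (FGA.XTmap_fst f ((adD k Ω).map φ))).symm.trans hl
  let E := Algebra.adjoin k (l.unop : Set Ω)
  haveI : Module.Finite k E :=
    Module.Finite.iff_fg.2 (fg_adjoin_of_finite l.unop.finite_toSet fun x _ => Algebra.IsIntegral.isIntegral x)
  let t : Spec (CommRingCat.of E) ⟶ Spec (CommRingCat.of k) := Spec.map (CommRingCat.ofHom (algebraMap k E))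
  haveI : Nontrivial E := inferInstance
  haveI : Flat t := Flat.SpecMap_iff.2 (RingHom.flat_algebraMap_iff.2 inferInstance)
  haveI : LocallyOfFinitePresentation t := by
    rw [HasRingHomProperty.Spec_iff (P := @LocallyOfFinitePresentation)]
    exact RingHom.finitePresentation_algebraMap.2 (Algebra.FinitePresentation.of_finiteType.1 inferInstance)
  haveI : Surjective t :=
    ⟨fun p => ⟨Classical.arbitrary (PrimeSpectrum E), Subsingleton.elim (α := PrimeSpectrum k) _ _⟩⟩
  let u := pullback.fst T.hom t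
  let U := AbDual.ovr T u
  let j := AbDual.ovrHom T u
  have hz : ev c (A ◁ j) = 0 := by
    let r : (A ⊗ U).left ⟶ pullback f t := pullback.lift (A ◁ j).left ((snd A U).left ≫ pullback.snd T.hom t) (by
      rw [Over.w, Category.assoc, ← pullback.condition]
      exact (Over.w (snd A U)).symm)
    show pullP (A ◁ j).left c = 0
    rw [show (A ◁ j).left = r ≫ pullback.fst f t from (pullback.lift_fst _ _ _).symm, ← pullP_pullP,
      show pullP (pullback.fst f t) c = 0 from hl']
    exact map_zero _
  obtain ⟨M, hM, rfl⟩ := exists_rep c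
  have hr' : Nonempty (pb (PicF.secT A.hom η[A].left (Over.w η[A]) T) M ≅ Coh.structureModule T.left) := by
    refine (pc_eq_iff (H11Ample.isInvertible_pullback _ hM) H11Ample.isInvertible_structureModule).1 ?_
    rw [pc_one]
    exact (pullP_pc _ M hM _).trans ((congrArg (fun g => pullP g (pc M hM)) (secT_eq T)).trans hr)
  have ho : Nonempty (pb (PicF.secT A.hom η[A].left (Over.w η[A]) T) (Coh.structureModule _) ≅
      Coh.structureModule T.left) := ⟨pO _⟩
  let c₁ : PicF.Rig A.hom η[A].left (Over.w η[A]) T := ⟨PicF.cl M, ⟨M, rfl, hM⟩, Quot.sound hr'⟩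
  let c₀ : PicF.Rig A.hom η[A].left (Over.w η[A]) T :=
    ⟨PicF.cl _, ⟨_, rfl, H11Ample.isInvertible_structureModule⟩, Quot.sound ho⟩
  have := H12Pic.RigDescent.eq_of_cover A.hom (Over.w η[A]) isIso_XTproj_app T u c₁ c₀ (by
    show PicF.pullCl _ (PicF.cl M) = PicF.pullCl _ (PicF.cl _)
    rw [← toCl_pc M hM, ← toCl_pc _ H11Ample.isInvertible_structureModule, ← toCl_pullP, ← toCl_pullP]
    refine congrArg toCl ?_
    rw [XTmap_eq]
    show ev (pc M hM) (A ◁ j) = pullP _ _
    rw [hz, pc_one, map_zero])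
  obtain ⟨i⟩ := H12Pic.Sep.iso_of_cl_eq (congrArg Subtype.val this)
  rw [← pc_one]
  exact (pc_eq_iff _ _).2 ⟨i⟩

section

variable (Ω : Type u) [Field Ω] [Algebra k Ω]

/-- The theta class after a change of the ground field. -/
theorem theta_bc (l : PC A.left) (T : Over (Spec (CommRingCat.of Ω))) (a : T ⟶ (bc k Ω).obj A) :
    ∃ e : (Over.map (σ k Ω)).obj ((bc k Ω).obj A ⊗ T) ⟶ A ⊗ (Over.map (σ k Ω)).obj T, IsIso e.left ∧
      pullP e.left (ev (theta l) (A ◁ adjPt Ω a)) =
        ev (theta (A := (bc k Ω).obj A) (pullP (pullback.fst A.hom (σ k Ω)) l)) (((bc k Ω).obj A) ◁ a) := by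
  let A' := (bc k Ω).obj A
  let T₀ := (Over.map (σ k Ω)).obj T
  let adj := Over.mapPullbackAdj (σ k Ω)
  let e : (Over.map (σ k Ω)).obj (A' ⊗ T) ⟶ A ⊗ T₀ :=
    lift (adjPt Ω (fst A' T)) ((Over.map (σ k Ω)).map (snd A' T))
  refine ⟨e, ?_, ?_⟩
  · rw [show e.left = (pullbackLeftPullbackSndIso A.hom (σ k Ω) T.hom).hom from ?_]
    · infer_instance
    · apply pullback.hom_ext
      · refine (congrArg CommaMorphism.left (lift_fst (adjPt Ω (fst A' T)) _)).trans ?_
        exact (adjPt_left Ω (fst A' T)).trans (pullbackLeftPullbackSndIso_hom_fst A.hom (σ k Ω) T.hom).symm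
      · refine (congrArg CommaMorphism.left (lift_snd (adjPt Ω (fst A' T)) _)).trans ?_
        exact (pullbackLeftPullbackSndIso_hom_snd A.hom (σ k Ω) T.hom).symm
  · show ev (T := (Over.map (σ k Ω)).obj (A' ⊗ T)) (ev (theta l) (A ◁ adjPt Ω a)) e = _
    rw [ev_comp, show e ≫ (A ◁ adjPt Ω a) = lift (adjPt Ω (fst A' T)) (adjPt Ω (snd A' T ≫ a)) by
      apply CartesianMonoidalCategory.hom_ext
      · rw [Category.assoc, whiskerLeft_fst, lift_fst, lift_fst]
      · rw [Category.assoc, whiskerLeft_snd, lift_snd_assoc, lift_snd]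
        exact (adj.homEquiv_naturality_left_symm _ _).symm, H25Hat.whisker_eq (A := A'), ev_theta, ev_theta,
      ev_adjPt, ev_adjPt, ev_adjPt, adjPt, adjPt, adjPt, symm_mul]

end

variable (Ω : Type u) [Field Ω] [Algebra k Ω] [IsAlgClosure k Ω]

/-- A class whose translates by the points killed by `N` are trivial can be divided by `N` up to translation. -/
theorem exists_theta_div {N : ℕ} (hNk : (N : k) ≠ 0) (m : PC A.left)
    (hgeo : ∀ y : 𝟙_ (Over (Spec (CommRingCat.of Ω))) ⟶ (bc k Ω).obj A, y ^ N = 1 →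
      transl (A := (bc k Ω).obj A) (pullP (pullback.fst A.hom (σ k Ω)) m) y =
        pullP (pullback.fst A.hom (σ k Ω)) m) :
    ∃ w : PC (A ⊗ A).left, ev w (A ◁ ((𝟙 A) ^ N : A ⟶ A)) = theta m ∧
      ev w (lift (1 : A ⟶ A) (𝟙 A)) = 0 := by
  haveI : Algebra.IsAlgebraic k Ω := IsAlgClosure.isAlgebraic
  haveI : IsAlgClosed Ω := IsAlgClosure.isAlgClosed k
  haveI : IsCommMonObj A := isCommMonObj_of_av
  haveI : IsIntegral A.left := GeometricallyIntegral.isIntegral_of_subsingleton A.hom
  have hN : 0 < N := Nat.pos_of_ne_zero fun h => hNk (by rw [h, Nat.cast_zero])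
  let q : A ⟶ A := (𝟙 A) ^ N
  haveI : IsMonHom q := isMonHom_pow N
  haveI : Flat q.left := flat_pow hN
  haveI : Surjective q.left := surjective_pow hN
  haveI : IsFinite q.left := isFinite_pow hN
  haveI : Etale q.left := by
    have := H19Grp.etale_zpow_field' A (N : ℤ) (by rwa [Int.cast_natCast])
    rwa [zpow_natCast] at this
  -- the kernel
  let fK := pullback.fst q.left (η[A]).left
  let K : Over (Spec (CommRingCat.of k)) := Over.mk (fK ≫ A.hom)
  let i : K ⟶ A := Over.homMk fK rfl
  have hK : K.hom = pullback.snd q.left (η[A]).left ≫ 𝟙 _ := by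
    show fK ≫ A.hom = _
    rw [← Over.w q, pullback.condition_assoc, Over.w η[A]]
    rfl
  haveI : Etale K.hom := by rw [hK]; infer_instance
  haveI : QuasiCompact K.hom := by rw [hK]; infer_instance
  haveI : QuasiSeparated K.hom := by rw [hK]; infer_instance
  haveI : IsSeparated K.hom := by rw [hK]; infer_instance
  have hi : i ^ N = 1 := by
    rw [← comp_pow_id]
    refine Over.OverMorphism.ext ?_
    show fK ≫ q.left = _
    rw [H19Grp.one_left, pullback.condition]
    congr 1
    exact (Category.comp_id _).symm.trans hK.symm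
  let c : PC (A ⊗ K).left := ev (theta m) (A ◁ i)
  have hc : c = 0 := by
    refine eq_zero_of_field Ω K c ?_ ?_
    · show ev (ev _ _) _ = 0
      rw [ev_comp, show lift (1 : K ⟶ A) (𝟙 K) ≫ (A ◁ i) = lift 1 i by
        apply CartesianMonoidalCategory.hom_ext <;> simp]
      exact theta_one_left m i
    · let A' := (bc k Ω).obj A
      let K' := (bc k Ω).obj K
      let i' : K' ⟶ A' := (bc k Ω).map i
      have hi' : i' ^ N = 1 := by
        refine ((map_pow (Functor.homMonoidHom (bc k Ω)) i N).symm.trans ?_)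
        rw [hi]
        exact map_one (Functor.homMonoidHom (bc k Ω))
      haveI : IsProper A'.hom := MorphismProperty.pullback_snd (P := @IsProper) _ _ ‹IsProper A.hom›
      haveI : GeometricallyIntegral A'.hom :=
        MorphismProperty.pullback_snd (P := @GeometricallyIntegral) _ _ ‹GeometricallyIntegral A.hom›
      haveI : Etale K'.hom := MorphismProperty.pullback_snd (P := @Etale) _ _ ‹Etale K.hom›
      haveI : IsReduced K'.left := H13AlgSp.isReduced_of_smooth_mor K'.hom
      let m' : PC A'.left := pullP (pullback.fst A.hom (σ k Ω)) m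
      have hz : ev (theta (A := A') m') (A' ◁ i') = 0 := by
        refine eq_zero_of_slices A' K' _ η[A'] (fun t => ?_) ?_
        · have hy : (t ≫ i') ^ N = 1 := by rw [← MonObj.comp_pow, hi', MonObj.comp_one]
          rw [ev_comp, show lift (𝟙 A') (toUnit A' ≫ t) ≫ (A' ◁ i') = lift (𝟙 A') (toUnit A' ≫ t ≫ i') by
            apply CartesianMonoidalCategory.hom_ext <;> simp, ev_theta, ev_toUnit, sub_zero,
            show ev m' (𝟙 A') = m' from pullP_id _,
            show ev m' (𝟙 A' * (toUnit A' ≫ t ≫ i')) = m' from hgeo _ hy, sub_self]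
        · rw [ev_comp, show lift (toUnit K' ≫ η[A']) (𝟙 K') ≫ (A' ◁ i') = lift 1 i' by
            apply CartesianMonoidalCategory.hom_ext
            · simp [Hom.one_def]
            · simp]
          exact theta_one_left m' i'
      obtain ⟨e, he, hee⟩ := theta_bc Ω m K' i'
      rw [hz] at hee
      haveI := he
      have h3 : ev (theta m) (A ◁ adjPt Ω i') = 0 := by
        have := congrArg (pullP (inv e.left)) hee
        rwa [pullP_pullP, IsIso.inv_hom_id, pullP_id, map_zero] at this
      let p : (Over.map (σ k Ω)).obj K' ⟶ K := Over.homMk (pullback.fst K.hom (σ k Ω)) pullback.condition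
      have hp : adjPt Ω i' = p ≫ i := by
        refine Over.OverMorphism.ext ?_
        rw [adjPt_left]
        show i'.left ≫ _ = pullback.fst K.hom (σ k Ω) ≫ fK
        simp only [i', Over.pullback_map_left, pullback.lift_fst]
        rfl
      rw [hp, whiskerLeft_comp, ← ev_comp] at h3
      let r : pullback (A ⊗ K).hom (σ k Ω) ⟶ (A ⊗ (Over.map (σ k Ω)).obj K').left :=
        pullback.lift (pullback.fst _ _ ≫ (fst A K).left)
          (pullback.lift (pullback.fst _ _ ≫ (snd A K).left) (pullback.snd _ _) (by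
            rw [Category.assoc, Over.w (snd A K)]; exact pullback.condition))
          (by
            show _ = _ ≫ pullback.snd K.hom (σ k Ω) ≫ σ k Ω
            rw [pullback.lift_snd_assoc, Category.assoc, Over.w (fst A K)]
            exact pullback.condition)
      have hr : r ≫ (A ◁ p).left = pullback.fst _ _ := by
        apply pullback.hom_ext
        · show (r ≫ (A ◁ p).left) ≫ (fst A K).left = _ ≫ (fst A K).left
          rw [Category.assoc, ← Over.comp_left, whiskerLeft_fst]
          exact pullback.lift_fst _ _ _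
        · show (r ≫ (A ◁ p).left) ≫ (snd A K).left = _ ≫ (snd A K).left
          rw [Category.assoc, ← Over.comp_left, whiskerLeft_snd, Over.comp_left, ← Category.assoc]
          show (r ≫ (snd A _).left) ≫ pullback.fst K.hom (σ k Ω) = _
          rw [show r ≫ (snd A _).left = _ from pullback.lift_snd _ _ _, pullback.lift_fst]
      rw [← hr, ← pullP_pullP]
      show pullP r (ev c (A ◁ p)) = 0
      rw [h3, map_zero]
  obtain ⟨P, hP, hPq, hPr⟩ := exists_descend q (theta m) (theta_one_left m (𝟙 A)) fun S x y hxy => by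
    have hz : (x / y) ≫ q = 1 := by rw [div_eq_mul_inv, MonObj.mul_comp, GrpObj.inv_comp, hxy, mul_inv_cancel]
    let z : S ⟶ K := Over.homMk (pullback.lift (x / y).left S.hom (by
      show (x / y).left ≫ q.left = _
      rw [← Over.comp_left, hz, H19Grp.one_left])) (by
        show pullback.lift _ _ _ ≫ fK ≫ A.hom = _
        rw [pullback.lift_fst_assoc, Over.w])
    have hzi : z ≫ i = x / y := Over.OverMorphism.ext (pullback.lift_fst _ _ _)
    have hxy' : ev (theta m) (A ◁ x) = ev (theta m) (A ◁ (x / y)) + ev (theta m) (A ◁ y) := by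
      rw [H25Hat.whisker_eq, H25Hat.whisker_eq, H25Hat.whisker_eq, ← (bilinear (theta m)
        (fun b => theta_one_left m b)
        (fun x => by rw [ev_theta, _root_.mul_one, show ev m (1 : _ ⟶ A) = 0 from ev_one m]; abel)).2,
        ← MonObj.comp_mul, div_mul_cancel]
    rw [hxy', ← hzi, whiskerLeft_comp, ← ev_comp, show ev (theta m) (A ◁ i) = 0 from hc,
      show ev (0 : PC (A ⊗ K).left) (A ◁ z) = 0 from map_zero _, zero_add]
  exact ⟨_, hPq, hPr⟩

end Groth.Agent.H25Weilp
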