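import Groth.Agent.H25Weilp.Pairing
import Groth.Agent.H25Weilp.Torsion
import Groth.Agent.H25TateConj.Range
import Groth.Agent.H25Bdd.Spanning
import Groth.Agent.H25AbCube.DetDeg
import Groth.Agent.H25AbCube.GeomCharPoly

/-!
# Quotients by maximal isotropic torsion subgroups lie in finitely many classes
-/

set_option autoImplicit false
set_option linter.style.haveILetI false
set_option linter.unusedSectionVars false
set_option backward.isDefEq.respectTransparency false
set_option backward.isDefEq.respectTransparency.types false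
set_option synthInstance.maxHeartbeats 400000
set_option maxHeartbeats 1600000
universe u

open CategoryTheory CategoryTheory.Limits MonoidalCategory CartesianMonoidalCategory MonObj AlgebraicGeometry
open Groth.Agent Groth.Agent.H25AbCube Groth.Agent.H25AbCube.GeomTate

open Groth.Agent.H25Index (hd)

noncomputable section

attribute [local instance] Functor.grpObjObj
attribute [local instance] Groth.Agent.H25AbCube.overOf

namespace Groth.Agent.H25Weilp

/-- The kernel of a component consists of the multiples. -/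
theorem exists_of_component_eq_zero {S : Scheme.{u}} {A T : Over S} [GrpObj A] [IsCommMonObj A] {l : ℕ}
    [Fact l.Prime] (z : AbDual.TateMod A l T) (n : ℕ) (hz : AbDual.TateMod.component A l T n z = 0) :
    ∃ y : AbDual.TateMod A l T, z = l ^ n • y := by
  let d : ℕ → Additive (T ⟶ A) := fun m => AbDual.TateMod.component A l T m z
  have hsh : ∀ j m, l ^ j • d (m + j) = d m := fun j => by
    induction j with
    | zero => simp
    | succ j ih =>
      intro m
      rw [pow_succ, mul_smul, ← _root_.add_assoc, show l • d (m + j + 1) = d (m + j) from z.compat _, ih]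
  refine ⟨⟨fun m => d (m + n), fun m => ?_, fun m => ?_⟩, AbDual.TateMod.ext fun m => Eq.symm ?_⟩
  · show l ^ m • d (m + n) = 0
    rw [show m + n = n + m from _root_.add_comm m n, hsh]
    exact hz
  · show l • d (m + 1 + n) = d (m + n)
    rw [show m + 1 + n = m + n + 1 by omega]
    exact z.compat _
  · show l ^ n • d (m + n) = d m
    exact hsh n m

variable {k : Type u} [Field k] [Finite k] (Ω : Type u) [Field Ω] [Algebra k Ω] [IsAlgClosure k Ω] [IsAlgClosed Ω]
  (l : ℕ) [Fact l.Prime] {X : Over (Spec (CommRingCat.of k))} [GrpObj X] [IsCommMonObj X]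
  [IsProper X.hom] [GeometricallyIntegral X.hom]

/-- The geometric point of the base change attached to a point. -/
abbrev gpt (z : AbDual.TateMod X l (SGA7.pt Ω)) (n : ℕ) :
    𝟙_ (Over (Spec (CommRingCat.of Ω))) ⟶ (bc k Ω).obj X :=
  ψ X ((AbDual.TateMod.component X l (SGA7.pt Ω) n z).toMul)

/-- The quotients by a maximal isotropic saturated submodule lie in finitely many isomorphism classes. -/
theorem finite_quotients (hl : (l : k) ≠ 0) {g : ℕ} (hg : topologicalKrullDim X.left = g)
    [IsIntegral ((bc k Ω).obj X).left] (M : X.left.Modules) (hM : CohB1.IsAmple M)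
    (hsym : ev (pc M hM.1) ((𝟙 X)⁻¹) = pc M hM.1)
    (L : Submodule ℤ_[l] (AbDual.TateMod X l (SGA7.pt Ω))) [Module.Free ℤ_[l] L] [Module.Finite ℤ_[l] L]
    (hrank : Module.finrank ℤ_[l] L = g)
    (hsat : ∀ (n : ℕ) (y : AbDual.TateMod X l (SGA7.pt Ω)), (l ^ n) • y ∈ L → y ∈ L)
    (hiso : ∀ z ∈ L, ∀ w ∈ L, ∀ n, IsPair (pullP (pullback.fst X.hom (σ k Ω)) (pc M hM.1)) (l ^ n)
      (gpt Ω l z n) (gpt Ω l w n) 1) :
    ∃ (J : Type u) (_ : Finite J) (F : J → Over (Spec (CommRingCat.of k))),
      ∀ (Y : Over (Spec (CommRingCat.of k))) [GrpObj Y] [IsCommMonObj Y] [IsProper Y.hom] [GeometricallyIntegral Y.hom]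
        (u : X ⟶ Y) [IsMonHom u] (v : Y ⟶ X) [IsMonHom v] (m : ℕ),
        u ≫ v = (𝟙 X) ^ (l ^ m) → v ≫ u = (𝟙 Y) ^ (l ^ m) →
        (∀ a : SGA7.pt Ω ⟶ X, a ≫ u = 1 ↔ ∃ z ∈ L, (AbDual.TateMod.component X l (SGA7.pt Ω) m z).toMul = a) →
        ∃ i, Nonempty (Y ≅ F i) := by
  classical
  haveI : Algebra.IsAlgebraic k Ω := IsAlgClosure.isAlgebraic
  haveI : IsAlgClosed Ω := IsAlgClosure.isAlgClosed k
  choose n Bs hBs using fun R => H25Bdd.finite_isAmple k g R
  refine ⟨ULift.{u} (Σ R : Fin (4 ^ g * hd k M 0 + 1), Fin (n R)), inferInstance, fun i => Bs _ i.down.2, ?_⟩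
  intro Y _ _ _ _ u _ v _ m huv hvu hker
  haveI : IsIntegral X.left := GeometricallyIntegral.isIntegral_of_subsingleton X.hom
  haveI : IsIntegral Y.left := GeometricallyIntegral.isIntegral_of_subsingleton Y.hom
  have hlp : l.Prime := Fact.out
  set N := l ^ m with hNdef
  have hN : 0 < N := pow_pos hlp.pos m
  have hNk : (N : k) ≠ 0 := by rw [hNdef, Nat.cast_pow]; exact pow_ne_zero m hl
  have hNΩ : (N : Ω) ≠ 0 := fun h => hNk ((algebraMap k Ω).injective (by rw [map_natCast, map_zero, h]))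
  -- finiteness and dimensions
  haveI := isFinite_pow (A := X) hN
  haveI := surjective_pow (A := X) hN
  haveI := isFinite_pow (A := Y) hN
  haveI := surjective_pow (A := Y) hN
  haveI : IsFinite (u.left ≫ v.left) := by rw [← Over.comp_left, huv]; infer_instance
  haveI : IsFinite (v.left ≫ u.left) := by rw [← Over.comp_left, hvu]; infer_instance
  haveI : IsSeparated v.left := by
    haveI : IsSeparated (v.left ≫ X.hom) := by rw [Over.w]; infer_instance
    exact IsSeparated.of_comp v.left X.hom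
  haveI : IsSeparated u.left := by
    haveI : IsSeparated (u.left ≫ Y.hom) := by rw [Over.w]; infer_instance
    exact IsSeparated.of_comp u.left Y.hom
  haveI : IsFinite u.left := IsFinite.of_comp u.left v.left
  haveI : IsFinite v.left := IsFinite.of_comp v.left u.left
  haveI : Surjective u.left := by
    haveI : Surjective (v.left ≫ u.left) := by rw [← Over.comp_left, hvu]; infer_instance
    exact Surjective.of_comp v.left u.left
  haveI : Surjective v.left := by
    haveI : Surjective (u.left ≫ v.left) := by rw [← Over.comp_left, huv]; infer_instance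
    exact Surjective.of_comp u.left v.left
  have hgY : topologicalKrullDim Y.left = g := by
    rw [← hg]
    refine le_antisymm (H17.topologicalKrullDim_le_of_noSpecializationsInFibres v.left v.left.continuous fun x y h e =>
      H17.AssPts.eq_of_specializes_of_map_eq v.left h e) ?_
    exact H17.topologicalKrullDim_le_of_specializingMap v.left v.left.isClosedMap.specializingMap v.left.surjective
  haveI := flat_of_finite u hg hgY
  haveI := flat_of_finite v hgY hg
  -- base change
  let X' := (bc k Ω).obj X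
  let Y' := (bc k Ω).obj Y
  let u' : X' ⟶ Y' := (bc k Ω).map u
  let v' : Y' ⟶ X' := (bc k Ω).map v
  haveI : IsProper X'.hom := MorphismProperty.pullback_snd (P := @IsProper) _ _ ‹IsProper X.hom›
  haveI : IsProper Y'.hom := MorphismProperty.pullback_snd (P := @IsProper) _ _ ‹IsProper Y.hom›
  haveI : GeometricallyIntegral X'.hom :=
    MorphismProperty.pullback_snd (P := @GeometricallyIntegral) _ _ ‹GeometricallyIntegral X.hom›
  haveI : GeometricallyIntegral Y'.hom :=
    MorphismProperty.pullback_snd (P := @GeometricallyIntegral) _ _ ‹GeometricallyIntegral Y.hom›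
  haveI : IsIntegral Y'.left := GeometricallyIntegral.isIntegral_of_subsingleton Y'.hom
  haveI : IsMonHom u' := inferInstanceAs (IsMonHom ((bc k Ω).map u))
  haveI : IsMonHom v' := inferInstanceAs (IsMonHom ((bc k Ω).map v))
  haveI : IsFinite u'.left := MorphismProperty.of_isPullback (isPullback_map (Ω := Ω) X u) ‹IsFinite u.left›
  haveI : Flat u'.left := MorphismProperty.of_isPullback (isPullback_map (Ω := Ω) X u) ‹Flat u.left›
  haveI : Surjective u'.left := MorphismProperty.of_isPullback (isPullback_map (Ω := Ω) X u) ‹Surjective u.left›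
  haveI : Surjective v'.left := MorphismProperty.of_isPullback (isPullback_map (Ω := Ω) Y v) ‹Surjective v.left›
  have huv' : u' ≫ v' = (𝟙 X') ^ N := by
    rw [← Functor.map_comp, huv]
    refine (map_pow (Functor.homMonoidHom (bc k Ω)) (𝟙 X) N).trans ?_
    exact congrArg (· ^ N) ((bc k Ω).map_id X)
  have hvu' : v' ≫ u' = (𝟙 Y') ^ N := by
    rw [← Functor.map_comp, hvu]
    refine (map_pow (Functor.homMonoidHom (bc k Ω)) (𝟙 Y) N).trans ?_
    exact congrArg (· ^ N) ((bc k Ω).map_id Y)
  have hψu : ∀ a : SGA7.pt Ω ⟶ X, ψ X a ≫ u' = 1 ↔ a ≫ u = 1 := fun a => by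
    rw [← ψ_comp, ← map_one (ψ (Ω := Ω) Y)]
    exact (ψ Y).injective.eq_iff
  have hkerL : ∀ x : 𝟙_ (Over (Spec (CommRingCat.of Ω))) ⟶ X', x ≫ u' = 1 → ∃ z ∈ L, gpt Ω l z m = x := by
    intro x hx
    obtain ⟨z, hz, hzx⟩ := (hker ((ψ X).symm x)).1 ((hψu _).1 (by rwa [MulEquiv.apply_symm_apply]))
    exact ⟨z, hz, (congrArg (ψ X) hzx).trans ((ψ X).apply_symm_apply x)⟩
  -- the pulled back class is fixed by the torsion
  let ℓ : PC X'.left := pullP (pullback.fst X.hom (σ k Ω)) (pc M hM.1)
  let μ₀ := ev (pc M hM.1) v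
  have hsq : pullP (pullback.fst Y.hom (σ k Ω)) μ₀ = ev ℓ v' := by
    show pullP _ (pullP v.left _) = pullP v'.left (pullP _ _)
    rw [pullP_pullP, pullP_pullP, (isPullback_map (Ω := Ω) Y v).w]
  obtain ⟨w, hw, hwl⟩ := exists_theta_div Ω hNk μ₀ fun y hy => by
    rw [hsq, H25Pic0.transl_pullP]
    have hxu : (y ≫ v') ≫ u' = 1 := by rw [Category.assoc, hvu', comp_pow_id, hy]
    have hxN : (y ≫ v') ^ N = 1 := by rw [← MonObj.pow_comp, hy, MonObj.one_comp]
    obtain ⟨z, hz, hzx⟩ := hkerL _ hxu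
    have h0 : pullP v'.left (transl ℓ (y ≫ v') - ℓ) = 0 := by
      refine pullP_eq_zero_of_isPair hNΩ hxN u' v' huv' fun z' hz' => ?_
      obtain ⟨w', hw', rfl⟩ := hkerL z' hz'
      rw [← hzx]
      exact hiso z hz w' hw' m
    exact sub_eq_zero.1 ((map_sub (pullP v'.left) _ _).symm.trans h0)
  -- division
  have hbl : ∀ {T : Over (Spec (CommRingCat.of k))} (b : T ⟶ Y), ev w (lift 1 b) = 0 := fun {T} b => by
    rw [show lift (1 : T ⟶ Y) b = b ≫ lift (1 : Y ⟶ Y) (𝟙 Y) by
      apply CartesianMonoidalCategory.hom_ext <;> simp, ← ev_comp, hwl]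
    exact map_zero _
  have hbr : ∀ {T : Over (Spec (CommRingCat.of k))} (a : T ⟶ Y), ev w (lift a 1) = 0 := fun {T} a => by
    rw [show lift a (1 : T ⟶ Y) = lift a (1 : T ⟶ Y) ≫ (Y ◁ ((𝟙 Y) ^ N : Y ⟶ Y)) by
      apply CartesianMonoidalCategory.hom_ext
      · simp
      · rw [lift_snd, Category.assoc, whiskerLeft_snd, lift_snd_assoc, comp_pow_id, one_pow], ← ev_comp, hw,
      ev_theta, _root_.mul_one, show ev μ₀ (1 : T ⟶ Y) = 0 from ev_one μ₀]
    abel
  obtain ⟨-, hadd⟩ := H25Dual.bilinear w hbl hbr (T := Y)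
  let μ₁ := ev w (lift (𝟙 Y) (𝟙 Y))
  have hsym' : ev μ₀ ((𝟙 Y)⁻¹) = μ₀ := by
    show ev (ev _ v) _ = ev _ v
    rw [ev_comp, GrpObj.inv_comp, Category.id_comp, show v⁻¹ = v ≫ (𝟙 X)⁻¹ by rw [GrpObj.comp_inv, Category.comp_id],
      ← ev_comp, hsym]
  have hμ : N • μ₁ = μ₀ + μ₀ := by
    have h1 : ∀ j : ℕ, ev w (lift (𝟙 Y) ((𝟙 Y) ^ j)) = j • μ₁ := fun j => by
      induction j with
      | zero => rw [pow_zero, zero_nsmul, hbr]
      | succ j ih => rw [pow_succ, hadd, ih, succ_nsmul]
    have h2 : ev (theta μ₀) (lift (𝟙 Y) (𝟙 Y)) = μ₀ + μ₀ := by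
      rw [ev_theta, ← pow_two, H25AbCube.ev_pow, show ev μ₀ (𝟙 Y) = μ₀ from pullP_id μ₀, hsym', Nat.choose_self,
        one_nsmul, two_nsmul]
      abel
    rw [← h1 N, ← h2, ← hw, ev_comp]
    congr 1
    apply CartesianMonoidalCategory.hom_ext
    · simp
    · rw [lift_snd, Category.assoc, whiskerLeft_snd, lift_snd_assoc, Category.id_comp]
  -- the module
  obtain ⟨P, hP, hPe⟩ := exists_rep μ₁
  haveI : IsAffineHom v.left := inferInstance
  let M' := (Scheme.Modules.pullback v.left).obj M
  have hM' : CohB1.IsAmple M' := H11Ample.isAmple_pullback_of_isAffineHom v.left hM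
  have hM'e : pc M' hM'.1 = μ₀ := pullP_pc v.left M hM.1 _
  have hM2 := H25Bdd.isAmple_square (B := Y) hM'
  obtain ⟨φ⟩ := (pc_eq_iff (H11Ample.isInvertible_tensorPow hP N) hM2.1).1
    (by rw [H25Pic0.pc_tensorPow P hP N, hPe, hμ, pc_tensor hM'.1 hM'.1, hM'e])
  haveI : CompactSpace Y.left := QuasiCompact.compactSpace_of_compactSpace Y.hom
  haveI : QuasiSeparatedSpace Y.left := quasiSeparatedSpace_of_quasiSeparated Y.hom
  have hPa : CohB1.IsAmple P := (H11Ample.isAmple_tensorPow_iff hP N hN).2 (H11Ample.isAmple_of_iso φ.symm hM2)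
  -- the degree
  have hdeg : degree v ≤ N ^ g := by
    have hgX' : topologicalKrullDim X'.left = g := dim_bc (Ω := Ω) X hg
    have hgY' : topologicalKrullDim Y'.left = g := dim_bc (Ω := Ω) Y hgY
    have hdu : N ^ g ≤ degree u := by
      rw [← degree_bc (Ω := Ω) X u hg hgY hgX' hgY']
      haveI : IsCommMonObj X' := isCommMonObj_of_av
      haveI : IsCommMonObj Y' := isCommMonObj_of_av
      obtain ⟨hfin, hdvd⟩ := card_ptsKer_dvd u' (finrank_eq_degree u' hgX' hgY')
      haveI := hfin
      have hpos : 0 < degree u' := by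
        rw [← finrank_eq_degree u' hgX' hgY' (u'.left (genericPoint X'.left))]
        exact u'.left.one_le_finrank_map _
      refine le_trans ?_ (Nat.le_of_dvd hpos hdvd)
      let b := Module.finBasisOfFinrankEq ℤ_[l] L hrank
      haveI : NeZero N := ⟨hN.ne'⟩
      let f : (Fin g → ZMod N) → ↥(ptsKer u') := fun c =>
        ⟨gpt Ω l ((∑ i, (c i).val • b i : L) : AbDual.TateMod X l (SGA7.pt Ω)) m,
          (mem_ptsKer u' _).2 ((hψu _).2 ((hker _).2 ⟨_, (∑ i, (c i).val • b i : L).2, rfl⟩))⟩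
      have hf : Function.Injective f := by
        intro c c' h
        have h' := (ψ X).injective (congrArg Subtype.val h)
        obtain ⟨y, hy⟩ := exists_of_component_eq_zero
          (((∑ i, (c i).val • b i : L) : AbDual.TateMod X l (SGA7.pt Ω)) - ((∑ i, (c' i).val • b i : L) : AbDual.TateMod X l (SGA7.pt Ω))) m
          (by rw [map_sub, sub_eq_zero]; exact Additive.toMul.injective h')
        have hyL : y ∈ L := hsat m y (hy ▸ sub_mem (SetLike.coe_mem _) (SetLike.coe_mem _))
        have e : (∑ i, (c i).val • b i) - (∑ i, (c' i).val • b i) = (N : ℤ_[l]) • (⟨y, hyL⟩ : L) :=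
          Subtype.ext (hy.trans (Nat.cast_smul_eq_nsmul ℤ_[l] N y).symm)
        funext i
        have e2 := congrArg (fun z => b.repr z i) e
        have hrep : ∀ c : Fin g → ZMod N, b.repr (∑ j, (c j).val • b j) i = ((c i).val : ℤ_[l]) := fun c => by
          rw [show (∑ j, (c j).val • b j) = ∑ j, ((c j).val : ℤ_[l]) • b j from
            Finset.sum_congr rfl fun j _ => (Nat.cast_smul_eq_nsmul ℤ_[l] _ _).symm, b.repr_sum_self]
        simp only [map_sub, map_smul, Finsupp.coe_sub, Pi.sub_apply, hrep, Finsupp.coe_smul, Pi.smul_apply,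
          smul_eq_mul] at e2
        have e3 := congrArg (PadicInt.toZModPow m) e2
        rw [map_sub, map_mul, map_natCast, map_natCast, map_natCast, ZMod.natCast_self, zero_mul, sub_eq_zero,
          ZMod.natCast_zmod_val, ZMod.natCast_zmod_val] at e3
        exact e3
      have := Nat.card_le_card_of_injective f hf
      rwa [Nat.card_pi, Finset.prod_const, Finset.card_univ, Fintype.card_fin, Nat.card_zmod] at this
    have hprod : degree u * degree v = N ^ (2 * g) := by
      rw [← degree_comp hg hgY hg u v, huv]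
      have h := degree_zpow_id (A := X) hg (N : ℤ)
      rw [zpow_natCast, Int.cast_natCast, ← Nat.cast_pow] at h
      exact_mod_cast h
    have hdv : N ^ g * degree v ≤ N ^ g * N ^ g :=
      (Nat.mul_le_mul_right _ hdu).trans (by rw [hprod, two_mul, pow_add])
    exact Nat.le_of_mul_le_mul_left hdv (pow_pos hN g)
  have hchi : ∀ {Z : Over (Spec (CommRingCat.of k))} [GrpObj Z] [IsProper Z.hom] [GeometricallyIntegral Z.hom]
      {Q : Z.left.Modules}, CohB1.IsAmple Q → @Curv2.euler k _ Z.left ⟨Z.hom⟩ Q = (hd k Q 0 : ℤ) := by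
    intro Z _ _ _ Q hQ
    refine (finsum_eq_single _ 0 fun j hj => ?_).trans ?_
    · haveI := H25Bdd.subsingleton_HH_ample (B := Z) hQ (Nat.pos_of_ne_zero hj)
      rw [Module.finrank_zero_of_subsingleton]
      simp
    · simp [hd]
  have hdv0 : degree v ≠ 0 := by
    rw [← finrank_eq_degree v hgY hg (v.left (genericPoint Y.left))]
    exact Nat.one_le_iff_ne_zero.1 (v.left.one_le_finrank_map _)
  have hdM' : hd k M' 0 = degree v * hd k M 0 := by
    have h := H25Index.euler_pullback hM v g hg.le (degree v) hdv0 (finrank_eq_degree v hgY hg) M hM.1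
    rw [hchi hM', hchi hM] at h
    exact_mod_cast h
  have hdP : N ^ g * hd k P 0 = 2 ^ g * (degree v * hd k M 0) := by
    have e2 : CohB1.tensorMod M' M' ≅ CohB1.tensorPow M' 2 :=
      (H25Theta.tI (H10Coh.Tw.commIso _ _ ≪≫ H10Coh.Tw.rightUnitIso _) (Iso.refl M')).symm
    rw [← H25Bdd.hd_pow hgY hPa hN, H25Index.hd_congr φ 0, H25Index.hd_congr e2 0, H25Bdd.hd_pow hgY hM' two_pos, hdM']
  have hle : hd k (CohB1.tensorMod P P) 0 ≤ 4 ^ g * hd k M 0 := by
    have e2 : CohB1.tensorMod P P ≅ CohB1.tensorPow P 2 :=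
      (H25Theta.tI (H10Coh.Tw.commIso _ _ ≪≫ H10Coh.Tw.rightUnitIso _) (Iso.refl P)).symm
    rw [H25Index.hd_congr e2 0, H25Bdd.hd_pow hgY hPa two_pos, show (4 : ℕ) = 2 * 2 from rfl, Nat.mul_pow,
      _root_.mul_assoc]
    refine Nat.mul_le_mul_left _ (Nat.le_of_mul_le_mul_left ?_ (pow_pos hN g))
    rw [hdP, mul_left_comm (N ^ g)]
    exact Nat.mul_le_mul_left _ (Nat.mul_le_mul_right _ hdeg)
  obtain ⟨i, hi⟩ := hBs _ Y P hgY hPa rfl
  exact ⟨⟨⟨⟨_, Nat.lt_succ_of_le hle⟩, i⟩⟩, hi⟩

end Groth.Agent.H25Weilp
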