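import Groth.Agent.H25Weilp.Multiplicity
import Groth.Agent.H25AbCube.EndAlgebra

/-!
# The centre of the rational endomorphism algebra over a finite field
-/

set_option autoImplicit false
set_option linter.style.haveILetI false
set_option linter.unusedSectionVars false
set_option backward.isDefEq.respectTransparency false
set_option synthInstance.maxHeartbeats 400000
set_option maxHeartbeats 1600000
universe u

open CategoryTheory CategoryTheory.Limits MonoidalCategory CartesianMonoidalCategory MonObj GrpObj AlgebraicGeometry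
open scoped TensorProduct
open Groth.Agent Groth.Agent.H25AbCube Groth.Agent.H25AbCube.GeomTate

noncomputable section

namespace Groth.Agent.H25Weilp

section linear

open Polynomial Module

variable {L V : Type*} [Field L] [AddCommGroup V] [Module L V] [FiniteDimensional L V]

/-- What commutes with the commutant of a semisimple operator is a polynomial in it. -/
theorem exists_eq_aeval_of_commute (g z : Module.End L V) (hg : g.IsSemisimple)
    (hz : ∀ c : Module.End L V, c * g = g * c → c * z = z * c) : ∃ p : L[X], z = aeval g p := by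
  classical
  haveI : IsSemisimpleModule L[X] (AEval' g) := hg
  let e := AEval'.of g
  let com : Module.End L[X] (AEval' g) → Module.End L V := fun φ =>
    e.symm.toLinearMap ∘ₗ (φ.restrictScalars L) ∘ₗ e.toLinearMap
  have hcom : ∀ φ, com φ * g = g * com φ := fun φ => LinearMap.ext fun v => by
    refine e.injective ?_
    show e (e.symm (φ (e (g v)))) = e (g (e.symm (φ (e v))))
    rw [LinearEquiv.apply_symm_apply, ← AEval'.X_smul_of, map_smul, ← AEval'.X_smul_of, LinearEquiv.apply_symm_apply]
  let f : Module.End (Module.End L[X] (AEval' g)) (AEval' g) :=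
    { toFun := fun m => e (z (e.symm m))
      map_add' := fun m m' => by rw [map_add, map_add, map_add]
      map_smul' := fun φ m => by
        have h := LinearMap.congr_fun (hz _ (hcom φ)) (e.symm m)
        simp only [Module.End.mul_apply] at h
        show e (z (e.symm (φ m))) = φ (e (z (e.symm m)))
        have h' : z (e.symm (φ m)) = e.symm (φ (e (z (e.symm m)))) := by
          refine Eq.trans ?_ h.symm
          show z (e.symm (φ m)) = z (e.symm (φ (e (e.symm m))))
          rw [LinearEquiv.apply_symm_apply]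
        rw [h', LinearEquiv.apply_symm_apply] }
  let b := Module.finBasis L V
  obtain ⟨p, hp⟩ := jacobson_density f (Finset.univ.image fun i => e (b i))
  refine ⟨p, b.ext fun i => e.injective ?_⟩
  have h := hp (e (b i)) (Finset.mem_image.2 ⟨i, Finset.mem_univ i, rfl⟩)
  rw [show f (e (b i)) = e (z (e.symm (e (b i)))) from rfl, LinearEquiv.symm_apply_apply] at h
  rw [h]
  exact (AEval.of_aeval_smul (a := g) p (b i)).symm

omit [FiniteDimensional L V] in
/-- A coordinate functional extends along a linearly independent family. -/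
theorem exists_functional {J : Type*} (v : J → V) (hv : LinearIndependent L v) (c : J → L) :
    ∃ Λ : V →ₗ[L] L, ∀ i, Λ (v i) = c i := by
  obtain ⟨Λ, hΛ⟩ := LinearMap.exists_extend (Finsupp.linearCombination L c ∘ₗ hv.repr)
  refine ⟨Λ, fun i => ?_⟩
  have := LinearMap.congr_fun hΛ ⟨v i, Submodule.subset_span ⟨i, rfl⟩⟩
  rw [LinearMap.comp_apply] at this
  refine this.trans ?_
  rw [LinearMap.comp_apply, hv.repr_eq_single i ⟨v i, _⟩ rfl, Finsupp.linearCombination_single, one_smul]

end linear

section reduced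

variable {k : Type u} [Field k] (Ω : Type u) [Field Ω] [Algebra k Ω] (l : ℕ) [Fact l.Prime]
  (X : Over (Spec (CommRingCat.of k))) [GrpObj X] [IsCommMonObj X]

/-- The rational endomorphisms acting on the rational Tate module. -/
def rep0 : EndAV.End0 X →+* Module.End ℚ_[l] (ℚ_[l] ⊗[ℤ_[l]] AbDual.TateMod X l (SGA7.pt Ω)) :=
  let E := Module.End ℚ_[l] (ℚ_[l] ⊗[ℤ_[l]] AbDual.TateMod X l (SGA7.pt Ω))
  let F : EndAV.End X →+* E :=
    (Module.End.baseChangeHom ℤ_[l] ℚ_[l] (AbDual.TateMod X l (SGA7.pt Ω))).toRingHom.comp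
      (EndAV.End.tateRep l (SGA7.pt Ω))
  letI : Algebra ℚ E := ((algebraMap ℚ_[l] E).comp (algebraMap ℚ ℚ_[l])).toAlgebra'
    fun c x => Algebra.commutes _ x
  let F' : EndAV.End X →ₐ[ℤ] E := { F with
    commutes' := fun n => by
      show F (algebraMap ℤ (EndAV.End X) n) = _
      rw [Algebra.algebraMap_eq_smul_one, map_zsmul, map_one, Algebra.algebraMap_eq_smul_one] }
  (Algebra.TensorProduct.lift (Algebra.ofId ℚ E) F' fun r x => Algebra.commutes r (F' x)).toRingHom

theorem rep0_tmul (q : ℚ) (φ : EndAV.End X) :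
    rep0 Ω l X (q ⊗ₜ[ℤ] φ) = (algebraMap ℚ ℚ_[l] q) • tmQ Ω l φ.toHom := by
  rw [Algebra.smul_def]
  rfl

theorem rep0_toEnd0 (φ : EndAV.End X) : rep0 Ω l X (EndAV.toEnd0 φ) = tmQ Ω l φ.toHom := by
  rw [EndAV.toEnd0_apply, rep0_tmul, map_one, one_smul]

theorem rep0_smul (q : ℚ) (x : EndAV.End0 X) : rep0 Ω l X (q • x) = (algebraMap ℚ ℚ_[l] q) • rep0 Ω l X x := by
  induction x using TensorProduct.induction_on with
  | zero => rw [smul_zero, map_zero, smul_zero]
  | tmul a φ => rw [TensorProduct.smul_tmul', rep0_tmul, rep0_tmul, smul_eq_mul, map_mul, mul_smul]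
  | add x y hx hy => rw [smul_add, map_add, map_add, smul_add, hx, hy]

theorem rep0_aeval (p : Polynomial ℚ) (x : EndAV.End0 X) :
    rep0 Ω l X (Polynomial.aeval x p) = Polynomial.aeval (rep0 Ω l X x) (p.map (algebraMap ℚ ℚ_[l])) := by
  rw [Polynomial.aeval_def, Polynomial.hom_eval₂, Polynomial.aeval_def, Polynomial.eval₂_map,
    RingHom.ext_rat ((rep0 Ω l X).comp (algebraMap ℚ (EndAV.End0 X)))
      ((algebraMap ℚ_[l] (Module.End ℚ_[l] (ℚ_[l] ⊗[ℤ_[l]] AbDual.TateMod X l (SGA7.pt Ω)))).comp (algebraMap ℚ ℚ_[l]))]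

end reduced

section finite

variable {k : Type u} [Field k] {A : Over (Spec (CommRingCat.of k))}
  [GrpObj A] [IsCommMonObj A] [IsProper A.hom] [GeometricallyIntegral A.hom]

theorem free_end : Module.Free ℤ (EndAV.End A) := by
  haveI : Module.Finite ℤ (EndAV.End A) := moduleFinite_hom
  haveI : Module.IsTorsionFree ℤ (EndAV.End A) := Module.isTorsionFree_iff_smul_eq_zero.2 fun m x h => by
    refine or_iff_not_imp_left.2 fun hm => EndAV.End.ext ?_
    have h' := congrArg EndAV.End.toHom h
    rw [EndAV.End.toHom_zsmul] at h'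
    exact congrArg Additive.toMul (eq_zero_of_smul_homs (Additive.ofMul x.toHom) m
      (inferInstanceAs (IsMonHom x.toHom)) hm (congrArg Additive.ofMul h'))
  exact Module.free_of_finite_type_torsion_free'

theorem finrank_end0 : Module.finrank ℚ (EndAV.End0 A) = Module.finrank ℤ (EndAV.End A) := by
  haveI := free_end (A := A)
  exact Module.finrank_baseChange

theorem finite_end0 : Module.Finite ℚ (EndAV.End0 A) := by
  haveI : Module.Finite ℤ (EndAV.End A) := moduleFinite_hom
  exact Module.Finite.base_change ℤ ℚ (EndAV.End A)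

theorem toEnd0_injective : Function.Injective (EndAV.toEnd0 (A := A)) := by
  haveI := free_end (A := A)
  exact Algebra.TensorProduct.includeRight_injective (R := ℤ) (A := ℚ) (B := EndAV.End A)
    (RingHom.injective_int (algebraMap ℤ ℚ))

/-- The rational endomorphism algebra is commutative exactly when the endomorphism ring is. -/
theorem comm_end0_iff :
    (∀ x y : EndAV.End0 A, x * y = y * x) ↔ ∀ a b : EndAV.End A, a * b = b * a := by
  refine ⟨fun h a b => toEnd0_injective (by rw [map_mul, map_mul, h]), fun h x y => ?_⟩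
  obtain ⟨a, φ, -, rfl⟩ := exists_tmul_eq x
  obtain ⟨b, ψ, -, rfl⟩ := exists_tmul_eq y
  rw [Algebra.TensorProduct.tmul_mul_tmul, Algebra.TensorProduct.tmul_mul_tmul, mul_comm a b, h φ ψ]

variable [Finite k] (Ω : Type u) [Field Ω] [Algebra k Ω] [IsAlgClosure k Ω] (l : ℕ) [Fact l.Prime]
  {π : A ⟶ A} [IsMonHom π]

include Ω l in
/-- The centre is generated by the Frobenius. -/
theorem center_eq (hl : (l : k) ≠ 0) (hπ : IsFrob π) :
    Subalgebra.center ℚ (EndAV.End0 A) = EndAV.QAdj (EndAV.End.of π) := by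
  classical
  refine le_antisymm (fun z hz => ?_) (Algebra.adjoin_le ?_)
  swap
  · rintro _ rfl
    exact Subalgebra.mem_center_iff.2 fun x => (frob_central0 (Nat.card k) π hπ.base hπ.le hπ.app x).symm
  haveI := (free_finite Ω l hl A).1
  haveI := (free_finite Ω l hl A).2
  haveI := finite_end0 (A := A)
  obtain ⟨R, -, hR⟩ := H25TateConj.exists_semisimple Ω l A
  let ρ := rep0 Ω l A
  -- the image commutes with the commutant
  obtain ⟨p, hp⟩ := exists_eq_aeval_of_commute (tmQ Ω l π) (ρ z) (semisimple_tmQ Ω l hl hπ) fun c hc => by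
    have hc' : c ∈ Submodule.span ℚ_[l] (H25TateConj.ratEnds Ω l A) := by
      rw [span_eq_commutant Ω l π hπ.base hπ.le hπ.app hl, LinearMap.mem_ker, LinearMap.sub_apply,
        LinearMap.lcomp_apply', LinearMap.llcomp_apply', sub_eq_zero]
      exact hc
    clear hc
    induction hc' using Submodule.span_induction with
    | mem x hx =>
      obtain ⟨f, hf, rfl⟩ := hx
      show tmQ Ω l f * ρ z = ρ z * tmQ Ω l f
      rw [show tmQ Ω l f = ρ (EndAV.toEnd0 (EndAV.End.of f)) from (rep0_toEnd0 Ω l A (EndAV.End.of f)).symm,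
        ← map_mul, ← map_mul, (Subalgebra.mem_center_iff.1 hz) (EndAV.toEnd0 (EndAV.End.of f))]
    | zero => rw [zero_mul, mul_zero]
    | add x y _ _ hx hy => rw [_root_.add_mul, _root_.mul_add, hx, hy]
    | smul a x _ hx => rw [smul_mul_assoc, mul_smul_comm, hx]
  -- the images of a basis are independent
  let b := Module.finBasis ℚ (EndAV.End0 A)
  have hspan : ∀ x, ρ x ∈ Submodule.span ℚ_[l] (Set.range fun i => ρ (b i)) := fun x => by
    rw [← b.sum_repr x, map_sum]
    refine Submodule.sum_mem _ fun i _ => ?_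
    show rep0 Ω l A _ ∈ _
    rw [rep0_smul]
    exact Submodule.smul_mem _ _ (Submodule.subset_span ⟨i, rfl⟩)
  have hli : LinearIndependent ℚ_[l] fun i => ρ (b i) := by
    rw [linearIndependent_iff_card_le_finrank_span, Fintype.card_fin]
    refine le_trans (finrank_end0.trans (finrank_span_ratEnds Ω l hl).symm).le
      (Submodule.finrank_mono (Submodule.span_le.2 ?_))
    rintro _ ⟨f, hf, rfl⟩
    rw [SetLike.mem_coe]
    have h := hspan (EndAV.toEnd0 (EndAV.End.of f))
    rw [show ρ (EndAV.toEnd0 (EndAV.End.of f)) = _ from rep0_toEnd0 Ω l A (EndAV.End.of f)] at h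
    exact h
  by_contra hzS
  obtain ⟨f, hf1, hf2⟩ : ∃ f : EndAV.End0 A →ₗ[ℚ] ℚ, f z ≠ 0 ∧
      Subalgebra.toSubmodule (EndAV.QAdj (EndAV.End.of π)) ≤ LinearMap.ker f := by
    obtain ⟨f, hf, hf'⟩ := Submodule.exists_dual_map_eq_bot_of_notMem
      (p := Subalgebra.toSubmodule (EndAV.QAdj (EndAV.End.of π))) hzS inferInstance
    exact ⟨f, hf, Submodule.map_le_iff_le_comap.1 hf'.le⟩
  obtain ⟨Λ, hΛ⟩ := exists_functional _ hli fun i => algebraMap ℚ ℚ_[l] (f (b i))
  have hΛ' : ∀ x, Λ (ρ x) = algebraMap ℚ ℚ_[l] (f x) := fun x => by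
    conv_lhs => rw [← b.sum_repr x]
    conv_rhs => rw [← b.sum_repr x]
    simp only [map_sum]
    refine Finset.sum_congr rfl fun i _ => ?_
    show Λ (rep0 Ω l A _) = _
    rw [rep0_smul, map_smul, map_smul, smul_eq_mul, smul_eq_mul, map_mul]
    exact congrArg _ (hΛ i)
  refine hf1 ((algebraMap ℚ ℚ_[l]).injective ?_)
  have hπ0 : ρ (EndAV.toEnd0 (EndAV.End.of π)) = tmQ Ω l π := rep0_toEnd0 Ω l A (EndAV.End.of π)
  rw [map_zero, ← hΛ', hp, ← hπ0, Polynomial.aeval_eq_sum_range, map_sum]
  refine Finset.sum_eq_zero fun i _ => ?_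
  rw [map_smul, ← map_pow, hΛ']
  have : f (EndAV.toEnd0 (EndAV.End.of π) ^ i) = 0 :=
    hf2 (Subalgebra.pow_mem _ (Algebra.self_mem_adjoin_singleton ℚ _) i)
  rw [this, map_zero, smul_zero]

end finite

end Groth.Agent.H25Weilp
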