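import Groth.Agent.H25Weilp.Divisor
import Mathlib.RingTheory.Flat.FaithfullyFlat.Algebra
import Mathlib.AlgebraicGeometry.Morphisms.Flat

/-!
# The character of a class killed by pulling back
-/

set_option autoImplicit false
set_option linter.style.haveILetI false
set_option linter.unusedSectionVars false
set_option backward.isDefEq.respectTransparency false
set_option maxHeartbeats 800000
universe u

open CategoryTheory CategoryTheory.Limits AlgebraicGeometry TopologicalSpace
open Groth.Agent Groth.Agent.H25AbCube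

noncomputable section

namespace Groth.Agent.H25Weilp

variable {X Y Z X' Y' : Scheme.{u}} [IsIntegral X] [IsIntegral Y] [IsIntegral Z] [IsIntegral X'] [IsIntegral Y']

theorem exists_toK (f : X.functionField) :
    ∃ (U : X.Opens) (hU : genericPoint X ∈ U) (s : Γ(X, U)), toK hU s = f :=
  X.presheaf.exists_germ_eq f

theorem fK_ext {φ ψ : Y.functionField →+* X.functionField}
    (h : ∀ (U : Y.Opens) (hU : genericPoint Y ∈ U) (s : Γ(Y, U)), φ (toK hU s) = ψ (toK hU s)) : φ = ψ :=
  RingHom.ext fun f => by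
    obtain ⟨U, hU, s, rfl⟩ := exists_toK f
    exact h U hU s

theorem fK_congr {f g : X ⟶ Y} (e : f = g) (hf : f (genericPoint X) = genericPoint Y)
    (hg : g (genericPoint X) = genericPoint Y) : fK f hf = fK g hg := by
  subst e; rfl

theorem fK_comp (f : X ⟶ Y) (g : Y ⟶ Z) (hf : f (genericPoint X) = genericPoint Y)
    (hg : g (genericPoint Y) = genericPoint Z) (hfg : (f ≫ g) (genericPoint X) = genericPoint Z) :
    fK (f ≫ g) hfg = (fK f hf).comp (fK g hg) := by
  refine fK_ext fun U hU s => ?_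
  rw [RingHom.comp_apply, fK_toK, fK_toK, fK_toK]
  rfl

theorem fK_comp_apply (f : X ⟶ Y) (g : Y ⟶ Z) (h : X ⟶ Z) (e : f ≫ g = h) (hf : f (genericPoint X) = genericPoint Y)
    (hg : g (genericPoint Y) = genericPoint Z) (hh : h (genericPoint X) = genericPoint Z) (a : Z.functionField) :
    fK f hf (fK g hg a) = fK h hh a := by
  subst e
  rw [fK_comp f g hf hg]
  rfl

theorem fK_id (h : (𝟙 X : X ⟶ X) (genericPoint X) = genericPoint X) (a : X.functionField) : fK (𝟙 X) h a = a := by
  obtain ⟨U, hU, s, rfl⟩ := exists_toK a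
  rw [fK_toK]
  simp

/-- `γ` trivialises the pullback of the class `c`. -/
def IsTriv (q : X ⟶ Y) (hq : q (genericPoint X) = genericPoint Y) (c : PC Y) (γ : X.functionField) : Prop :=
  γ ≠ 0 ∧ ∃ D : Y → Y.functionField, Repr c D ∧ ∀ x, UnitAt x (fK q hq (D (q x)) / γ)

variable {q : X ⟶ Y} {hq : q (genericPoint X) = genericPoint Y}

theorem exists_isTriv {c : PC Y} (h : pullP q c = 0) : ∃ γ, IsTriv q hq c γ := by
  obtain ⟨D, hD⟩ := exists_repr c
  obtain ⟨γ, hγ, hu⟩ := (repr_zero_iff (hD.pullback q hq)).1 h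
  exact ⟨γ, hγ, D, hD, hu⟩

theorem IsTriv.add {c c' : PC Y} {γ γ' : X.functionField} (h : IsTriv q hq c γ) (h' : IsTriv q hq c' γ') :
    IsTriv q hq (c + c') (γ * γ') := by
  obtain ⟨hγ, D, hD, hu⟩ := h
  obtain ⟨hγ', D', hD', hu'⟩ := h'
  refine ⟨mul_ne_zero hγ hγ', _, hD.add hD', fun x => ?_⟩
  have := (hu x).mul (hu' x)
  convert this using 1
  rw [map_mul, div_mul_div_comm]

/-- The trivialisation moves along a morphism of data. -/
theorem IsTriv.natural {c : PC Y} {γ : X.functionField} (h : IsTriv q hq c γ) (S : X' ⟶ X) (S₀ : Y' ⟶ Y)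
    (q' : X' ⟶ Y') (e : q' ≫ S₀ = S ≫ q) (hS : S (genericPoint X') = genericPoint X)
    (hS₀ : S₀ (genericPoint Y') = genericPoint Y) (hq' : q' (genericPoint X') = genericPoint Y') :
    IsTriv q' hq' (pullP S₀ c) (fK S hS γ) := by
  obtain ⟨hγ, D, hD, hu⟩ := h
  refine ⟨(map_ne_zero _).2 hγ, _, hD.pullback S₀ hS₀, fun x => ?_⟩
  have hh : (S ≫ q) (genericPoint X') = genericPoint Y := by rw [Scheme.Hom.comp_apply, hS, hq]
  have := fK_unitAt S hS (hu (S x))
  rw [map_div₀, fK_comp_apply S q (S ≫ q) rfl hS hq hh] at this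
  rw [fK_comp_apply q' S₀ (S ≫ q) e hq' hS₀ hh]
  rwa [show S₀ (q' x) = q (S x) by rw [← Scheme.Hom.comp_apply, e, Scheme.Hom.comp_apply]]

/-- An endomorphism over the base multiplies a trivialisation by a global unit. -/
theorem IsTriv.unitAt {c : PC Y} {γ : X.functionField} (h : IsTriv q hq c γ) (t : X ⟶ X)
    (ht : t (genericPoint X) = genericPoint X) (htq : t ≫ q = q) (x : X) : UnitAt x (fK t ht γ / γ) := by
  obtain ⟨hγ, D, hD, hu⟩ := h
  have h1 := fK_unitAt t ht (hu (t x))
  rw [map_div₀, fK_comp_apply t q q htq ht hq hq, ← Scheme.Hom.comp_apply, htq] at h1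
  have h2 := (hu x).div h1
  convert h2 using 1
  have h3 := (hu x).ne_zero
  rw [div_ne_zero_iff] at h3
  have h4 : fK t ht γ ≠ 0 := (map_ne_zero _).2 hγ
  field_simp [h3.1]

/-- `e` is the value of the character of `c` at `t`. -/
def IsChi (q : X ⟶ Y) (hq : q (genericPoint X) = genericPoint Y) (c : PC Y) (t : X ⟶ X)
    (ht : t (genericPoint X) = genericPoint X) (e : X.functionField) : Prop :=
  ∃ γ, IsTriv q hq c γ ∧ e = fK t ht γ / γ

theorem IsTriv.isChi {c : PC Y} {γ : X.functionField} (h : IsTriv q hq c γ) (t : X ⟶ X)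
    (ht : t (genericPoint X) = genericPoint X) : IsChi q hq c t ht (fK t ht γ / γ) :=
  ⟨γ, h, rfl⟩

/-- Global units are fixed. -/
def Fixes (t : X ⟶ X) (ht : t (genericPoint X) = genericPoint X) : Prop :=
  ∀ f : X.functionField, (∀ x, UnitAt x f) → fK t ht f = f

theorem fixes_of_appTop (t : X ⟶ X) (ht : t (genericPoint X) = genericPoint X)
    (h : ∀ s : Γ(X, ⊤), t.appTop s = s) : Fixes t ht := fun f hf => by
  obtain ⟨s, -, rfl⟩ := exists_global f hf
  rw [fK_toK]
  exact congrArg (toK (V := (⊤ : X.Opens)) trivial) (h s)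

theorem IsChi.unique {c : PC Y} {t : X ⟶ X} {ht : t (genericPoint X) = genericPoint X} (htq : t ≫ q = q)
    (hfix : Fixes t ht) {e e' : X.functionField} (h : IsChi q hq c t ht e) (h' : IsChi q hq c t ht e') : e = e' := by
  obtain ⟨γ, ⟨hγ, D, hD, hu⟩, rfl⟩ := h
  obtain ⟨γ', ⟨hγ', D', hD', hu'⟩, rfl⟩ := h'
  obtain ⟨δ, hδ, hd⟩ := (repr_zero_iff (hD.sub hD')).1 (sub_self c)
  have hg : ∀ x, UnitAt x (γ / γ' / fK q hq δ) := fun x => by
    have := ((hu' x).mul (fK_unitAt q hq (hd (q x)))).div (hu x)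
    convert this using 1
    have a1 := (hu x).ne_zero
    have a2 := (hu' x).ne_zero
    rw [div_ne_zero_iff] at a1 a2
    rw [map_div₀, map_div₀]
    field_simp [a1.1, a2.1]
  have := hfix _ hg
  rw [map_div₀, map_div₀, fK_comp_apply t q q htq ht hq hq] at this
  have hδ' : fK q hq δ ≠ 0 := (map_ne_zero _).2 hδ
  have h5 : fK t ht γ' ≠ 0 := (map_ne_zero _).2 hγ'
  field_simp at this ⊢
  linear_combination this

theorem IsChi.add {c c' : PC Y} {t : X ⟶ X} {ht : t (genericPoint X) = genericPoint X} {e e' : X.functionField}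
    (h : IsChi q hq c t ht e) (h' : IsChi q hq c' t ht e') : IsChi q hq (c + c') t ht (e * e') := by
  obtain ⟨γ, hT, rfl⟩ := h
  obtain ⟨γ', hT', rfl⟩ := h'
  exact ⟨_, hT.add hT', by rw [map_mul, div_mul_div_comm]⟩

theorem IsChi.natural {c : PC Y} {t : X ⟶ X} {ht : t (genericPoint X) = genericPoint X} {e : X.functionField}
    (h : IsChi q hq c t ht e) (S : X' ⟶ X) (S₀ : Y' ⟶ Y) (q' : X' ⟶ Y') (he : q' ≫ S₀ = S ≫ q)
    (hS : S (genericPoint X') = genericPoint X) (hS₀ : S₀ (genericPoint Y') = genericPoint Y)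
    (hq' : q' (genericPoint X') = genericPoint Y') (t' : X' ⟶ X') (ht' : t' (genericPoint X') = genericPoint X')
    (hc : t' ≫ S = S ≫ t) : IsChi q' hq' (pullP S₀ c) t' ht' (fK S hS e) := by
  obtain ⟨γ, hT, rfl⟩ := h
  refine ⟨_, hT.natural S S₀ q' he hS hS₀ hq', ?_⟩
  have hh : (S ≫ t) (genericPoint X') = genericPoint X := by rw [Scheme.Hom.comp_apply, hS, ht]
  rw [map_div₀, fK_comp_apply S t (S ≫ t) rfl hS ht hh, fK_comp_apply t' S (S ≫ t) hc ht' hS hh]

theorem unitAt_of_stalk {x : X} (u : (X.presheaf.stalk x)ˣ) :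
    UnitAt x (algebraMap (X.presheaf.stalk x) X.functionField (u : X.presheaf.stalk x)) := by
  obtain ⟨V, hx, s, hs⟩ := X.presheaf.exists_germ_eq (u : X.presheaf.stalk x)
  have hb : x ∈ X.basicOpen s := by rw [Scheme.mem_basicOpen X s x hx, hs]; exact u.isUnit
  refine ⟨X.basicOpen s, hb, X.presheaf.map (homOfLE (X.basicOpen_le s)).op s,
    X.toRingedSpace.isUnit_res_basicOpen s, ?_⟩
  haveI : Nonempty V := ⟨⟨x, hx⟩⟩
  rw [toK_res, ← hs, Scheme.algebraMap_germ_eq_germToFunctionField]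
  rfl

theorem stalk_of_unitAt {x : X} {f : X.functionField} (h : UnitAt x f) :
    ∃ u : (X.presheaf.stalk x)ˣ, algebraMap (X.presheaf.stalk x) X.functionField (u : X.presheaf.stalk x) = f := by
  obtain ⟨V, hx, s, hs, rfl⟩ := h
  haveI : Nonempty V := ⟨⟨x, hx⟩⟩
  refine ⟨(hs.map (X.presheaf.germ V x hx).hom).unit, ?_⟩
  rw [IsUnit.unit_spec]
  exact X.algebraMap_germ_eq_germToFunctionField hx s

theorem fK_algebraMap (f : X ⟶ Y) (hf : f (genericPoint X) = genericPoint Y) (x : X) (a : Y.presheaf.stalk (f x)) :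
    fK f hf (algebraMap _ Y.functionField a) = algebraMap (X.presheaf.stalk x) X.functionField (f.stalkMap x a) := by
  obtain ⟨V, hx, s, rfl⟩ := Y.presheaf.exists_germ_eq a
  haveI : Nonempty V := ⟨⟨f x, hx⟩⟩
  haveI : Nonempty (f ⁻¹ᵁ V) := ⟨⟨x, hx⟩⟩
  erw [Scheme.Hom.germ_stalkMap_apply f V x hx s]
  rw [Scheme.algebraMap_germ_eq_germToFunctionField, Scheme.algebraMap_germ_eq_germToFunctionField]
  exact fK_toK f hf _ s

/-- Units descend along flat morphisms. -/
theorem unitAt_descend [Flat q] {δ : Y.functionField} {x : X} (h : UnitAt x (fK q hq δ)) : UnitAt (q x) δ := by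
  obtain ⟨u, hu⟩ := stalk_of_unitAt h
  obtain ⟨b, c, hc, rfl⟩ := IsFractionRing.div_surjective (A := Y.presheaf.stalk (q x)) δ
  let O := Y.presheaf.stalk (q x)
  let P := X.presheaf.stalk x
  letI : Algebra O P := (q.stalkMap x).hom.toAlgebra
  haveI : Module.FaithfullyFlat O P :=
    @Module.FaithfullyFlat.of_flat_of_isLocalHom _ _ _ _ _ _ _ (Flat.stalkMap q x) (q.toLRSHom.prop x)
  have hc0 : algebraMap O Y.functionField c ≠ 0 := IsFractionRing.to_map_ne_zero_of_mem_nonZeroDivisors hc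
  have hF : ∀ a : O, algebraMap P X.functionField (algebraMap O P a) = fK q hq (algebraMap O Y.functionField a) :=
    fun a => (fK_algebraMap q hq x a).symm
  have key : algebraMap O P b = (u : P) * algebraMap O P c := by
    refine IsFractionRing.injective P X.functionField ?_
    rw [map_mul, hu, hF, hF, ← map_mul, div_mul_cancel₀ _ hc0]
  have mem : ∀ b c : O, algebraMap O P b ∈ Ideal.span {algebraMap O P c} → c ∣ b := fun b c h => by
    rw [← Ideal.mem_span_singleton, ← Ideal.comap_map_eq_self_of_faithfullyFlat (B := P) (Ideal.span {c}),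
      Ideal.mem_comap, Ideal.map_span, Set.image_singleton]
    exact h
  obtain ⟨d, hd⟩ := mem b c (Ideal.mem_span_singleton'.2 ⟨u, key.symm⟩)
  have hd0 : IsUnit d := by
    refine isUnit_of_map_unit (algebraMap O P) d ?_
    have hP : algebraMap O P c ≠ 0 := fun h0 => by
      refine hc0 ?_
      have := congrArg (algebraMap P X.functionField) h0
      rw [map_zero, hF] at this
      exact (map_eq_zero _).1 this
    rw [hd, map_mul, mul_comm (u : P)] at key
    exact (mul_left_cancel₀ hP key) ▸ u.isUnit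
  have := unitAt_of_stalk hd0.unit
  rw [IsUnit.unit_spec] at this
  convert this using 1
  rw [hd, map_mul, mul_div_cancel_left₀ _ hc0]

/-- A class whose character is trivial on a group with descent is trivial. -/
theorem eq_zero_of_chi [Flat q] [Surjective q] {G : Type*} (t : G → (X ⟶ X))
    (ht : ∀ a, t a (genericPoint X) = genericPoint X) (htq : ∀ a, t a ≫ q = q) (hfix : ∀ a, Fixes (t a) (ht a))
    (hdesc : ∀ f : X.functionField, (∀ a, fK (t a) (ht a) f = f) → ∃ δ, fK q hq δ = f)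
    {c : PC Y} (hc : pullP q c = 0) (h1 : ∀ a, IsChi q hq c (t a) (ht a) 1) : c = 0 := by
  obtain ⟨γ, hT⟩ := exists_isTriv (hq := hq) hc
  obtain ⟨δ, rfl⟩ := hdesc γ fun a =>
    eq_of_div_eq_one (IsChi.unique (htq a) (hfix a) (hT.isChi (t a) (ht a)) (h1 a))
  obtain ⟨hγ, D, hD, hu⟩ := hT
  refine (repr_zero_iff hD).2 ⟨δ, (map_ne_zero _).1 hγ, fun y => ?_⟩
  obtain ⟨x, rfl⟩ := q.surjective y
  have := hu x
  rw [← map_div₀] at this
  exact unitAt_descend this

end Groth.Agent.H25Weilp
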