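import Mathlib

/-!
# The products `∏ (1 - αⁿ)` determine roots of a common absolute value
-/

set_option autoImplicit false

noncomputable section

namespace Groth.Agent.H25Weilp.Count

open Classical

/-- The signed multiplicities of the products of subfamilies. -/
def signed (R : Multiset ℂ) : ℂ →₀ ℂ :=
  (R.powerset.map fun I => Finsupp.single I.prod ((-1 : ℂ) ^ Multiset.card I)).sum

theorem signed_zero : signed 0 = Finsupp.single 1 1 := by simp [signed]

theorem signed_cons (a : ℂ) (ha : a ≠ 0) (R : Multiset ℂ) (c : ℂ) :
    signed (a ::ₘ R) c = signed R c - signed R (c / a) := by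
  rw [signed, Multiset.powerset_cons, Multiset.map_add, Multiset.sum_add, Multiset.map_map, Finsupp.add_apply,
    ← sub_neg_eq_add]
  show signed R c - _ = _
  congr 1
  rw [signed, ← Finsupp.applyAddHom_apply c, ← Finsupp.applyAddHom_apply (c / a), map_multiset_sum, map_multiset_sum,
    Multiset.map_map, Multiset.map_map, ← Multiset.sum_map_neg]
  refine congrArg Multiset.sum (Multiset.map_congr rfl fun I _ => ?_)
  simp only [Function.comp_apply, Finsupp.applyAddHom_apply, Multiset.prod_cons, Multiset.card_cons,
    Finsupp.single_apply]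
  by_cases h : a * I.prod = c
  · rw [if_pos h, if_pos (by rw [← h, mul_div_cancel_left₀ _ ha]), pow_succ]
    ring
  · rw [if_neg h, if_neg (fun h' => h (by rw [h', mul_div_cancel₀ _ ha])), neg_zero]

theorem signed_spec (q : ℝ) (hq : 1 < q) (R : Multiset ℂ) (hR : ∀ a ∈ R, Complex.normSq a = q) :
    (∀ c, Complex.normSq c < 1 → signed R c = 0) ∧
    (∀ c, Complex.normSq c = 1 → signed R c = if c = 1 then 1 else 0) ∧
    ∀ c, Complex.normSq c = q → signed R c = -(R.count c : ℂ) := by
  induction R using Multiset.induction_on with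
  | empty =>
    refine ⟨fun c hc => ?_, fun c _ => ?_, fun c hc => ?_⟩ <;> rw [signed_zero, Finsupp.single_apply]
    · exact if_neg fun h => by simp [← h] at hc
    · simp only [eq_comm]
    · rw [if_neg fun h => by subst h; simp at hc; linarith, Multiset.count_zero, Nat.cast_zero, neg_zero]
  | cons a R ih =>
    have hq0 : 0 < q := one_pos.trans hq
    have ha : Complex.normSq a = q := hR a (Multiset.mem_cons_self a R)
    have ha0 : a ≠ 0 := fun h => by rw [h, map_zero] at ha; linarith
    obtain ⟨h0, h1, h2⟩ := ih fun b hb => hR b (Multiset.mem_cons_of_mem hb)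
    refine ⟨fun c hc => ?_, fun c hc => ?_, fun c hc => ?_⟩ <;> rw [signed_cons a ha0]
    · rw [h0 c hc, h0 (c / a) (by rw [map_div₀, ha, div_lt_one hq0]; linarith), sub_zero]
    · rw [h1 c hc, h0 (c / a) (by rw [map_div₀, ha, hc, div_lt_one hq0]; exact hq), sub_zero]
    · rw [h2 c hc, h1 (c / a) (by rw [map_div₀, ha, hc, div_self hq0.ne']), Multiset.count_cons]
      by_cases h : c = a
      · rw [if_pos (by rw [h, div_self ha0]), if_pos h, Nat.cast_succ]
        ring
      · rw [if_neg fun h' => h ((div_eq_one_iff_eq ha0).1 h'), if_neg h, Nat.add_zero, sub_zero]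

theorem linearCombination_signed (R : Multiset ℂ) (n : ℕ) :
    Finsupp.linearCombination ℂ (fun c : ℂ => c ^ n) (signed R) = (R.map fun a => 1 - a ^ n).prod := by
  rw [signed, map_multiset_sum, Multiset.map_map]
  induction R using Multiset.induction_on with
  | empty => simp
  | cons a R ih =>
    rw [Multiset.powerset_cons, Multiset.map_add, Multiset.sum_add, Multiset.map_map, ih, Multiset.map_cons,
      Multiset.prod_cons, sub_mul, one_mul, ← ih, sub_eq_add_neg, ← Multiset.sum_map_mul_left,
      ← Multiset.sum_map_neg]
    congr 1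
    refine congrArg Multiset.sum (Multiset.map_congr rfl fun I _ => ?_)
    simp only [Function.comp_apply, Finsupp.linearCombination_single, Multiset.prod_cons, Multiset.card_cons,
      smul_eq_mul, mul_pow, pow_succ]
    ring

/-- Families of a common absolute value are determined by the products `∏ (1 - αⁿ)`. -/
theorem eq_of_prod_eq (q : ℝ) (hq : 1 < q) (R S : Multiset ℂ) (hR : ∀ a ∈ R, Complex.normSq a = q)
    (hS : ∀ a ∈ S, Complex.normSq a = q)
    (h : ∀ n : ℕ, n ≠ 0 → (R.map fun a => 1 - a ^ n).prod = (S.map fun a => 1 - a ^ n).prod) : R = S := by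
  let D := signed R - signed S
  have hsum : ∀ n : ℕ, n ≠ 0 → ∑ c ∈ D.support, D c * c ^ n = 0 := fun n hn => by
    have : Finsupp.linearCombination ℂ (fun c : ℂ => c ^ n) D = 0 := by
      rw [map_sub, linearCombination_signed, linearCombination_signed, h n hn, sub_self]
    rwa [Finsupp.linearCombination_apply] at this
  let v : {c : ℂ // c ∈ D.support} → (Multiplicative ℕ →* ℂ) := fun c => powersHom ℂ c.1
  have hv : Function.Injective v := fun c d hcd => Subtype.ext (by
    have := DFunLike.congr_fun hcd (Multiplicative.ofAdd 1)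
    simpa [v] using this)
  have hli : LinearIndependent ℂ fun c => (v c : Multiplicative ℕ → ℂ) :=
    (linearIndependent_monoidHom (Multiplicative ℕ) ℂ).comp v hv
  have hzero : ∀ c ∈ D.support, D c * c = 0 := by
    intro c hc
    refine Fintype.linearIndependent_iff.1 hli (fun d => D d.1 * d.1) ?_ ⟨c, hc⟩
    funext m
    rw [Finset.sum_apply, Pi.zero_apply, ← hsum (m.toAdd + 1) (Nat.succ_ne_zero _), ← Finset.sum_attach D.support
      (fun c => D c * c ^ (m.toAdd + 1))]
    refine Finset.sum_congr rfl fun d _ => ?_
    simp only [Pi.smul_apply, smul_eq_mul, v, powersHom_apply, pow_succ]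
    ring
  refine Multiset.ext.2 fun c => ?_
  by_cases hc : Complex.normSq c = q
  · have hc0 : c ≠ 0 := fun h0 => by rw [h0, map_zero] at hc; linarith
    have hD : D c = 0 := by
      by_contra hne
      exact hne ((mul_eq_zero.1 (hzero c (Finsupp.mem_support_iff.2 hne))).resolve_right hc0)
    rw [Finsupp.sub_apply, (signed_spec q hq R hR).2.2 c hc, (signed_spec q hq S hS).2.2 c hc, sub_eq_zero,
      neg_inj, Nat.cast_inj] at hD
    exact hD
  · rw [Multiset.count_eq_zero.2 fun h => hc (hR c h), Multiset.count_eq_zero.2 fun h => hc (hS c h)]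

/-- The exponential determines a series without constant term. -/
theorem eq_of_exp_subst_eq (f g : PowerSeries ℚ) (hf : PowerSeries.constantCoeff f = 0)
    (hg : PowerSeries.constantCoeff g = 0)
    (h : PowerSeries.subst f (PowerSeries.exp ℚ) = PowerSeries.subst g (PowerSeries.exp ℚ)) : f = g := by
  have hf' := PowerSeries.HasSubst.of_constantCoeff_zero' hf
  have hg' := PowerSeries.HasSubst.of_constantCoeff_zero' hg
  have key : ∀ {f : PowerSeries ℚ}, PowerSeries.HasSubst f →
      PowerSeries.derivative ℚ (PowerSeries.subst f (PowerSeries.exp ℚ)) =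
        PowerSeries.subst f (PowerSeries.exp ℚ) * PowerSeries.derivative ℚ f := fun {f} hf => by
    rw [PowerSeries.derivative_subst (hg := hf), PowerSeries.derivative_exp]
  have hne : PowerSeries.subst g (PowerSeries.exp ℚ) ≠ 0 := fun h0 => by
    have := congrArg (PowerSeries.coeff 0) h0
    rw [PowerSeries.coeff_subst' hg', finsum_eq_single _ 0 (fun d hd => by
      rw [PowerSeries.coeff_zero_eq_constantCoeff, map_pow, hg, zero_pow hd, smul_zero]), map_zero] at this
    simp at this
  have h1 := congrArg (PowerSeries.derivative ℚ) h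
  rw [key hf', key hg', h] at h1
  exact PowerSeries.derivative.ext (mul_left_cancel₀ hne h1) (hf.trans hg.symm)

end Groth.Agent.H25Weilp.Count
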