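import Groth.Agent.H26Misc.Cyclic
import Mathlib.LinearAlgebra.Determinant

/-!
# Operators whose commutant is generated by them, over a local ring with principal maximal ideal
-/

set_option autoImplicit false
set_option linter.style.haveILetI false
set_option linter.unusedSectionVars false

open Polynomial

noncomputable section

namespace Groth.Agent.H25Weilp.CyclicDual

variable {L : Type*} [CommRing L] [IsDomain L] {T S : Type*} [AddCommGroup T] [Module L T]
  [AddCommGroup S] [Module L S]

/-- An operator whose commutant consists of its polynomials has a cyclic vector. -/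
theorem exists_cyclic [IsLocalRing L] (ϖ : L) (hϖ : IsLocalRing.maximalIdeal L = Ideal.span {ϖ}) (hne : ϖ ≠ 0)
    {n : ℕ} (b : Module.Basis (Fin n) L T) (f : Module.End L T)
    (hcomm : ∀ e : Module.End L T, e * f = f * e → ∃ q : L[X], e = aeval f q)
    (hindep : ∀ r : L[X], r.degree < n → aeval f r = 0 → r = 0) :
    ∃ c : Module.Basis (Fin n) L T, ∃ x : T, ∀ i, c i = (f ^ (i : ℕ)) x := by
  classical
  let F := IsLocalRing.ResidueField L
  let ρ : L →+* F := IsLocalRing.residue L
  have hρ : ∀ a, ρ a = 0 ↔ ϖ ∣ a := fun a => by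
    rw [IsLocalRing.residue_eq_zero_iff, hϖ, Ideal.mem_span_singleton]
  let Φ : Module.End L T ≃ₐ[L] Matrix (Fin n) (Fin n) L := LinearMap.toMatrixAlgEquiv b
  let M := Φ f
  let g : Module.End F (Fin n → F) := Matrix.toLinAlgEquiv' (M.map ρ)
  have hpow : ∀ i : ℕ, g ^ i = Matrix.toLinAlgEquiv' ((M ^ i).map ρ) := fun i => by
    rw [← map_pow]
    exact congrArg _ (map_pow ρ.mapMatrix M i).symm
  have hdeg : ∀ p : F[X], p.degree < n → aeval g p = 0 → p = 0 := by
    intro p hp hp0
    obtain ⟨r, hr, hrd⟩ := exists_degree_eq_of_mem_lifts (show p ∈ lifts ρ by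
      rw [lifts_iff_coeff_lifts]
      exact fun i => IsLocalRing.residue_surjective _)
    rw [← hrd] at hp
    have hMr : ∀ i j, ϖ ∣ Φ (aeval f r) i j := fun i j => by
      rw [← hρ]
      have hp1 : aeval (M.map ρ) p = 0 := (Matrix.toLinAlgEquiv' (R := F) (n := Fin n)).injective (by
        rw [map_zero, ← Polynomial.aeval_algHom_apply]
        exact hp0)
      have h1 : ((aeval M r).map ρ) = (0 : Matrix (Fin n) (Fin n) F) := by
        rw [← hp1, ← hr]
        show ρ.mapMatrix (aeval M r) = aeval (ρ.mapMatrix M) (r.map ρ)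
        rw [aeval_def, aeval_def, eval₂_map, hom_eval₂]
        congr 1
        ext a x y
        show ρ (algebraMap L (Matrix (Fin n) (Fin n) L) a x y) = algebraMap F (Matrix (Fin n) (Fin n) F) (ρ a) x y
        simp only [Matrix.algebraMap_matrix_apply]
        split_ifs <;> simp
      have h2 := congrFun (congrFun h1 i) j
      rw [← Polynomial.aeval_algHom_apply]
      exact h2
    choose E hE using hMr
    have hfe : aeval f r = ϖ • Φ.symm (Matrix.of E) := by
      refine Φ.injective ?_
      rw [map_smul, AlgEquiv.apply_symm_apply]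
      ext i j
      rw [Matrix.smul_apply, smul_eq_mul, hE i j]
      rfl
    obtain ⟨q, hq⟩ := hcomm (Φ.symm (Matrix.of E)) (by
      refine Φ.injective (Matrix.ext fun i j => mul_left_cancel₀ hne ?_)
      have hc : aeval f r * f = f * aeval f r := by
        have h := congrArg (aeval f) (mul_comm r X)
        simpa only [map_mul, aeval_X] using h
      rw [hfe, smul_mul_assoc, mul_smul_comm] at hc
      have h := congrFun (congrFun (congrArg Φ hc) i) j
      rw [map_smul, map_smul] at h
      exact h)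
    have hχ : (LinearMap.toMatrixAlgEquiv b f).charpoly.Monic := Matrix.charpoly_monic _
    let χ := (LinearMap.toMatrixAlgEquiv b f).charpoly
    have hχ0 : aeval f χ = 0 := by
      refine Φ.injective ?_
      rw [map_zero, ← Polynomial.aeval_algHom_apply]
      exact Matrix.aeval_self_charpoly M
    have h0 : r - C ϖ * (q %ₘ χ) = 0 := by
      refine hindep _ ?_ ?_
      · refine lt_of_le_of_lt (degree_sub_le _ _) (max_lt hp ?_)
        rw [degree_C_mul hne]
        refine (degree_modByMonic_lt q hχ).trans_le ?_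
        show χ.degree ≤ n
        rw [Matrix.charpoly_degree_eq_dim, Fintype.card_fin]
      · rw [map_sub, map_mul, aeval_C, aeval_modByMonic_eq_self_of_root hχ0, ← hq, ← Algebra.smul_def, ← hfe, sub_self]
    rw [sub_eq_zero] at h0
    rw [← hr, h0, Polynomial.map_mul, map_C, (hρ ϖ).2 dvd_rfl, map_zero, zero_mul]
  obtain ⟨v, hv⟩ := Groth.Agent.H26Misc.Cyclic.exists_vector_minpoly g
  have hli : LinearIndependent F fun i : Fin n => (g ^ (i : ℕ)) v := by
    rw [Fintype.linearIndependent_iff]
    intro c hc i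
    have hd : (∑ j : Fin n, C (c j) * X ^ (j : ℕ)).degree < (n : WithBot ℕ) := degree_sum_fin_lt c
    have hmin : (n : WithBot ℕ) ≤ (minpoly F g).degree := le_of_not_gt fun hlt =>
      (minpoly.monic (Algebra.IsIntegral.isIntegral g)).ne_zero (hdeg _ hlt (minpoly.aeval F g))
    have h0 : (∑ j : Fin n, C (c j) * X ^ (j : ℕ)) = 0 := by
      refine eq_zero_of_dvd_of_degree_lt (hv _ ?_) (hd.trans_le hmin)
      rw [← hc]
      simp [map_sum, LinearMap.sum_apply, ← Algebra.smul_def]
    have := congrArg (fun p : F[X] => p.coeff i) h0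
    simpa [finsetSum_coeff, coeff_C_mul, coeff_X_pow, Fin.val_inj] using this
  choose w hw using fun i => IsLocalRing.residue_surjective (v i)
  let x := b.equivFun.symm w
  have hu : IsUnit (b.det fun i : Fin n => (f ^ (i : ℕ)) x) := by
    rw [Module.Basis.det_apply, ← IsLocalRing.residue_ne_zero_iff_isUnit, RingHom.map_det]
    intro h0
    refine (Matrix.linearIndependent_cols_iff_isUnit.1 ?_ |> (Matrix.isUnit_iff_isUnit_det _).1).ne_zero h0
    convert hli using 1
    funext i j
    show ρ (b.repr ((f ^ (i : ℕ)) x) j) = (g ^ (i : ℕ)) v j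
    rw [hpow, Matrix.toLinAlgEquiv'_apply, ← LinearMap.toMatrix_mulVec_repr b b (f ^ (i : ℕ)) x, RingHom.map_mulVec]
    congr 2
    · exact map_pow Φ f i
    · funext a
      show ρ (b.repr (b.equivFun.symm w) a) = v a
      rw [← Module.Basis.equivFun_apply, LinearEquiv.apply_symm_apply]
      exact hw a
  obtain ⟨h1, h2⟩ := (b.is_basis_iff_det).2 hu
  exact ⟨Module.Basis.mk h1 h2.ge, x, fun i => by rw [Module.Basis.mk_apply]⟩

/-- The top coordinate along a cyclic basis, applied to the iterates, gives coordinates. -/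
theorem exists_coords {n : ℕ} (f : Module.End L T) (c : Module.Basis (Fin n) L T) (x : T)
    (hc : ∀ i, c i = (f ^ (i : ℕ)) x) :
    ∃ (top : T →ₗ[L] L) (Ψ : T ≃ₗ[L] (Fin n → L)), ∀ w i, Ψ w i = top ((f ^ (i : ℕ)) w) := by
  classical
  let top : T →ₗ[L] L := c.constr L fun i : Fin n => if (i : ℕ) + 1 = n then 1 else 0
  let Ψ₀ : T →ₗ[L] (Fin n → L) := LinearMap.pi fun i : Fin n => top ∘ₗ (f ^ (i : ℕ))
  have htop : ∀ i, i < n → top ((f ^ i) x) = if i + 1 = n then 1 else 0 := fun i hi => by
    rw [← hc ⟨i, hi⟩, Module.Basis.constr_basis]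
  have hs : ∀ (d : Fin n → L) (m : ℕ), m ≤ n → ∃ w, ∀ i : Fin n, (i : ℕ) < m → top ((f ^ (i : ℕ)) w) = d i := by
    intro d m
    induction m with
    | zero => exact fun _ => ⟨0, fun i hi => absurd hi (Nat.not_lt_zero _)⟩
    | succ m ih =>
      intro hm
      obtain ⟨w, hw⟩ := ih (Nat.le_of_succ_le hm)
      refine ⟨w + (d ⟨m, hm⟩ - top ((f ^ m) w)) • (f ^ (n - 1 - m)) x, fun i hi => ?_⟩
      rw [map_add, map_smul, map_add, map_smul, ← Module.End.mul_apply, ← pow_add,
        htop _ (by omega), smul_eq_mul]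
      rcases Nat.lt_succ_iff_lt_or_eq.1 hi with h | h
      · rw [hw i h, if_neg (by omega), mul_zero, add_zero]
      · rw [show i = ⟨m, hm⟩ from Fin.ext h, if_pos (by simp; omega)]
        simp
  have hsurj : Function.Surjective Ψ₀ := fun d => by
    obtain ⟨w, hw⟩ := hs d n le_rfl
    exact ⟨w, funext fun i => hw i i.2⟩
  have hinj : Function.Injective Ψ₀ := by
    have h := OrzechProperty.injective_of_surjective_endomorphism (Ψ₀ ∘ₗ c.equivFun.symm.toLinearMap)
      (hsurj.comp c.equivFun.symm.surjective)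
    intro a a' haa'
    refine c.equivFun.injective (h ?_)
    simpa using haa'
  exact ⟨top, LinearEquiv.ofBijective Ψ₀ ⟨hinj, hsurj⟩, fun _ _ => rfl⟩

/-- Maps commuting with the operators correspond to functionals. -/
theorem exists_intertwiner {n : ℕ} (f : Module.End L T) (top : T →ₗ[L] L) (Ψ : T ≃ₗ[L] (Fin n → L))
    (hΨ : ∀ w i, Ψ w i = top ((f ^ (i : ℕ)) w)) (g : Module.End L S) (P : L[X]) (hP : P.Monic)
    (hPn : P.natDegree = n) (hf : aeval f P = 0) (hg : aeval g P = 0) :
    ∃ U : (S →ₗ[L] L) →ₗ[L] (S →ₗ[L] T),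
      (∀ ν, U ν ∘ₗ g = f ∘ₗ U ν) ∧ (∀ ν, top ∘ₗ U ν = ν) ∧ ∀ u : S →ₗ[L] T, u ∘ₗ g = f ∘ₗ u → U (top ∘ₗ u) = u := by
  classical
  let U : (S →ₗ[L] L) →ₗ[L] (S →ₗ[L] T) :=
    { toFun := fun ν => Ψ.symm.toLinearMap ∘ₗ LinearMap.pi fun i : Fin n => ν ∘ₗ (g ^ (i : ℕ))
      map_add' := fun a b => by
        ext s
        simp only [LinearMap.comp_apply, LinearMap.add_apply, LinearEquiv.coe_coe, ← map_add]
        congr 1
      map_smul' := fun a b => by
        ext s
        simp only [LinearMap.comp_apply, LinearMap.smul_apply, LinearEquiv.coe_coe, RingHom.id_apply]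
        rw [← Ψ.symm.map_smul a]
        congr 1 }
  have hU : ∀ ν s (i : Fin n), top ((f ^ (i : ℕ)) (U ν s)) = ν ((g ^ (i : ℕ)) s) := fun ν s i => by
    rw [← hΨ]
    exact congrFun (Ψ.apply_symm_apply _) i
  have hpoly : ∀ ν s (q : L[X]), top (aeval f q (U ν s)) = ν (aeval g q s) := fun ν s q => by
    rw [← aeval_modByMonic_eq_self_of_root hf, ← aeval_modByMonic_eq_self_of_root hg]
    rcases Nat.eq_zero_or_pos n with hn | hn
    · have : P = 1 := hP.natDegree_eq_zero.1 (hPn.trans hn)
      subst this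
      simp
    have hd : (q %ₘ P).natDegree < n := hPn ▸ natDegree_modByMonic_lt q hP (fun h => by
      rw [h, natDegree_one] at hPn; omega)
    rw [as_sum_range' (q %ₘ P) n hd, map_sum, map_sum, LinearMap.sum_apply, LinearMap.sum_apply, map_sum, map_sum]
    refine Finset.sum_congr rfl fun i hi => ?_
    rw [aeval_monomial, aeval_monomial, ← Algebra.smul_def, ← Algebra.smul_def, LinearMap.smul_apply,
      LinearMap.smul_apply, map_smul, map_smul, hU ν s ⟨i, Finset.mem_range.1 hi⟩]
  refine ⟨U, fun ν => LinearMap.ext fun s => Ψ.injective (funext fun i => ?_),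
    fun ν => LinearMap.ext fun s => by simpa using hpoly ν s 1, fun u hu => ?_⟩
  · rw [hΨ, hΨ, LinearMap.comp_apply, LinearMap.comp_apply, hU]
    have := hpoly ν s (X ^ ((i : ℕ) + 1))
    rw [map_pow, map_pow, aeval_X, aeval_X, pow_succ, pow_succ] at this
    exact this.symm
  · refine LinearMap.ext fun s => Ψ.injective (funext fun i => ?_)
    have hui : ∀ (m : ℕ) (s : S), u ((g ^ m) s) = (f ^ m) (u s) := fun m => by
      induction m with
      | zero => exact fun _ => rfl
      | succ m ih =>
        intro s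
        rw [pow_succ, pow_succ, Module.End.mul_apply, Module.End.mul_apply, ih,
          show u (g s) = f (u s) from LinearMap.congr_fun hu s]
    rw [hΨ, hΨ, hU, LinearMap.comp_apply, hui]

end Groth.Agent.H25Weilp.CyclicDual
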