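import Groth.Agent.H25Weilp.MinPoly

/-!
# Types of endomorphism algebras over finite fields
-/

set_option autoImplicit false
set_option linter.style.haveILetI false
set_option linter.unusedSectionVars false
set_option backward.isDefEq.respectTransparency false
set_option synthInstance.maxHeartbeats 400000
set_option maxHeartbeats 1600000
universe u

open CategoryTheory CategoryTheory.Limits MonoidalCategory CartesianMonoidalCategory MonObj GrpObj AlgebraicGeometry
open scoped TensorProduct Classical
open Groth.Agent Groth.Agent.H25AbCube Groth.Agent.H25AbCube.GeomTate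

noncomputable section

namespace Groth.Agent.H25Weilp

section multiset

variable {α : Type*} (R : Multiset α)

theorem card_le_sum_count : Multiset.card R ≤ (R.map fun w => R.count w).sum := by
  have h : (R.map fun _ => 1).sum ≤ (R.map fun w => R.count w).sum :=
    Multiset.sum_map_le_sum_map _ _ fun w hw => Multiset.one_le_count_iff_mem.2 hw
  simpa [Multiset.map_const', Multiset.sum_replicate] using h

theorem sum_count_of_nodup (h : R.Nodup) : (R.map fun w => R.count w).sum = Multiset.card R := by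
  rw [Multiset.map_congr rfl fun w hw => Multiset.count_eq_one_of_mem h hw, Multiset.map_const',
    Multiset.sum_replicate, smul_eq_mul, _root_.mul_one]

theorem nodup_of_sum_count (h : (R.map fun w => R.count w).sum = Multiset.card R) : R.Nodup := by
  refine Multiset.nodup_iff_count_le_one.2 fun w => ?_
  by_cases hw : w ∈ R
  · by_contra hlt
    have h1 : (R.map fun _ => 1).sum < (R.map fun w => R.count w).sum :=
      Multiset.sum_lt_sum (fun v hv => Multiset.one_le_count_iff_mem.2 hv) ⟨w, hw, not_le.1 hlt⟩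
    rw [Multiset.map_const', Multiset.sum_replicate, smul_eq_mul, _root_.mul_one, h] at h1
    exact lt_irrefl _ h1
  · rw [Multiset.count_eq_zero.2 hw]
    exact zero_le_one

theorem card_toFinset_le_one_of_sum_count (h : (R.map fun w => R.count w).sum = Multiset.card R ^ 2) :
    R.toFinset.card ≤ 1 := by
  have hfull : ∀ w ∈ R, R.count w = Multiset.card R := by
    intro w hw
    refine le_antisymm (Multiset.count_le_card w R) ?_
    by_contra hlt
    have h1 : (R.map fun w => R.count w).sum < (R.map fun _ => Multiset.card R).sum :=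
      Multiset.sum_lt_sum (fun v hv => Multiset.count_le_card v R) ⟨w, hw, not_le.1 hlt⟩
    rw [Multiset.map_const', Multiset.sum_replicate, smul_eq_mul, h, sq] at h1
    exact lt_irrefl _ h1
  refine Finset.card_le_one.2 fun a ha b hb => ?_
  rw [Multiset.mem_toFinset] at ha hb
  exact (Multiset.eq_of_mem_replicate (show b ∈ Multiset.replicate (Multiset.card R) a from
    (Multiset.eq_replicate.2 ⟨rfl, fun c hc => (Multiset.count_eq_card.1 (hfull a ha) c hc).symm⟩ ▸ hb))).symm

end multiset

variable {k : Type u} [Field k] [Finite k] (Ω : Type u) [Field Ω] [Algebra k Ω] [IsAlgClosure k Ω]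
  (l : ℕ) [Fact l.Prime] {A : Over (Spec (CommRingCat.of k))}
  [GrpObj A] [IsCommMonObj A] [IsProper A.hom] [GeometricallyIntegral A.hom]
  {π : A ⟶ A} [IsMonHom π] (hl : (l : k) ≠ 0) (hπ : IsFrob π)

include Ω l hl hπ

/-- The endomorphisms commute exactly when the Frobenius generates. -/
theorem qAdj_eq_top_iff :
    EndAV.QAdj (EndAV.End.of π) = ⊤ ↔ ∀ a b : EndAV.End A, a * b = b * a := by
  rw [← center_eq Ω l hl hπ, ← comm_end0_iff]
  exact ⟨fun h x y => Subalgebra.mem_center_iff.1 (h.ge (Algebra.mem_top : y ∈ ⊤)) x,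
    fun h => eq_top_iff.2 fun x _ => Subalgebra.mem_center_iff.2 fun y => h y x⟩

/-- A central endomorphism is a polynomial in the Frobenius up to an integer factor. -/
theorem exists_smul_eq_aeval (f : EndAV.End A) (hf : ∀ h, f * h = h * f) :
    ∃ (N : ℕ) (P : Polynomial ℤ), 0 < N ∧ N • f = Polynomial.aeval (EndAV.End.of π) P := by
  have hc : EndAV.toEnd0 f ∈ EndAV.QAdj (EndAV.End.of π) := by
    rw [← center_eq Ω l hl hπ, Subalgebra.mem_center_iff]
    intro x
    obtain ⟨a, φ, -, rfl⟩ := exists_tmul_eq x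
    rw [EndAV.toEnd0_apply, Algebra.TensorProduct.tmul_mul_tmul, Algebra.TensorProduct.tmul_mul_tmul, hf φ,
      mul_comm a]
  rw [EndAV.QAdj, Algebra.adjoin_singleton_eq_range_aeval] at hc
  obtain ⟨p, hp⟩ := hc
  obtain ⟨b, hb⟩ := IsLocalization.integerNormalization_map_to_map (nonZeroDivisors ℤ) p
  have hbb : (b : ℤ) ≠ 0 := nonZeroDivisors.ne_zero b.2
  have hb1 : (b : ℤ) • f = Polynomial.aeval (EndAV.End.of π) (IsLocalization.integerNormalization (nonZeroDivisors ℤ) p) := by
    refine toEnd0_injective ?_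
    rw [map_zsmul, ← Polynomial.aeval_algHom_apply, ← Polynomial.aeval_map_algebraMap ℚ, hb, map_zsmul]
    exact congrArg _ hp.symm
  rcases Int.natAbs_eq (b : ℤ) with he | he
  · exact ⟨(b : ℤ).natAbs, IsLocalization.integerNormalization (nonZeroDivisors ℤ) p, Int.natAbs_pos.2 hbb, by
      rw [← natCast_zsmul, ← he, hb1]⟩
  · exact ⟨(b : ℤ).natAbs, -IsLocalization.integerNormalization (nonZeroDivisors ℤ) p, Int.natAbs_pos.2 hbb, by
      rw [← natCast_zsmul, map_neg, ← hb1, ← neg_zsmul, he, neg_neg, Int.natAbs_neg, Int.natAbs_natCast]⟩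

variable [Module.Free ℤ_[l] (AbDual.TateMod A l (SGA7.pt Ω))] [Module.Finite ℤ_[l] (AbDual.TateMod A l (SGA7.pt Ω))]
  (P : Polynomial ℤ) (hP : (AbDual.tateMapₗ (l := l) (T := SGA7.pt Ω) π).charpoly = P.map (Int.castRingHom ℤ_[l]))

include hP

local notation "π0" => EndAV.toEnd0 (EndAV.End.of π)
local notation "Qbar" => AlgebraicClosure ℚ

omit hπ hl in
theorem squarefree_iff_nodup : Squarefree (P.map (Int.castRingHom ℚ)) ↔ ((P.map (Int.castRingHom ℚ)).map (algebraMap ℚ Qbar)).roots.Nodup := by
  rw [Polynomial.nodup_roots_iff_of_splits (((monic_frobPoly Ω l P hP).map _).map _).ne_zero (IsAlgClosed.splits _),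
    Polynomial.separable_map, PerfectField.separable_iff_squarefree]

/-- The commutative case. -/
theorem commutative_iff {N : ℕ} (hN : Module.finrank ℤ_[l] (AbDual.TateMod A l (SGA7.pt Ω)) = N) :
    ((∀ a b : EndAV.End A, a * b = b * a) ↔ Squarefree (P.map (Int.castRingHom ℚ))) ∧
      (Squarefree (P.map (Int.castRingHom ℚ)) ↔ Module.finrank ℚ (EndAV.End0 A) = N) := by
  haveI := finite_end0 (A := A)
  have he := finrank_qAdj Ω l hl hπ P hP
  have hr := finrank_end0_eq Ω l hl hπ P hP
  have hc := card_roots_frobPoly Ω l P hP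
  rw [hN] at hc
  rw [squarefree_iff_nodup Ω l P hP, ← qAdj_eq_top_iff Ω l hl hπ]
  rw [Similar.pairMult] at hr
  refine ⟨⟨fun h => ?_, fun h => ?_⟩, ⟨fun h => ?_, fun h => ?_⟩⟩
  · refine nodup_of_sum_count _ (le_antisymm ?_ (card_le_sum_count _))
    rw [← hr]
    refine le_trans (le_of_eq ?_) (le_trans (le_of_eq he) (Multiset.toFinset_card_le _))
    rw [h]
    exact Subalgebra.topEquiv.toLinearEquiv.finrank_eq.symm
  · refine Algebra.toSubmodule_eq_top.1 (Submodule.eq_top_of_finrank_eq ?_)
    rw [Subalgebra.finrank_toSubmodule, he, hr, sum_count_of_nodup _ h, Multiset.toFinset_card_of_nodup h]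
  · rw [hr, sum_count_of_nodup _ h, hc]
  · exact nodup_of_sum_count _ (by rw [← hr, h, hc])

/-- The totally noncommutative case. -/
theorem maximal_iff {N : ℕ} (hN : Module.finrank ℤ_[l] (AbDual.TateMod A l (SGA7.pt Ω)) = N) :
    (Module.finrank ℚ (EndAV.End0 A) = N ^ 2 ↔ ∃ n : ℤ, EndAV.End.of π = (n : EndAV.End A)) ∧
      ((∃ n : ℤ, EndAV.End.of π = (n : EndAV.End A)) ↔ ∃ a : ℤ, P = (Polynomial.X - Polynomial.C a) ^ N) := by
  haveI := finite_end0 (A := A)
  have hr := finrank_end0_eq Ω l hl hπ P hP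
  rw [Similar.pairMult] at hr
  have hc := card_roots_frobPoly Ω l P hP
  rw [hN] at hc
  have h12 : Module.finrank ℚ (EndAV.End0 A) = N ^ 2 → ∃ n : ℤ, EndAV.End.of π = (n : EndAV.End A) := by
    intro h
    have he := finrank_qAdj Ω l hl hπ P hP
    rw [EndAV.QAdj, finrank_adjoin_eq] at he
    have hdeg : (minpoly ℚ π0).natDegree ≤ 1 := he.trans_le
      (card_toFinset_le_one_of_sum_count _ (by rw [← hr, h, hc]))
    have hint := Algebra.IsIntegral.isIntegral (R := ℚ) π0
    have hm := minpoly.monic hint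
    rcases Nat.le_one_iff_eq_zero_or_eq_one.1 hdeg with h0 | h1
    · have h01 := minpoly.aeval ℚ π0
      rw [hm.natDegree_eq_zero.1 h0, map_one] at h01
      exact ⟨0, toEnd0_injective (by rw [← _root_.mul_one (EndAV.toEnd0 _), h01, mul_zero, Int.cast_zero, map_zero])⟩
    · have hX := hm.eq_X_add_C h1
      have h01 := minpoly.aeval ℚ π0
      rw [hX, map_add, Polynomial.aeval_X, Polynomial.aeval_C] at h01
      set c := -(minpoly ℚ π0).coeff 0
      have hroot : (P.map (Int.castRingHom ℚ)).eval c = 0 := by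
        have hd := minpoly.dvd ℚ _ (aeval_frobPoly Ω l hl P hP)
        rw [hX] at hd
        have := Polynomial.eval_dvd (x := c) hd
        rwa [Polynomial.eval_add, Polynomial.eval_X, Polynomial.eval_C, neg_add_cancel, zero_dvd_iff] at this
      obtain ⟨n, hn⟩ := IsIntegrallyClosed.isIntegral_iff.1
        (⟨P, monic_frobPoly Ω l P hP, by rwa [Polynomial.eval_map] at hroot⟩ : IsIntegral ℤ c)
      refine ⟨n, toEnd0_injective ?_⟩
      rw [map_intCast, eq_neg_of_add_eq_zero_left h01, ← map_neg]
      show algebraMap ℚ (EndAV.End0 A) c = _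
      rw [← hn, algebraMap_int_eq, eq_intCast, map_intCast]
  have h23 : (∃ n : ℤ, EndAV.End.of π = (n : EndAV.End A)) → ∃ a : ℤ, P = (Polynomial.X - Polynomial.C a) ^ N := by
    rintro ⟨n, hn⟩
    refine ⟨n, Polynomial.map_injective (Int.castRingHom ℤ_[l]) Int.cast_injective ?_⟩
    have h : AbDual.tateMapₗ (l := l) (T := SGA7.pt Ω) π = algebraMap ℤ_[l] _ (n : ℤ_[l]) := by
      show EndAV.End.tateRep l (SGA7.pt Ω) (EndAV.End.of π) = _
      rw [hn, map_intCast, map_intCast]
    rw [← hP, h]
    let b := Module.finBasisOfFinrankEq ℤ_[l] (AbDual.TateMod A l (SGA7.pt Ω)) hN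
    rw [← LinearMap.charpoly_toMatrix _ b, show LinearMap.toMatrix b b (algebraMap ℤ_[l] _ (n : ℤ_[l])) =
      Matrix.diagonal fun _ => (n : ℤ_[l]) from (LinearMap.toMatrixAlgEquiv b).commutes _, Matrix.charpoly_diagonal,
      Finset.prod_const, Finset.card_univ, Fintype.card_fin, Polynomial.map_pow, Polynomial.map_sub,
      Polynomial.map_X, Polynomial.map_C, eq_intCast]
  have h31 : (∃ a : ℤ, P = (Polynomial.X - Polynomial.C a) ^ N) → Module.finrank ℚ (EndAV.End0 A) = N ^ 2 := by
    rintro ⟨a, ha⟩
    rw [hr]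
    have hroots : ((P.map (Int.castRingHom ℚ)).map (algebraMap ℚ Qbar)).roots = Multiset.replicate N (algebraMap ℚ Qbar a) := by
      rw [ha]
      simp only [Polynomial.map_pow, Polynomial.map_sub, Polynomial.map_X, Polynomial.map_C, Polynomial.roots_pow,
        Polynomial.roots_X_sub_C, Multiset.nsmul_singleton]
      rw [eq_intCast (Int.castRingHom ℚ) a]
    rw [hroots, Multiset.map_congr rfl (g := fun _ => N) fun w hw => by
      rw [Multiset.eq_of_mem_replicate hw, Multiset.count_replicate_self], Multiset.map_const', Multiset.card_replicate,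
      Multiset.sum_replicate, smul_eq_mul, sq]
  exact ⟨⟨h12, fun h => h31 (h23 h)⟩, ⟨h23, fun h => h12 (h31 h)⟩⟩

/-- The case of a field. -/
theorem exists_multiplicity {N : ℕ} (hN : Module.finrank ℤ_[l] (AbDual.TateMod A l (SGA7.pt Ω)) = N)
    (hK : IsField (EndAV.QAdj (EndAV.End.of π))) :
    ∃ d : ℕ, Module.finrank ℚ (EndAV.End0 A) = Module.finrank ℚ (EndAV.QAdj (EndAV.End.of π)) * d ^ 2 ∧
      d * Module.finrank ℚ (EndAV.QAdj (EndAV.End.of π)) = N ∧
      P.map (Int.castRingHom ℚ) = (minpoly ℚ π0) ^ d := by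
  haveI := finite_end0 (A := A)
  have hmem : π0 ∈ EndAV.QAdj (EndAV.End.of π) := Algebra.self_mem_adjoin_singleton ℚ _
  have hirr : Irreducible (minpoly ℚ π0) := by
    letI := IsField.toField (R := ↥(EndAV.QAdj (EndAV.End.of π))) hK
    rw [show π0 = (EndAV.QAdj (EndAV.End.of π)).val ⟨_, hmem⟩ from rfl,
      minpoly.algHom_eq _ Subtype.val_injective]
    exact minpoly.irreducible (Algebra.IsIntegral.isIntegral _)
  set m := minpoly ℚ π0
  have hint := Algebra.IsIntegral.isIntegral (R := ℚ) π0
  have hm : m.Monic := minpoly.monic hint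
  have hPm := (monic_frobPoly Ω l P hP).map (Int.castRingHom ℚ)
  set PQ := P.map (Int.castRingHom ℚ)
  have hall : ∀ R ∈ UniqueFactorizationMonoid.normalizedFactors PQ, R = m := by
    intro R hR
    have hRi := UniqueFactorizationMonoid.irreducible_of_normalized_factor R hR
    obtain ⟨w, hw⟩ := IsAlgClosed.exists_root (R.map (algebraMap ℚ Qbar)) (by
      rw [Polynomial.degree_map]; exact (Polynomial.degree_pos_of_irreducible hRi).ne')
    have hRd : R ∣ PQ := UniqueFactorizationMonoid.dvd_of_mem_normalizedFactors hR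
    have hwP : w ∈ ((PQ.map (algebraMap ℚ Qbar)).roots).toFinset := by
      rw [Multiset.mem_toFinset, Polynomial.mem_roots (hPm.map _).ne_zero]
      exact Polynomial.IsRoot.dvd hw (Polynomial.map_dvd _ hRd)
    rw [← roots_minpoly Ω l hl hπ P hP, Multiset.mem_toFinset, Polynomial.mem_roots (hm.map _).ne_zero] at hwP
    have hRm : R.Monic := by
      rw [← UniqueFactorizationMonoid.normalize_normalized_factor R hR]
      exact Polynomial.monic_normalize hRi.ne_zero
    rw [Polynomial.IsRoot.def, Polynomial.eval_map_algebraMap] at hw hwP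
    exact (minpoly.eq_of_irreducible_of_monic hRi hw hRm).trans (minpoly.eq_of_irreducible_of_monic hirr hwP hm).symm
  let d := Multiset.card (UniqueFactorizationMonoid.normalizedFactors PQ)
  have hpow : PQ = m ^ d := by
    refine (Polynomial.eq_of_monic_of_associated (hm.pow d) hPm ?_).symm
    rw [← Multiset.prod_replicate, ← Multiset.eq_replicate.2 ⟨rfl, hall⟩]
    exact UniqueFactorizationMonoid.prod_normalizedFactors hPm.ne_zero
  have hroots : ((P.map (Int.castRingHom ℚ)).map (algebraMap ℚ Qbar)).roots = d • (m.map (algebraMap ℚ Qbar)).roots := by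
    show (PQ.map _).roots = _
    rw [hpow, Polynomial.map_pow, Polynomial.roots_pow]
  have hnd : (m.map (algebraMap ℚ Qbar)).roots.Nodup :=
    Polynomial.nodup_roots ((Polynomial.separable_map _).2 (PerfectField.separable_of_irreducible hirr))
  have he : Module.finrank ℚ (EndAV.QAdj (EndAV.End.of π)) = m.natDegree := by
    rw [EndAV.QAdj, finrank_adjoin_eq]
  refine ⟨d, ?_, ?_, hpow⟩
  · rw [finrank_end0_eq Ω l hl hπ P hP, Similar.pairMult, hroots]
    rw [Multiset.map_congr rfl fun w hw => by
      rw [Multiset.count_nsmul, Multiset.count_eq_one_of_mem hnd (Multiset.mem_of_mem_nsmul hw), _root_.mul_one],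
      Multiset.map_const', Multiset.sum_replicate, smul_eq_mul, Multiset.card_nsmul,
      IsAlgClosed.card_roots_map_eq_natDegree_of_injective _ (algebraMap ℚ Qbar).injective, he, sq]
    ring
  · rw [he, ← Polynomial.natDegree_pow, ← hpow, Polynomial.natDegree_map_eq_of_injective Int.cast_injective,
      natDegree_frobPoly Ω l P hP, hN]

end Groth.Agent.H25Weilp
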