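import Groth.Agent.H25AbCube.FrobPoly

/-!
# The Frobenius endomorphism of an abelian variety over a finite field exists
-/

set_option autoImplicit false
set_option linter.style.haveILetI false
set_option backward.isDefEq.respectTransparency false
universe u

open CategoryTheory MonoidalCategory CartesianMonoidalCategory MonObj AlgebraicGeometry
open Groth.Agent Groth.Agent.H25AbCube

namespace Groth.Agent.H25Weilp

/-- The power endomorphism of the cardinality of the base field. -/
theorem exists_powEndo {k : Type u} [Field k] [Finite k] (A : Over (Spec (CommRingCat.of k))) [GrpObj A]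
    [IsProper A.hom] [GeometricallyIntegral A.hom] :
    ∃ (π : A ⟶ A) (_ : IsMonHom π) (_ : π.left.base = 𝟙 _) (hle : ∀ U : A.left.Opens, U ≤ π.left ⁻¹ᵁ U),
      ∀ (U : A.left.Opens) (s : Γ(A.left, U)), (π.left.appLE U U (hle U)).hom s = s ^ Nat.card k := by
  obtain ⟨p, N, hp, hc, -, hq, hN⟩ := FrobPoly.exists_char k
  haveI := hp
  haveI := hc
  obtain ⟨hb, hle, happ⟩ := FrobPoly.fr_spec p A.left (N * 1)
  exact ⟨FrobPoints.F p A N hN 1, FrobPoints.isMonHom_F p A N hN 1, hb, hle, fun U s => by
    rw [hq]; exact (happ U s).trans (by rw [Nat.mul_one])⟩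

end Groth.Agent.H25Weilp
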