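import Groth.Agent.H25Weilp.Pairing
import Groth.Agent.H25AbCube.Tate
import Groth.Agent.H25AbCube.GeomCharPoly
import Groth.Agent.H25AbCube.KFinite
import Groth.Prelude.Def_EndTate

/-!
# The alternating form on the Tate module attached to an ample class
-/

set_option autoImplicit false
set_option linter.style.haveILetI false
set_option linter.unusedSectionVars false
set_option backward.isDefEq.respectTransparency false
set_option synthInstance.maxHeartbeats 400000
set_option maxHeartbeats 1000000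
universe u

open CategoryTheory CategoryTheory.Limits MonoidalCategory CartesianMonoidalCategory MonObj GrpObj AlgebraicGeometry
  TopologicalSpace
open Groth.Agent Groth.Agent.H25AbCube Groth.Agent.H25Pic0

noncomputable section

namespace Groth.Agent.H25Weilp

/-- An additive map to the `l`-adic integers is linear. -/
theorem map_smul_padic {l : ℕ} [Fact l.Prime] {T : Type*} [AddCommGroup T] [Module ℤ_[l] T] (F : T →+ ℤ_[l])
    (r : ℤ_[l]) (x : T) : F (r • x) = r * F x := by
  refine PadicInt.ext_of_toZModPow.1 fun n => ?_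
  obtain ⟨s, hs⟩ : ∃ s, r = (r.appr n : ℤ_[l]) + (l : ℤ_[l]) ^ n * s := by
    obtain ⟨s, hs⟩ := Ideal.mem_span_singleton'.1 (PadicInt.appr_spec n r)
    exact ⟨s, by rw [mul_comm, hs]; ring⟩
  have h0 : PadicInt.toZModPow n ((l : ℤ_[l]) ^ n) = 0 := by
    rw [map_pow, map_natCast, ← Nat.cast_pow, ZMod.natCast_self]
  conv_lhs => rw [hs, add_smul, mul_smul, ← Nat.cast_pow, Nat.cast_smul_eq_nsmul, Nat.cast_smul_eq_nsmul, map_add,
    map_nsmul, map_nsmul, map_add, nsmul_eq_mul, nsmul_eq_mul, map_mul, map_mul, map_natCast, map_natCast,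
    ZMod.natCast_self, zero_mul, add_zero]
  conv_rhs => rw [hs, map_mul, map_add, map_mul, h0, zero_mul, add_zero, map_natCast]

/-- Roots of unity indexed by residues. -/
theorem exists_roots {K : Type*} [Field K] {k : Type*} [Field k] [IsAlgClosed k] (c : k →+* K) (l : ℕ) [Fact l.Prime]
    (hl : (l : k) ≠ 0) :
    ∃ z : ℕ → K, (∀ n, IsPrimitiveRoot (z n) (l ^ n)) ∧ ∀ n, z (n + 1) ^ l = z n := by
  classical
  have hp : l.Prime := Fact.out
  have hroot : ∀ x : k, ∃ y, y ^ l = x := fun x => IsAlgClosed.exists_pow_nat_eq x hp.pos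
  haveI : NeZero (l : k) := ⟨hl⟩
  obtain ⟨w, hw⟩ := HasEnoughRootsOfUnity.exists_primitiveRoot k l
  choose root hr using hroot
  let s : ℕ → k := fun n => Nat.rec 1 (fun m prev => if m = 0 then w else root prev) n
  have hs : ∀ n, s (n + 1) ^ l = s n := by
    intro n
    cases n with
    | zero => show w ^ l = 1; exact hw.pow_eq_one
    | succ n => show (root (s (n + 1))) ^ l = s (n + 1); exact hr _
  have hpow : ∀ n, s n ^ (l ^ n) = 1 := by
    intro n
    induction n with
    | zero => exact one_pow _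
    | succ n ih => rw [pow_succ', pow_mul, hs, ih]
  have hpow' : ∀ n, s (n + 1) ^ (l ^ n) = w := by
    intro n
    induction n with
    | zero => rw [pow_zero, pow_one]; rfl
    | succ n ih => rw [pow_succ', pow_mul, hs, ih]
  refine ⟨fun n => c (s n), fun n => ?_, fun n => by rw [← map_pow, hs]⟩
  refine IsPrimitiveRoot.map_of_injective ?_ c.injective
  cases n with
  | zero => rw [pow_zero]; exact IsPrimitiveRoot.one
  | succ n =>
    refine IsPrimitiveRoot.iff_orderOf.2 ?_
    exact orderOf_eq_prime_pow (by rw [hpow']; exact hw.ne_one hp.one_lt) (hpow _)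

variable {k : Type u} [Field k] [IsAlgClosed k] {A : Over (Spec (CommRingCat.of k))} [GrpObj A] [IsProper A.hom]
  [GeometricallyIntegral A.hom] [IsCommMonObj A] (l : ℕ) [Fact l.Prime]

/-- The level `n` point of an element of the Tate module. -/
abbrev cpt (z : AbDual.TateMod A l (pt1 k)) (n : ℕ) : 𝟙_ (Over (Spec (CommRingCat.of k))) ⟶ A :=
  ((z : ℕ → Additive (pt1 k ⟶ A)) n).toMul

theorem cpt_pow (z : AbDual.TateMod A l (pt1 k)) (n : ℕ) : cpt l z n ^ (l ^ n) = 1 :=
  congrArg Additive.toMul (z.torsion n)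

theorem cpt_succ (z : AbDual.TateMod A l (pt1 k)) (n : ℕ) : cpt l z (n + 1) ^ l = cpt l z n :=
  congrArg Additive.toMul (z.compat n)

/-- Every torsion point is a component. -/
theorem exists_cpt (n : ℕ) (y : 𝟙_ (Over (Spec (CommRingCat.of k))) ⟶ A) (hy : y ^ (l ^ n) = 1) :
    ∃ z : AbDual.TateMod A l (pt1 k), cpt l z n = y := by
  have hp : l.Prime := Fact.out
  choose root hr using fun a : pt1 k ⟶ A => exists_pow_eq (A := A) hp.pos a
  let s : ℕ → (pt1 k ⟶ A) := fun j => Nat.rec y (fun _ prev => root prev) j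
  let t : ℕ → (pt1 k ⟶ A) := fun m => s (m - n) ^ (l ^ (n - m))
  have hs : ∀ j, s (j + 1) ^ l = s j := fun j => hr _
  have hs' : ∀ j, s j ^ (l ^ (j + n)) = 1 := by
    intro j
    induction j with
    | zero => rw [Nat.zero_add]; exact hy
    | succ j ih => rw [Nat.succ_add, pow_succ', pow_mul, hs, ih]
  have h1 : ∀ m, t m ^ (l ^ m) = 1 := fun m => by
    show (s (m - n) ^ (l ^ (n - m))) ^ (l ^ m) = 1
    rw [← pow_mul, ← pow_add, show n - m + m = m - n + n by omega, hs']
  have h2 : ∀ m, t (m + 1) ^ l = t m := fun m => by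
    show (s (m + 1 - n) ^ (l ^ (n - (m + 1)))) ^ l = s (m - n) ^ (l ^ (n - m))
    rcases le_or_gt n m with h | h
    · rw [show n - (m + 1) = 0 by omega, show n - m = 0 by omega, show m + 1 - n = m - n + 1 by omega, pow_zero,
        pow_one, pow_one, hs]
    · rw [← pow_mul, ← pow_succ, show n - (m + 1) + 1 = n - m by omega, show m + 1 - n = m - n by omega]
  exact ⟨⟨fun m => Additive.ofMul (t m), fun m => congrArg Additive.ofMul (h1 m),
    fun m => congrArg Additive.ofMul (h2 m)⟩, show t n = y by simp [t, s]⟩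

variable [IsIntegral A.left]

/-- An alternating nondegenerate form for an ample class. -/
theorem exists_form (hl : (l : k) ≠ 0) (M : A.left.Modules) (hM : CohB1.IsAmple M) :
    ∃ E : AbDual.TateMod A l (pt1 k) →ₗ[ℤ_[l]] AbDual.TateMod A l (pt1 k) →ₗ[ℤ_[l]] ℤ_[l],
      (∀ z, E z z = 0) ∧ (∀ z, (∀ w, E z w = 0) → z = 0) ∧
      (∀ (φ : A ⟶ A) [IsMonHom φ] [Surjective φ.left] (c : ℕ), ev (pc M hM.1) φ = c • pc M hM.1 → ∀ z w,
        E (AbDual.tateMapₗ (l := l) (T := pt1 k) φ z) (AbDual.tateMapₗ (l := l) (T := pt1 k) φ w) = c * E z w) ∧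
      ∀ z w, E z w = 0 → ∀ n, IsPair (pc M hM.1) (l ^ n) (cpt l z n) (cpt l w n) 1 := by
  classical
  have hp : l.Prime := Fact.out
  have hN : ∀ n, 0 < l ^ n := fun n => pow_pos hp.pos n
  haveI : ∀ n, NeZero (l ^ n) := fun n => ⟨(hN n).ne'⟩
  let ℓ := pc M hM.1
  let cst : k →+* A.left.functionField :=
    (toK (V := (⊤ : A.left.Opens)) trivial).comp (((Scheme.ΓSpecIso (CommRingCat.of k)).inv ≫ A.hom.appTop).hom)
  obtain ⟨ζ, hζ, hζl⟩ := exists_roots cst l hl
  let r : ∀ n, ZMod (l ^ n) → A.left.functionField := fun n a => ζ n ^ a.val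
  have hrcast : ∀ n (a : ℕ), r n (a : ZMod (l ^ n)) = ζ n ^ a := fun n a => by
    show ζ n ^ _ = _
    rw [ZMod.val_natCast, ← pow_mod_orderOf (ζ n) a, ← (hζ n).eq_orderOf]
  have hradd : ∀ n a b, r n (a + b) = r n a * r n b := fun n a b => by
    rw [← ZMod.natCast_zmod_val a, ← ZMod.natCast_zmod_val b, ← Nat.cast_add, hrcast, hrcast, hrcast, pow_add]
  have hrinj : ∀ n, Function.Injective (r n) := fun n a b h =>
    ZMod.val_injective _ ((hζ n).pow_inj (ZMod.val_lt a) (ZMod.val_lt b) h)
  have hr0 : ∀ n, r n 0 = 1 := fun n => by rw [← Nat.cast_zero, hrcast, pow_zero]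
  -- the levels
  have hex : ∀ n (z w : AbDual.TateMod A l (pt1 k)), ∃ a : ℕ, IsPair ℓ (l ^ n) (cpt l z n) (cpt l w n) (ζ n ^ a) := by
    intro n z w
    obtain ⟨e, he⟩ := exists_isPair (ℓ := ℓ) (hN n) (cpt_pow l z n) (cpt l w n)
    obtain ⟨i, -, hi⟩ := (hζ n).eq_pow_of_pow_eq_one (he.pow_eq_one (hN n) (cpt_pow l z n) (cpt_pow l w n))
    exact ⟨i, hi ▸ he⟩
  choose a ha using hex
  have hcompat : ∀ n z w, a (n + 1) z w ≡ a n z w [MOD l ^ n] := fun n z w => by
    have h1 := ha (n + 1) z w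
    rw [pow_succ] at h1
    have h0 := ha n z w
    rw [← cpt_succ l z n, ← cpt_succ l w n] at h0
    have h2 := IsPair.compat hp.pos (hN n) (by rw [← pow_succ]; exact cpt_pow l w (n + 1)) h0 h1
    rw [← pow_mul, mul_comm (a (n + 1) z w) l, pow_mul, hζl, ← hrcast, ← hrcast] at h2
    exact ((ZMod.natCast_eq_natCast_iff _ _ _).1 (hrinj n h2)).symm
  choose E hE using fun z w => exists_padicInt (fun n => a n z w) fun n => hcompat n z w
  have hEspec : ∀ n z w, IsPair ℓ (l ^ n) (cpt l z n) (cpt l w n) (r n (PadicInt.toZModPow n (E z w))) := by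
    intro n z w
    rw [AbDual.toZModPow_eq_appr, (ZMod.natCast_eq_natCast_iff _ _ _).2 (hE z w n), hrcast]
    exact ha n z w
  have huniq : ∀ z w x, (∀ n, IsPair ℓ (l ^ n) (cpt l z n) (cpt l w n) (r n (PadicInt.toZModPow n x))) → x = E z w :=
    fun z w x h => PadicInt.ext_of_toZModPow.1 fun n => hrinj n ((h n).unique (cpt_pow l w n) (hEspec n z w))
  have haddl : ∀ z z' w, E (z + z') w = E z w + E z' w := fun z z' w => (huniq _ _ _ fun n => by
    rw [map_add, hradd]; exact (hEspec n z w).add_left (hEspec n z' w)).symm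
  have haddr : ∀ z w w', E z (w + w') = E z w + E z w' := fun z w w' => (huniq _ _ _ fun n => by
    rw [map_add, hradd]; exact (hEspec n z w).add_right (cpt_pow l w' n) (hEspec n z w')).symm
  let E₁ : AbDual.TateMod A l (pt1 k) →ₗ[ℤ_[l]] AbDual.TateMod A l (pt1 k) →ₗ[ℤ_[l]] ℤ_[l] :=
    LinearMap.mk₂ ℤ_[l] E haddl
      (fun c z w => map_smul_padic (AddMonoidHom.mk' (fun z => E z w) fun z z' => haddl z z' w) c z)
      haddr (fun c z w => map_smul_padic (AddMonoidHom.mk' (fun w => E z w) fun w w' => haddr z w w') c w)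
  refine ⟨E₁, fun z => ?_, fun z hz => ?_, fun φ _ _ c hφ z w => ?_, fun z w h n => ?_⟩
  · refine (huniq z z 0 fun n => ?_).symm
    rw [map_zero, hr0]
    exact isPair_self (hN n) (cpt_pow l z n)
  · have hfix : ∀ n, transl ℓ (cpt l z n) = ℓ := fun n => by
      refine transl_eq_of_isPair (hN n) (by rw [Nat.cast_pow]; exact pow_ne_zero n hl) (cpt_pow l z n) fun y hy => ?_
      obtain ⟨w, rfl⟩ := exists_cpt l n y hy
      have h := hEspec n z w
      rwa [show E z w = 0 from hz w, map_zero, hr0] at h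
    have hfin : Set.Finite {a : 𝟙_ (Over (Spec (CommRingCat.of k))) ⟶ A | transl ℓ a = ℓ} := finite_fixing M hM
    by_contra hne
    obtain ⟨n₀, hn₀⟩ : ∃ n, cpt l z n ≠ 1 := by
      by_contra! h
      exact hne (AbDual.TateMod.ext fun n => Additive.toMul.injective (h n))
    have hinj : Function.Injective fun j => cpt l z (n₀ + j) := by
      have hdown : ∀ (n d : ℕ), cpt l z (n + d) ^ (l ^ d) = cpt l z n := by
        intro n d
        induction d with
        | zero => rw [pow_zero, pow_one, Nat.add_zero]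
        | succ d ih => rw [pow_succ', pow_mul, ← Nat.add_assoc, cpt_succ, ih]
      intro i j h
      by_contra hij
      wlog hlt : i < j generalizing i j
      · exact this h.symm (Ne.symm hij) (lt_of_le_of_ne (not_lt.1 hlt) (Ne.symm hij))
      obtain ⟨d, rfl⟩ : ∃ d, j = i + d + 1 := ⟨j - i - 1, by omega⟩
      refine hn₀ ?_
      let x := cpt l z (n₀ + i)
      have h1 : x ^ (l ^ (d + 1)) = x := by
        have e1 := hdown (n₀ + i) (d + 1)
        rwa [show cpt l z (n₀ + i + (d + 1)) = x from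
          (congrArg (cpt l z) (by omega : n₀ + i + (d + 1) = n₀ + (i + d + 1))).trans h.symm] at e1
      have h2 : ∀ m, x ^ (l ^ (m * (d + 1))) = x := fun m => by
        induction m with
        | zero => rw [Nat.zero_mul, pow_zero, pow_one]
        | succ m ih => rw [Nat.succ_mul, pow_add, pow_mul, ih, h1]
      have h3 : x = 1 := by
        obtain ⟨c, hc⟩ : l ^ (n₀ + i) ∣ l ^ ((n₀ + i) * (d + 1)) := pow_dvd_pow l (Nat.le_mul_of_pos_right _ d.succ_pos)
        rw [← h2 (n₀ + i), hc, pow_mul, cpt_pow, one_pow]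
      rw [← hdown n₀ i]
      exact (congrArg (· ^ (l ^ i)) h3).trans (one_pow _)
    exact (Set.infinite_range_of_injective hinj).mono (by rintro _ ⟨j, rfl⟩; exact hfix _) hfin
  · refine (huniq _ _ _ fun n => ?_).symm
    have h := hEspec n z w
    obtain ⟨e, he⟩ := exists_isPair (ℓ := ℓ) (hN n) (x := cpt l z n ≫ φ)
      (by rw [← MonObj.pow_comp, cpt_pow, MonObj.one_comp]) (cpt l w n ≫ φ)
    have h2 := he.endo hφ (hN n) (cpt_pow l w n) h
    have h3 : ∀ j : ℕ, r n (PadicInt.toZModPow n (E z w)) ^ j = r n ((j : ZMod (l ^ n)) * PadicInt.toZModPow n (E z w)) :=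
      fun j => by
        induction j with
        | zero => rw [pow_zero, Nat.cast_zero, zero_mul, hr0]
        | succ j ih => rw [pow_succ, ih, ← hradd, Nat.cast_succ, add_mul, _root_.one_mul]
    show IsPair ℓ _ _ _ (r n (PadicInt.toZModPow n ((c : ℤ_[l]) * E z w)))
    rw [map_mul, map_natCast, ← h3, ← h2]
    exact he
  · have h1 := hEspec n z w
    rwa [show E z w = 0 from h, map_zero, hr0] at h1

end Groth.Agent.H25Weilp
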