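import Groth.Agent.H25Weilp.Divisor
import Groth.Agent.H25TateConj.Semisimple
import Groth.Agent.H27Weil.FrobPoints
import Groth.Agent.H25AbCube.GeomCharPoly
import Mathlib.FieldTheory.Finite.Basic

/-!
# The Frobenius on classes and on geometric points
-/

set_option autoImplicit false
set_option linter.style.haveILetI false
set_option linter.unusedSectionVars false
set_option backward.isDefEq.respectTransparency false
set_option synthInstance.maxHeartbeats 400000
set_option maxHeartbeats 1000000
universe u

open CategoryTheory CategoryTheory.Limits MonoidalCategory CartesianMonoidalCategory MonObj GrpObj AlgebraicGeometry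
open Groth.Agent Groth.Agent.H25AbCube

noncomputable section

namespace Groth.Agent.H25Weilp

/-- A power endomorphism multiplies classes by the exponent. -/
theorem pullP_powEndo {X : Scheme.{u}} [IsIntegral X] (π : X ⟶ X) {q : ℕ} (hq : 0 < q) (hb : π.base = 𝟙 _)
    (hle : ∀ U : X.Opens, U ≤ π ⁻¹ᵁ U) (happ : ∀ (U : X.Opens) (s : Γ(X, U)), (π.appLE U U (hle U)).hom s = s ^ q)
    (u : PC X) : pullP π u = q • u := by
  have hx : ∀ x, π x = x := fun x => congrArg (fun b => b x) hb
  have hpow : ∀ f : X.functionField, fK π (hx _) f = f ^ q := fun f => by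
    obtain ⟨U, hU, s, rfl⟩ := X.presheaf.exists_germ_eq f
    show fK π (hx _) (toK hU s) = toK hU s ^ q
    rw [fK_toK, ← toK_res (hle U) hU, ← map_pow, ← happ]
    rfl
  obtain ⟨D, hD⟩ := exists_repr u
  have h1 : Repr (pullP π u) fun x => D x ^ q := by
    have := hD.pullback π (hx _)
    simpa only [hx, hpow] using this
  have h2 : ∀ j : ℕ, Repr ((j + 1) • u) fun x => D x ^ (j + 1) := fun j => by
    induction j with
    | zero => simpa using hD
    | succ j ih =>
      rw [succ_nsmul]
      simpa only [pow_succ _ (j + 1)] using ih.add hD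
  have h3 := h2 (q - 1)
  rw [Nat.sub_add_cancel hq] at h3
  refine sub_eq_zero.1 ((repr_zero_iff (h1.sub h3)).2 ⟨1, one_ne_zero, fun x => ?_⟩)
  rw [div_one, div_self (pow_ne_zero _ (hD.ne_zero x))]
  exact UnitAt.one x

/-- Scalars act on components through their residues. -/
theorem component_smul {S : Scheme.{u}} {A T : Over S} [GrpObj A] [IsCommMonObj A] {l : ℕ} [Fact l.Prime]
    (r : ℤ_[l]) (z : AbDual.TateMod A l T) (n : ℕ) :
    AbDual.TateMod.component A l T n (r • z) = r.appr n • AbDual.TateMod.component A l T n z := rfl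

variable {k : Type u} [Field k] [Finite k] {Ω : Type u} [Field Ω] [Algebra k Ω] [IsAlgClosure k Ω]

/-- The Frobenius of the algebraic closure acts on points as the Frobenius endomorphism. -/
theorem exists_frob :
    ∃ F : Ω ≃ₐ[k] Ω, (∀ a, F a = a ^ Nat.card k) ∧
      ∀ (X : Over (Spec (CommRingCat.of k))) (π : X ⟶ X) (hle : ∀ U : X.left.Opens, U ≤ π.left ⁻¹ᵁ U),
        (∀ (U : X.left.Opens) (s : Γ(X.left, U)), (π.left.appLE U U (hle U)).hom s = s ^ Nat.card k) →
          ∀ x : SGA7.pt Ω ⟶ X, SGA7.galAct F x = x ≫ π := by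
  haveI : Algebra.IsAlgebraic k Ω := IsAlgClosure.isAlgebraic
  cases nonempty_fintype k
  let F := FiniteField.frobeniusAlgEquivOfAlgebraic k Ω
  have hF : ∀ a, F a = a ^ Nat.card k := fun a => by
    rw [Nat.card_eq_fintype_card]
    exact congrFun (FiniteField.coe_frobeniusAlgEquivOfAlgebraic k Ω) a
  refine ⟨F, hF, fun X π hle happ x => Over.OverMorphism.ext ?_⟩
  exact (H27Weil.comp_frob_of_local π.left hle happ (CommRingCat.ofHom (F : Ω →+* Ω)) hF x.left).symm

variable (l : ℕ) [Fact l.Prime] (hl : (l : k) ≠ 0) {X : Over (Spec (CommRingCat.of k))} [GrpObj X] [IsCommMonObj X]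
  [IsProper X.hom] [GeometricallyIntegral X.hom] (π : X ⟶ X) [IsMonHom π]
  (hle : ∀ U : X.left.Opens, U ≤ π.left ⁻¹ᵁ U)
  (happ : ∀ (U : X.left.Opens) (s : Γ(X.left, U)), (π.left.appLE U U (hle U)).hom s = s ^ Nat.card k)

include hl hle happ

/-- The Galois action on a finite level is a power of the Frobenius. -/
theorem exists_galAct_eq_pow (τ : Ω ≃ₐ[k] Ω) (m : ℕ) :
    ∃ j : ℕ, ∀ z : AbDual.TateMod X l (SGA7.pt Ω),
      AbDual.TateMod.component X l (SGA7.pt Ω) m (H25TateConj.galT Ω l X τ z) =
        AbDual.TateMod.component X l (SGA7.pt Ω) m (((AbDual.tateMapₗ (l := l) (T := SGA7.pt Ω) π) ^ j) z) := by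
  classical
  obtain ⟨F, hF, hFπ⟩ := exists_frob (k := k) (Ω := Ω)
  haveI : Algebra.IsAlgebraic k Ω := IsAlgClosure.isAlgebraic
  haveI : IsIntegral X.left := GeometricallyIntegral.isIntegral_of_subsingleton X.hom
  obtain ⟨g, hg⟩ := H25Grp.exists_nat_dim X.hom
  haveI : IsAlgClosed Ω := IsAlgClosure.isAlgClosed k
  obtain ⟨b⟩ := exists_tateBasis_pt (Ω := Ω) l hl hg (A := X)
  let comp := AbDual.TateMod.component X l (SGA7.pt Ω) m
  let T := AbDual.tateMapₗ (l := l) (T := SGA7.pt Ω) π
  -- the finitely many points and their coordinates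
  let pts : Fin (2 * g) → (SGA7.pt Ω ⟶ X) := fun i => (comp (b i)).toMul
  have hpts : ∀ i, ∃ (y : X.left) (a : X.left.residueField y ⟶ CommRingCat.of Ω),
      (pts i).left = Spec.map a ≫ X.left.fromSpecResidueField y ∧ (Set.range a.hom).Finite := fun i => by
    obtain ⟨⟨y, a⟩, ha⟩ := ((Scheme.SpecToEquivOfField Ω X.left).symm).surjective (pts i).left
    change Spec.map a ≫ X.left.fromSpecResidueField y = (pts i).left at ha
    refine ⟨y, a, ha.symm, ?_⟩
    have hy : IsClosed ({y} : Set X.left) := by
      have : y = (pts i).left (IsLocalRing.closedPoint Ω) := by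
        rw [← ha]; exact (Scheme.fromSpecResidueField_apply y _).symm
      rw [this]
      haveI : IsIntegralHom (Spec.map (CommRingCat.ofHom (algebraMap k Ω))) :=
        IsIntegralHom.SpecMap_iff.2 (algebraMap_isIntegral_iff.2 inferInstance)
      haveI : IsIntegralHom ((pts i).left ≫ X.hom) := by
        rw [Over.w (pts i)]
        exact ‹IsIntegralHom (Spec.map (CommRingCat.ofHom (algebraMap k Ω)))›
      haveI : IsIntegralHom (pts i).left := IsIntegralHom.of_comp (pts i).left X.hom
      haveI : Subsingleton (Spec (CommRingCat.of Ω)) := inferInstanceAs (Subsingleton (PrimeSpectrum Ω))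
      rw [show {(pts i).left (IsLocalRing.closedPoint Ω)} = Set.range (pts i).left from
        Set.Subset.antisymm (Set.singleton_subset_iff.2 ⟨_, rfl⟩)
          (by rintro _ ⟨t, rfl⟩; exact congrArg (pts i).left (Subsingleton.elim _ _))]
      exact (pts i).left.isClosedMap.isClosed_range
    haveI := (isClosed_singleton_iff_isClosedImmersion).mp hy
    let φ := Spec.preimage (X.left.fromSpecResidueField y ≫ X.hom)
    have hφ : φ.hom.FiniteType := by
      have h : LocallyOfFiniteType (Spec.map φ) := by rw [Spec.map_preimage]; infer_instance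
      exact (HasRingHomProperty.Spec_iff (P := @LocallyOfFiniteType)).mp h
    letI : Algebra k (X.left.residueField y) := φ.hom.toAlgebra
    haveI : Algebra.FiniteType k (X.left.residueField y) := hφ
    haveI : Module.Finite k (X.left.residueField y) := finite_of_finite_type_of_isJacobsonRing k _
    haveI : Finite (X.left.residueField y) := Module.finite_of_finite k
    exact Set.finite_range _
  choose y a ha hfin using hpts
  let S : Set Ω := ⋃ i, Set.range (a i).hom
  have hS : S.Finite := Set.finite_iUnion hfin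
  let E : IntermediateField k Ω := IntermediateField.adjoin k S
  haveI : Finite ↥S := hS.to_subtype
  haveI : FiniteDimensional k E :=
    IntermediateField.finiteDimensional_adjoin fun x _ => Algebra.IsIntegral.isIntegral x
  haveI : Finite E := Module.finite_of_finite k
  cases nonempty_fintype k
  haveI : Normal k E := inferInstance
  obtain ⟨j, hj⟩ := (FiniteField.bijective_frobeniusAlgHom_pow k E).2 (τ.toAlgHom.restrictNormal E)
  have hτ : ∀ s ∈ S, τ s = (F ^ (j : ℕ)) s := by
    intro s hs
    have h := congrArg (fun f : E →ₐ[k] E => ((f ⟨s, IntermediateField.subset_adjoin k S hs⟩ : E) : Ω)) hj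
    simp only at h
    have hr := AlgHom.restrictNormal_commutes τ.toAlgHom E ⟨s, IntermediateField.subset_adjoin k S hs⟩
    rw [show (((τ.toAlgHom.restrictNormal E) ⟨s, IntermediateField.subset_adjoin k S hs⟩ : E) : Ω) = τ s from hr] at h
    refine h.symm.trans ?_
    have e1 : ∀ (n : ℕ) (e : E), (((FiniteField.frobeniusAlgHom k E) ^ n) e : Ω) = (e : Ω) ^ (Nat.card k ^ n) := by
      intro n
      induction n with
      | zero => intro e; simp
      | succ n ih =>
        intro e
        rw [pow_succ, AlgHom.mul_apply, ih, pow_succ', pow_mul, Nat.card_eq_fintype_card]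
        rfl
    have e2 : ∀ (n : ℕ) (w : Ω), (F ^ n) w = w ^ (Nat.card k ^ n) := by
      intro n
      induction n with
      | zero => intro w; simp
      | succ n ih =>
        intro w
        rw [pow_succ, AlgEquiv.mul_apply, ih, hF, pow_succ', pow_mul]
    rw [e1, e2]
  refine ⟨j, ?_⟩
  have hπpow : ∀ (n : ℕ) (z : AbDual.TateMod X l (SGA7.pt Ω)),
      (comp ((T ^ n) z)).toMul = SGA7.galAct (F ^ n) (comp z).toMul := by
    intro n
    induction n with
    | zero =>
      intro z
      refine Over.OverMorphism.ext ?_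
      show _ = Spec.map (CommRingCat.ofHom ((F ^ 0 : Ω ≃ₐ[k] Ω) : Ω →+* Ω)) ≫ _
      rw [pow_zero, pow_zero, show CommRingCat.ofHom ((1 : Ω ≃ₐ[k] Ω) : Ω →+* Ω) = 𝟙 _ from rfl, Spec.map_id,
        Category.id_comp]
      rfl
    | succ n ih =>
      intro z
      rw [pow_succ', Module.End.mul_apply]
      show (comp ((T ^ n) z)).toMul ≫ π = _
      rw [ih, ← hFπ X π hle happ]
      refine Over.OverMorphism.ext ?_
      show Spec.map _ ≫ Spec.map _ ≫ _ = Spec.map _ ≫ _
      rw [← Category.assoc, ← Spec.map_comp]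
      congr 2
      refine CommRingCat.hom_ext (RingHom.ext fun w => ?_)
      show F ((F ^ n) w) = (F ^ (n + 1)) w
      rw [pow_succ', AlgEquiv.mul_apply]
  -- both sides agree on a basis
  let P : AbDual.TateMod X l (SGA7.pt Ω) →+ Additive (SGA7.pt Ω ⟶ X) :=
    comp.comp (H25TateConj.galT Ω l X τ).toAddMonoidHom - comp.comp ((T ^ (j : ℕ)).toAddMonoidHom)
  have hb : ∀ i, P (b i) = 0 := fun i => by
    show comp (H25TateConj.galT Ω l X τ (b i)) - comp ((T ^ (j : ℕ)) (b i)) = 0
    rw [sub_eq_zero]
    refine Additive.toMul.injective ?_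
    rw [hπpow]
    show SGA7.galAct τ (pts i) = SGA7.galAct (F ^ (j : ℕ)) (pts i)
    refine Over.OverMorphism.ext ?_
    show Spec.map _ ≫ (pts i).left = Spec.map _ ≫ (pts i).left
    rw [ha i, ← Category.assoc, ← Category.assoc, ← Spec.map_comp, ← Spec.map_comp]
    congr 2
    exact CommRingCat.hom_ext (RingHom.ext fun c => hτ _ (Set.mem_iUnion.2 ⟨i, c, rfl⟩))
  have hsmul : ∀ (r : ℤ_[l]) (z : AbDual.TateMod X l (SGA7.pt Ω)), P z = 0 → P (r • z) = 0 := fun r z hz => by
    show comp (H25TateConj.galT Ω l X τ (r • z)) - comp ((T ^ (j : ℕ)) (r • z)) = 0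
    rw [LinearMap.map_smul, LinearMap.map_smul, component_smul, component_smul, ← smul_sub,
      show comp (H25TateConj.galT Ω l X τ z) - comp ((T ^ (j : ℕ)) z) = 0 from hz, smul_zero]
  intro z
  refine sub_eq_zero.1 ?_
  show P z = 0
  rw [← b.sum_repr z, map_sum]
  exact Finset.sum_eq_zero fun i _ => hsmul _ _ (hb i)

end Groth.Agent.H25Weilp
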