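import Groth.Agent.H25AbCube.Centralizer

/-!
# Intertwiners of semisimple operators
-/

set_option autoImplicit false
set_option linter.style.haveILetI false

open Polynomial Matrix Module
open Groth.Agent.H25AbCube.Centralizer

noncomputable section

namespace Groth.Agent.H25Weilp.Similar

/-- The number of pairs of equal roots. -/
def pairMult {K : Type*} [Field K] (P Q : K[X]) : ℕ :=
  haveI := Classical.decEq K
  (P.roots.map fun w => Q.roots.count w).sum

theorem pairMult_self {K : Type*} [Field K] (P : K[X]) : pairMult P P = sqMult P := rfl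

theorem pairMult_map {F E K : Type*} [CommRing F] [Field E] [Field K] [IsAlgClosed E] (i : E →+* K) (f : F →+* E)
    (P Q : F[X]) : pairMult (P.map (i.comp f)) (Q.map (i.comp f)) = pairMult (P.map f) (Q.map f) := by
  classical
  rw [pairMult, pairMult, ← Polynomial.map_map, ← Polynomial.map_map,
    Polynomial.Splits.roots_map (IsAlgClosed.splits _) i, Polynomial.Splits.roots_map (IsAlgClosed.splits _) i,
    Multiset.map_map]
  refine congrArg Multiset.sum (Multiset.map_congr rfl fun w _ => ?_)
  exact Multiset.count_map_eq_count' _ _ i.injective w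

theorem exists_perm {m β : Type*} [Fintype m] [DecidableEq m] {n : Type*} [Fintype n] (d : m → β) (d' : n → β)
    (h : Finset.univ.val.map d = Finset.univ.val.map d') : ∃ σ : m ≃ n, ∀ i, d' (σ i) = d i := by
  classical
  have hc : ∀ b, Fintype.card {i // d i = b} = Fintype.card {i // d' i = b} := fun b => by
    have := congrArg (Multiset.count b) h
    rw [Multiset.count_map, Multiset.count_map, ← Finset.filter_val, ← Finset.filter_val, ← Finset.card_def,
      ← Finset.card_def] at this
    rw [Fintype.card_subtype, Fintype.card_subtype]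
    simpa [eq_comm] using this
  exact ⟨Equiv.ofFiberEquiv fun b => Fintype.equivOfCardEq (hc b), fun i => Equiv.ofFiberEquiv_map _ i⟩

variable {L K : Type*} [Field L] [Field K] [IsAlgClosed K] [Algebra L K]
  {m : Type*} [Fintype m] [DecidableEq m] {n : Type*} [Fintype n] [DecidableEq n]

/-- A semisimple matrix becomes diagonal over an algebraically closed extension. -/
theorem exists_diagonal [PerfectField L] (M : Matrix m m L) (p : L[X]) (hp : Squarefree p)
    (hM : aeval M p = 0) :
    ∃ (d : m → K) (U U' : Matrix m m K), U * U' = 1 ∧ U' * U = 1 ∧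
      M.map (algebraMap L K) * U = U * diagonal d ∧
      (M.charpoly.map (algebraMap L K)).roots = Finset.univ.val.map d := by
  classical
  let MK := M.map (algebraMap L K)
  let G : Module.End K (m → K) := Matrix.toLin' MK
  have hGs : G.IsSemisimple := by
    refine Module.End.isSemisimple_of_squarefree_aeval_eq_zero (p := p.map (algebraMap L K))
      (((separable_map _).2 (PerfectField.separable_iff_squarefree.2 hp)).squarefree) ?_
    let Φ : Matrix m m L →ₐ[L] Module.End K (m → K) :=
      ((Matrix.toLinAlgEquiv' (R := K)).toAlgHom.restrictScalars L).comp (AlgHom.mapMatrix (Algebra.ofId L K))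
    rw [show G = Φ M from rfl, aeval_map_algebraMap, aeval_algHom_apply, hM, map_zero]
  have hspan : ⊤ ≤ Submodule.span K {v | ∃ c : K, G v = c • v} := by
    rw [← hGs.iSup_eigenspace_eq_top]
    exact iSup_le fun c v hv => Submodule.subset_span ⟨c, Module.End.mem_eigenspace_iff.1 hv⟩
  let v₀ := Basis.ofSpan hspan
  let v : Basis m K (m → K) := v₀.reindex (v₀.indexEquiv (Pi.basisFun K m))
  have hv : ∀ i, ∃ c : K, G (v i) = c • v i := fun i => by
    rw [Basis.reindex_apply]
    exact Basis.ofSpan_subset hspan (Set.mem_range_self _)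
  choose d hd using hv
  let U : Matrix m m K := (Pi.basisFun K m).toMatrix v
  let U' : Matrix m m K := v.toMatrix (Pi.basisFun K m)
  have hU : U * U' = 1 := Basis.toMatrix_mul_toMatrix_flip _ _
  have hU' : U' * U = 1 := Basis.toMatrix_mul_toMatrix_flip _ _
  have hcomm : MK * U = U * diagonal d := by
    ext i j
    rw [Matrix.mul_diagonal, Matrix.mul_apply]
    have h := congrFun (hd j) i
    rw [Pi.smul_apply, smul_eq_mul] at h
    simp only [U, Basis.toMatrix_apply, Pi.basisFun_repr]
    rw [mul_comm _ (d j), ← h]
    rfl
  refine ⟨d, U, U', hU, hU', hcomm, ?_⟩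
  have hsim : MK = U * diagonal d * U' := by rw [← hcomm, Matrix.mul_assoc, hU, Matrix.mul_one]
  rw [← Matrix.charpoly_map]
  show MK.charpoly.roots = _
  rw [hsim, Matrix.mul_assoc, Matrix.charpoly_mul_comm, Matrix.mul_assoc, hU', Matrix.mul_one, charpoly_diagonal,
    Finset.prod_eq_multiset_prod, show (fun i => X - C (d i)) = (fun a => X - C a) ∘ d from rfl, ← Multiset.map_map,
    roots_multiset_prod_X_sub_C]

/-- The intertwining map. -/
def tw {F : Type*} [CommRing F] (M : Matrix m m F) (N : Matrix n n F) : Matrix n m F →ₗ[F] Matrix n m F where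
  toFun X := X * M - N * X
  map_add' X Y := by rw [Matrix.add_mul, Matrix.mul_add]; abel
  map_smul' c X := by rw [Matrix.smul_mul, Matrix.mul_smul, RingHom.id_apply, smul_sub]

theorem tw_apply {F : Type*} [CommRing F] (M : Matrix m m F) (N : Matrix n n F) (X : Matrix n m F) :
    tw M N X = X * M - N * X := rfl

omit [IsAlgClosed K] in
theorem finrank_ker_tw_map (M : Matrix m m L) (N : Matrix n n L) :
    finrank K (LinearMap.ker (tw (M.map (algebraMap L K)) (N.map (algebraMap L K)))) =
      finrank L (LinearMap.ker (tw M N)) := by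
  let f := algebraMap L K
  let b := Matrix.stdBasis L n m
  let b' := Matrix.stdBasis K n m
  have hmat : LinearMap.toMatrix b' b' (tw (M.map f) (N.map f)) = (LinearMap.toMatrix b b (tw M N)).map f := by
    ext p q
    rw [Matrix.map_apply, LinearMap.toMatrix_apply, LinearMap.toMatrix_apply]
    obtain ⟨i, j⟩ := q
    obtain ⟨a, c⟩ := p
    simp only [b, b', tw_apply, Matrix.stdBasis_eq_single]
    show ((Matrix.single i j (1 : K) * M.map f - N.map f * Matrix.single i j (1 : K)) : Matrix n m K) a c =
      f (((Matrix.single i j (1 : L) * M - N * Matrix.single i j (1 : L)) : Matrix n m L) a c)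
    have e : (Matrix.single i j (1 : K)) = (Matrix.single i j (1 : L)).map f := by
      rw [Matrix.map_single]; simp
    rw [e, ← Matrix.map_mul, ← Matrix.map_mul, Matrix.sub_apply, Matrix.sub_apply, map_sub]
    rfl
  have h1 := LinearMap.finrank_range_add_finrank_ker (tw M N)
  have h2 := LinearMap.finrank_range_add_finrank_ker (tw (M.map f) (N.map f))
  rw [← Matrix.toLin_toMatrix b b (tw M N), ← Matrix.rank_eq_finrank_range_toLin, Matrix.toLin_toMatrix] at h1
  rw [← Matrix.toLin_toMatrix b' b' (tw (M.map f) (N.map f)), ← Matrix.rank_eq_finrank_range_toLin,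
    Matrix.toLin_toMatrix, hmat, rank_map] at h2
  rw [Module.finrank_matrix, Module.finrank_self, mul_one] at h1 h2
  show finrank K (LinearMap.ker (tw (M.map f) (N.map f))) = _
  omega

omit [IsAlgClosed K] in
theorem finrank_ker_tw_diagonal (d : m → K) (d' : n → K) :
    finrank K (LinearMap.ker (tw (diagonal d) (diagonal d'))) =
      haveI := Classical.decEq K
      ((Finset.univ.val.map d).map fun w => (Finset.univ.val.map d').count w).sum := by
  classical
  let S := {p : m × n // d p.1 = d' p.2}
  have hmem : ∀ X : Matrix n m K, X ∈ LinearMap.ker (tw (diagonal d) (diagonal d')) ↔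
      ∀ i j, d j ≠ d' i → X i j = 0 := by
    intro X
    rw [LinearMap.mem_ker, tw_apply, ← Matrix.ext_iff]
    refine forall_congr' fun i => forall_congr' fun j => ?_
    rw [Matrix.sub_apply, mul_diagonal, diagonal_mul, Matrix.zero_apply, sub_eq_zero]
    refine ⟨fun h hne => ?_, fun h => ?_⟩
    · by_contra hX
      exact hne (mul_left_cancel₀ hX (by rw [h, mul_comm]))
    · by_cases hd : d j = d' i
      · rw [hd, mul_comm]
      · rw [h hd, zero_mul, mul_zero]
  let e : LinearMap.ker (tw (diagonal d) (diagonal d')) ≃ₗ[K] (S → K) :=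
    { toFun := fun X p => X.1 p.1.2 p.1.1
      map_add' := fun _ _ => rfl
      map_smul' := fun _ _ => rfl
      invFun := fun v => ⟨Matrix.of fun i j => if h : d j = d' i then v ⟨(j, i), h⟩ else 0,
        (hmem _).2 fun i j h => by simp [h]⟩
      left_inv := fun X => Subtype.ext (Matrix.ext fun i j => by
        by_cases h : d j = d' i
        · simp [h]
        · simp [h, (hmem X.1).1 X.2 i j h])
      right_inv := fun v => funext fun p => by simp [p.2] }
  rw [e.finrank_eq, Module.finrank_fintype_fun_eq_card, Multiset.map_map,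
    show Fintype.card S = ∑ i, (Finset.univ.filter fun j => d i = d' j).card from by
      rw [Fintype.card_congr (Equiv.subtypeProdEquivSigmaSubtype fun i j => d i = d' j), Fintype.card_sigma]
      exact Finset.sum_congr rfl fun i _ => Fintype.card_subtype _]
  rw [Finset.sum_eq_multiset_sum]
  refine congrArg Multiset.sum (Multiset.map_congr rfl fun i _ => ?_)
  simp only [Function.comp_apply, Multiset.count_map, Finset.card_def, Finset.filter_val]

variable [PerfectField L]

/-- The dimension of the intertwiners of semisimple matrices. -/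
theorem finrank_ker_tw (M : Matrix m m L) (p : L[X]) (hp : Squarefree p) (hM : aeval M p = 0)
    (N : Matrix n n L) (q : L[X]) (hq : Squarefree q) (hN : aeval N q = 0) (K : Type*) [Field K] [IsAlgClosed K]
    [Algebra L K] :
    finrank L (LinearMap.ker (tw M N)) =
      pairMult (M.charpoly.map (algebraMap L K)) (N.charpoly.map (algebraMap L K)) := by
  classical
  obtain ⟨d, U, U', hU, hU', hd, hrd⟩ := exists_diagonal (K := K) M p hp hM
  obtain ⟨d', V, V', hV, hV', hd', hrd'⟩ := exists_diagonal (K := K) N q hq hN
  rw [← finrank_ker_tw_map (K := K), pairMult, hrd, hrd', ← finrank_ker_tw_diagonal]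
  let MK := M.map (algebraMap L K)
  let NK := N.map (algebraMap L K)
  let e : Matrix n m K ≃ₗ[K] Matrix n m K :=
    { toFun := fun X => V' * X * U
      map_add' := fun X Y => by rw [Matrix.mul_add, Matrix.add_mul]
      map_smul' := fun c X => by rw [Matrix.mul_smul, Matrix.smul_mul, RingHom.id_apply]
      invFun := fun X => V * X * U'
      left_inv := fun X => by
        show V * (V' * X * U) * U' = X
        rw [← Matrix.mul_assoc, ← Matrix.mul_assoc, hV, Matrix.one_mul, Matrix.mul_assoc, hU, Matrix.mul_one]
      right_inv := fun X => by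
        show V' * (V * X * U') * U = X
        rw [← Matrix.mul_assoc, ← Matrix.mul_assoc, hV', Matrix.one_mul, Matrix.mul_assoc, hU', Matrix.mul_one] }
  have hN' : V' * NK = diagonal d' * V' := by
    calc V' * NK = V' * NK * (V * V') := by rw [hV, Matrix.mul_one]
      _ = V' * (NK * V) * V' := by simp only [Matrix.mul_assoc]
      _ = diagonal d' * V' := by rw [hd', ← Matrix.mul_assoc, hV', Matrix.one_mul]
  have he : ∀ X, tw (diagonal d) (diagonal d') (e X) = e (tw MK NK X) := fun X => by
    show V' * X * U * diagonal d - diagonal d' * (V' * X * U) = V' * (X * MK - NK * X) * U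
    rw [Matrix.mul_assoc _ U, ← hd, Matrix.mul_sub, Matrix.sub_mul, ← Matrix.mul_assoc (diagonal d'),
      ← Matrix.mul_assoc (diagonal d'), ← hN']
    simp only [Matrix.mul_assoc, MK, NK]
  have h : Submodule.map e.toLinearMap (LinearMap.ker (tw MK NK)) = LinearMap.ker (tw (diagonal d) (diagonal d')) := by
    ext X
    rw [Submodule.mem_map_equiv, LinearMap.mem_ker, LinearMap.mem_ker, ← e.map_eq_zero_iff, ← he,
      e.apply_symm_apply]
  rw [← h]
  exact (e.submoduleMap _).finrank_eq

/-- Semisimple matrices with the same characteristic polynomial are conjugate. -/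
theorem exists_conj [Infinite L] (M : Matrix m m L) (p : L[X]) (hp : Squarefree p) (hM : aeval M p = 0)
    (N : Matrix m m L) (q : L[X]) (hq : Squarefree q) (hN : aeval N q = 0) (hc : M.charpoly = N.charpoly) :
    ∃ X : Matrix m m L, IsUnit X.det ∧ X * M = N * X := by
  classical
  let K := AlgebraicClosure L
  obtain ⟨d, U, U', hU, hU', hd, hrd⟩ := exists_diagonal (K := K) M p hp hM
  obtain ⟨d', V, V', hV, hV', hd', hrd'⟩ := exists_diagonal (K := K) N q hq hN
  obtain ⟨σ, hσ⟩ := exists_perm d d' (by rw [← hrd, ← hrd', hc])
  let P : Matrix m m K := (σ.symm.toPEquiv.toMatrix)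
  have hP : P * diagonal d = diagonal d' * P := by
    ext i j
    rw [Matrix.mul_diagonal, Matrix.diagonal_mul]
    by_cases h : σ.symm i = j
    · subst h
      rw [mul_comm, ← hσ, σ.apply_symm_apply]
    · have h0 : P i j = 0 := by simp [P, PEquiv.toMatrix_apply, h]
      rw [h0, zero_mul, mul_zero]
  let MK := M.map (algebraMap L K)
  let NK := N.map (algebraMap L K)
  let X₀ : Matrix m m K := V * P * U'
  have hX₀ : X₀ * MK = NK * X₀ := by
    calc X₀ * MK = V * P * U' * (MK * (U * U')) := by rw [hU, Matrix.mul_one]
      _ = V * P * (U' * U) * diagonal d * U' := by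
          rw [← Matrix.mul_assoc MK, hd]; simp only [Matrix.mul_assoc]
      _ = V * (P * diagonal d) * U' := by rw [hU', Matrix.mul_one, Matrix.mul_assoc V]
      _ = (V * diagonal d') * P * U' := by rw [hP]; simp only [Matrix.mul_assoc]
      _ = NK * X₀ := by rw [← hd']; simp only [X₀, NK, Matrix.mul_assoc]
  have hdet : X₀.det ≠ 0 := by
    have hPd : P.det ≠ 0 := by
      refine (Matrix.isUnit_det_of_right_inverse (B := σ.toPEquiv.toMatrix) ?_).ne_zero
      rw [← PEquiv.toMatrix_trans, ← Equiv.toPEquiv_trans, σ.symm_trans_self, Equiv.toPEquiv_refl, PEquiv.toMatrix_refl]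
    rw [Matrix.det_mul, Matrix.det_mul]
    exact mul_ne_zero (mul_ne_zero (Matrix.isUnit_det_of_right_inverse hV).ne_zero hPd)
      (Matrix.isUnit_det_of_left_inverse hU).ne_zero
  let b := finBasis L (LinearMap.ker (tw M N))
  let X : Fin _ → Matrix m m L := fun i => (b i : Matrix m m L)
  have hXmem : ∀ i, tw MK NK ((X i).map (algebraMap L K)) = 0 := fun i => by
    rw [tw_apply, ← Matrix.map_mul, ← Matrix.map_mul, ← Matrix.map_sub, show X i * M - N * X i = 0 from (b i).2,
      Matrix.map_zero _ (map_zero _)]
    exact fun a b => map_sub _ a b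
  have hli : LinearIndependent K fun i => (X i).map (algebraMap L K) := by
    let e : Matrix m m K ≃ₗ[K] (m × m → K) := (LinearEquiv.curry K K m m).symm
    refine LinearIndependent.of_comp e.toLinearMap ?_
    have hl : LinearIndependent L fun i => (LinearEquiv.curry L L m m).symm (X i) :=
      (b.linearIndependent.map' (LinearMap.ker (tw M N)).subtype (Submodule.ker_subtype _)).map'
        ((LinearEquiv.curry L L m m).symm.toLinearMap) (LinearEquiv.ker _)
    exact linearIndependent_algebraMap_comp_iff.2 hl
  have hspan : X₀ ∈ Submodule.span K (Set.range fun i => (X i).map (algebraMap L K)) := by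
    have hle : Submodule.span K (Set.range fun i => (X i).map (algebraMap L K)) ≤ LinearMap.ker (tw MK NK) :=
      Submodule.span_le.2 (by rintro _ ⟨i, rfl⟩; exact hXmem i)
    rw [Submodule.eq_of_le_of_finrank_eq hle (by
      rw [finrank_span_eq_card hli, finrank_ker_tw_map, Fintype.card_fin])]
    exact sub_eq_zero.2 hX₀
  obtain ⟨c, hc0⟩ := (Submodule.mem_span_range_iff_exists_fun K).1 hspan
  let Φ : MvPolynomial (Fin (finrank L (LinearMap.ker (tw M N)))) L :=
    (∑ i, (MvPolynomial.X i : MvPolynomial _ L) •
      (X i).map (MvPolynomial.C : L →+* MvPolynomial (Fin (finrank L (LinearMap.ker (tw M N)))) L)).det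
  have hΦK : MvPolynomial.aeval c Φ = X₀.det := by
    rw [AlgHom.map_det]
    congr 1
    rw [← hc0]
    ext a a'
    simp [Matrix.sum_apply]
  have hΦ : Φ ≠ 0 := fun h => hdet (by rw [← hΦK, h, map_zero])
  obtain ⟨a, ha⟩ : ∃ a, MvPolynomial.eval a Φ ≠ 0 := by
    by_contra! h
    exact hΦ (MvPolynomial.funext fun a => by rw [h a, map_zero])
  refine ⟨∑ i, a i • X i, ?_, ?_⟩
  · refine isUnit_iff_ne_zero.2 fun h => ha ?_
    rw [RingHom.map_det, ← h]
    congr 1
    ext r s
    simp [Matrix.sum_apply]
  · rw [Matrix.sum_mul, Matrix.mul_sum]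
    refine Finset.sum_congr rfl fun i _ => ?_
    rw [Matrix.smul_mul, Matrix.mul_smul, show X i * M = N * X i from sub_eq_zero.1 (b i).2]

/-- Pairs of equal roots are counted by the common irreducible factors. -/
theorem pairMult_eq_sum [DecidableEq L] [DecidableEq L[X]] (P Q : L[X]) (hP : P ≠ 0) (hQ : Q ≠ 0) (K : Type*) [Field K] [IsAlgClosed K]
    [Algebra L K] :
    pairMult (P.map (algebraMap L K)) (Q.map (algebraMap L K)) =
      ∑ R ∈ (UniqueFactorizationMonoid.normalizedFactors P).toFinset,
        (UniqueFactorizationMonoid.normalizedFactors P).count R *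
          (UniqueFactorizationMonoid.normalizedFactors Q).count R * R.natDegree := by
  classical
  have hroots : ∀ P : L[X], P ≠ 0 → (P.map (algebraMap L K)).roots =
      (UniqueFactorizationMonoid.normalizedFactors P).bind fun R => (R.map (algebraMap L K)).roots := by
    intro P hP
    obtain ⟨u, hu⟩ := UniqueFactorizationMonoid.prod_normalizedFactors hP
    obtain ⟨c, hc, huc⟩ := Polynomial.isUnit_iff.1 u.isUnit
    conv_lhs => rw [← hu]
    rw [← huc, mul_comm, Polynomial.map_mul, Polynomial.map_C,
      Polynomial.roots_C_mul _ ((_root_.map_ne_zero _).2 hc.ne_zero),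
      Polynomial.map_multiset_prod, Polynomial.roots_multiset_prod _ (by
        rw [Multiset.mem_map]
        rintro ⟨R, hR, h⟩
        exact (UniqueFactorizationMonoid.prime_of_normalized_factor R hR).ne_zero
          ((Polynomial.map_eq_zero_iff (algebraMap L K).injective).1 h)),
      Multiset.bind_map]
  have hcount : ∀ R ∈ UniqueFactorizationMonoid.normalizedFactors P, ∀ w ∈ (R.map (algebraMap L K)).roots,
      ((Q.map (algebraMap L K)).roots).count w = (UniqueFactorizationMonoid.normalizedFactors Q).count R := by
    intro R hR w hw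
    rw [hroots Q hQ, Multiset.count_bind]
    have h1 : ∀ R' ∈ UniqueFactorizationMonoid.normalizedFactors Q,
        ((R'.map (algebraMap L K)).roots).count w = if R' = R then 1 else 0 := by
      intro R' hR'
      have hirr : ∀ {P R : L[X]}, R ∈ UniqueFactorizationMonoid.normalizedFactors P → Irreducible R ∧ R.Monic :=
        fun {P R} h => ⟨UniqueFactorizationMonoid.irreducible_of_normalized_factor R h, by
          rw [← UniqueFactorizationMonoid.normalize_normalized_factor R h]
          exact Polynomial.monic_normalize
            (UniqueFactorizationMonoid.irreducible_of_normalized_factor R h).ne_zero⟩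
      have hmin : ∀ {R : L[X]}, Irreducible R → R.Monic → w ∈ (R.map (algebraMap L K)).roots →
          R = minpoly L w := fun {R} hi hm hw => by
        refine minpoly.eq_of_irreducible_of_monic hi ?_ hm
        rw [Polynomial.mem_roots', Polynomial.IsRoot.def, Polynomial.eval_map_algebraMap] at hw
        exact hw.2
      by_cases h : R' = R
      · rw [if_pos h, h]
        exact Multiset.count_eq_one_of_mem
          (Polynomial.nodup_roots ((Polynomial.separable_map _).2 (PerfectField.separable_of_irreducible (hirr hR).1))) hw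
      · rw [if_neg h, Multiset.count_eq_zero]
        exact fun hw' => h ((hmin (hirr hR').1 (hirr hR').2 hw').trans (hmin (hirr hR).1 (hirr hR).2 hw).symm)
    rw [Multiset.map_congr rfl h1, Multiset.sum_map_eq_nsmul_single R (fun x hx _ => if_neg hx), if_pos rfl,
      nsmul_one]
    rfl
  rw [pairMult, hroots P hP, Multiset.map_bind, Multiset.sum_bind,
    Multiset.map_congr rfl (fun R hR => show ((R.map (algebraMap L K)).roots.map fun w =>
        (Q.map (algebraMap L K)).roots.count w).sum =
          (UniqueFactorizationMonoid.normalizedFactors Q).count R * R.natDegree by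
      rw [Multiset.map_congr rfl (hcount R hR), Multiset.map_const', Multiset.sum_replicate, smul_eq_mul,
        IsAlgClosed.card_roots_map_eq_natDegree_of_injective _ (algebraMap L K).injective, mul_comm]),
    Finset.sum_multiset_map_count]
  exact Finset.sum_congr rfl fun R _ => by rw [smul_eq_mul, mul_assoc]

end Groth.Agent.H25Weilp.Similar
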