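import Groth.Agent.H25Weilp.Tate
import Groth.Agent.H25Weilp.Exists
import Groth.Agent.H25Weilp.Similar
import Groth.Agent.H25AbCube.GeomDvd
import Groth.Agent.H25TateConj.Semisimple
import Groth.Agent.S14943

/-!
# Tate's theorem for homomorphisms of abelian varieties over finite fields
-/

set_option autoImplicit false
set_option linter.style.haveILetI false
set_option linter.unusedSectionVars false
set_option backward.isDefEq.respectTransparency false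
set_option synthInstance.maxHeartbeats 400000
set_option maxHeartbeats 1600000
universe u

open CategoryTheory CategoryTheory.Limits MonoidalCategory CartesianMonoidalCategory MonObj GrpObj AlgebraicGeometry
open scoped TensorProduct
open Groth.Agent Groth.Agent.H25AbCube Groth.Agent.H25AbCube.GeomTate

noncomputable section

namespace Groth.Agent.H25Weilp

variable {k : Type u} [Field k]

/-- The power endomorphism of the cardinality of the base field. -/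
structure IsFrob {A : Over (Spec (CommRingCat.of k))} (π : A ⟶ A) : Prop where
  base : π.left.base = 𝟙 _
  le : ∀ U : A.left.Opens, U ≤ π.left ⁻¹ᵁ U
  app : ∀ (U : A.left.Opens) (s : Γ(A.left, U)), (π.left.appLE U U (le U)).hom s = s ^ Nat.card k

theorem exists_isFrob [Finite k] (A : Over (Spec (CommRingCat.of k))) [GrpObj A] [IsProper A.hom]
    [GeometricallyIntegral A.hom] : ∃ (π : A ⟶ A) (_ : IsMonHom π), IsFrob π := by
  obtain ⟨π, hπ, hb, hle, happ⟩ := exists_powEndo A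
  exact ⟨π, hπ, hb, hle, happ⟩

theorem IsFrob.comm {A B : Over (Spec (CommRingCat.of k))} {πA : A ⟶ A} {πB : B ⟶ B} (hA : IsFrob πA)
    (hB : IsFrob πB) (f : A ⟶ B) : πA ≫ f = f ≫ πB :=
  Over.OverMorphism.ext
    (pow_endo_comm (Nat.card k) πA.left hA.base hA.le hA.app πB.left hB.base hB.le hB.app f.left)

section tate

variable (Ω : Type u) [Field Ω] [Algebra k Ω] (l : ℕ) [Fact l.Prime]

/-- The map of Tate modules. -/
abbrev tm {A B : Over (Spec (CommRingCat.of k))} [GrpObj A] [IsCommMonObj A] [GrpObj B] [IsCommMonObj B]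
    (f : A ⟶ B) [IsMonHom f] : AbDual.TateMod A l (SGA7.pt Ω) →ₗ[ℤ_[l]] AbDual.TateMod B l (SGA7.pt Ω) :=
  AbDual.tateMapₗ (l := l) (T := SGA7.pt Ω) f

/-- The map of rational Tate modules. -/
abbrev tmQ {A B : Over (Spec (CommRingCat.of k))} [GrpObj A] [IsCommMonObj A] [GrpObj B] [IsCommMonObj B]
    (f : A ⟶ B) [IsMonHom f] :
    (ℚ_[l] ⊗[ℤ_[l]] AbDual.TateMod A l (SGA7.pt Ω)) →ₗ[ℚ_[l]] (ℚ_[l] ⊗[ℤ_[l]] AbDual.TateMod B l (SGA7.pt Ω)) :=
  (tm Ω l f).baseChange ℚ_[l]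

variable {A B C : Over (Spec (CommRingCat.of k))} [GrpObj A] [IsCommMonObj A] [GrpObj B] [IsCommMonObj B]
  [GrpObj C] [IsCommMonObj C]

theorem tm_comp (f : A ⟶ B) [IsMonHom f] (g : B ⟶ C) [IsMonHom g] :
    tm Ω l (f ≫ g) = tm Ω l g ∘ₗ tm Ω l f := LinearMap.ext fun x =>
  AbDual.TateMod.ext fun _ => congrArg Additive.ofMul (Category.assoc _ f g).symm

theorem tmQ_comp (f : A ⟶ B) [IsMonHom f] (g : B ⟶ C) [IsMonHom g] :
    tmQ Ω l (f ≫ g) = tmQ Ω l g ∘ₗ tmQ Ω l f := by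
  rw [tmQ, tm_comp, LinearMap.baseChange_comp]

theorem tm_congr {f g : A ⟶ B} [IsMonHom f] [IsMonHom g] (h : f = g) : tm Ω l f = tm Ω l g := by
  subst h; rfl

theorem tm_natPow (n : ℕ) [IsMonHom ((𝟙 A) ^ n : A ⟶ A)] :
    tm Ω l ((𝟙 A) ^ n : A ⟶ A) = (n : ℤ_[l]) • LinearMap.id := by
  have h := map_natCast (EndAV.End.tateRep (A := A) l (SGA7.pt Ω)) n
  rw [EndAV.End.tateRep_apply] at h
  rw [tm_congr (Ω := Ω) (l := l) (EndAV.End.toHom_natCast (A := A) n).symm]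
  refine h.trans ?_
  rw [← nsmul_one, Nat.cast_smul_eq_nsmul]
  rfl

end tate

section finite

variable [Finite k] (Ω : Type u) [Field Ω] [Algebra k Ω] [IsAlgClosure k Ω] (l : ℕ) [Fact l.Prime]
  {A B : Over (Spec (CommRingCat.of k))} [GrpObj A] [IsCommMonObj A] [IsProper A.hom] [GeometricallyIntegral A.hom]
  [GrpObj B] [IsCommMonObj B] [IsProper B.hom] [GeometricallyIntegral B.hom]
  {πA : A ⟶ A} [IsMonHom πA] {πB : B ⟶ B} [IsMonHom πB]

/-- The rational maps of Tate modules coming from homomorphisms. -/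
def ratHoms (A B : Over (Spec (CommRingCat.of k))) [GrpObj A] [IsCommMonObj A] [GrpObj B] [IsCommMonObj B] :
    Set ((ℚ_[l] ⊗[ℤ_[l]] AbDual.TateMod A l (SGA7.pt Ω)) →ₗ[ℚ_[l]] (ℚ_[l] ⊗[ℤ_[l]] AbDual.TateMod B l (SGA7.pt Ω))) :=
  Set.range fun φ : EndAV.Hom A B => (EndAV.Hom.tateMap l (SGA7.pt Ω) φ).baseChange ℚ_[l]

/-- Maps commuting with the Frobenius come from homomorphisms. -/
theorem mem_span_ratHoms (hl : (l : k) ≠ 0) (hA : IsFrob πA) (hB : IsFrob πB)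
    (ψ : (ℚ_[l] ⊗[ℤ_[l]] AbDual.TateMod A l (SGA7.pt Ω)) →ₗ[ℚ_[l]] (ℚ_[l] ⊗[ℤ_[l]] AbDual.TateMod B l (SGA7.pt Ω)))
    (hψ : ψ ∘ₗ tmQ Ω l πA = tmQ Ω l πB ∘ₗ ψ) : ψ ∈ Submodule.span ℚ_[l] (ratHoms Ω l A B) := by
  classical
  haveI : IsAlgClosed Ω := IsAlgClosure.isAlgClosed k
  haveI : IsProper (A ⊗ B).hom := by
    rw [Over.tensorObj_hom]
    haveI : IsProper (pullback.fst A.hom B.hom) := MorphismProperty.pullback_fst (P := @IsProper) _ _ inferInstance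
    infer_instance
  haveI : GeometricallyIntegral (A ⊗ B).hom := H25Rig.geometricallyIntegral_tensor A B
  haveI : IsCommMonObj (A ⊗ B) := isCommMonObj_of_av
  let iA : A ⟶ A ⊗ B := lift (𝟙 A) 1
  let iB : B ⟶ A ⊗ B := lift 1 (𝟙 B)
  haveI : IsMonHom iA := H25Rig.isMonHom_of_one_hom _ (by
    apply CartesianMonoidalCategory.hom_ext <;>
      simp only [iA, Category.assoc, lift_fst, lift_snd, Category.comp_id, MonObj.comp_one] <;>
      first
      | exact (IsMonHom.one_hom (fst A B)).symm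
      | exact (Hom.one_def.trans (by rw [toUnit_unit, Category.id_comp])).trans (IsMonHom.one_hom (snd A B)).symm)
  haveI : IsMonHom iB := H25Rig.isMonHom_of_one_hom _ (by
    apply CartesianMonoidalCategory.hom_ext <;>
      simp only [iB, Category.assoc, lift_fst, lift_snd, Category.comp_id, MonObj.comp_one] <;>
      first
      | exact (IsMonHom.one_hom (snd A B)).symm
      | exact (Hom.one_def.trans (by rw [toUnit_unit, Category.id_comp])).trans (IsMonHom.one_hom (fst A B)).symm)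
  obtain ⟨π, hπ, hP⟩ := exists_isFrob (A ⊗ B)
  have h11 : tmQ Ω l (fst A B) ∘ₗ tmQ Ω l iA = LinearMap.id := by
    rw [← tmQ_comp, tmQ, tm_congr Ω l (lift_fst (𝟙 A) (1 : A ⟶ B)),
      show tm Ω l (𝟙 A) = LinearMap.id from (EndAV.End.tateRep l (SGA7.pt Ω)).map_one, LinearMap.baseChange_id]
  have h22 : tmQ Ω l (snd A B) ∘ₗ tmQ Ω l iB = LinearMap.id := by
    rw [← tmQ_comp, tmQ, tm_congr Ω l (lift_snd (1 : B ⟶ A) (𝟙 B)),
      show tm Ω l (𝟙 B) = LinearMap.id from (EndAV.End.tateRep l (SGA7.pt Ω)).map_one, LinearMap.baseChange_id]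
  let φ := tmQ Ω l iB ∘ₗ ψ ∘ₗ tmQ Ω l (fst A B)
  have e1 : tmQ Ω l (fst A B) ∘ₗ tmQ Ω l π = tmQ Ω l πA ∘ₗ tmQ Ω l (fst A B) := by
    rw [← tmQ_comp, ← tmQ_comp, tmQ, tmQ, tm_congr Ω l (hP.comm hA (fst A B))]
  have e2 : tmQ Ω l iB ∘ₗ tmQ Ω l πB = tmQ Ω l π ∘ₗ tmQ Ω l iB := by
    rw [← tmQ_comp, ← tmQ_comp, tmQ, tmQ, tm_congr Ω l (hB.comm hP iB)]
  have hφ : φ ∈ Submodule.span ℚ_[l] (H25TateConj.ratEnds Ω l (A ⊗ B)) := by
    rw [span_eq_commutant Ω l π hP.base hP.le hP.app hl, LinearMap.mem_ker, LinearMap.sub_apply,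
      LinearMap.lcomp_apply', LinearMap.llcomp_apply', sub_eq_zero]
    show φ ∘ₗ tmQ Ω l π = tmQ Ω l π ∘ₗ φ
    show (tmQ Ω l iB ∘ₗ ψ ∘ₗ tmQ Ω l (fst A B)) ∘ₗ tmQ Ω l π = tmQ Ω l π ∘ₗ tmQ Ω l iB ∘ₗ ψ ∘ₗ tmQ Ω l (fst A B)
    rw [LinearMap.comp_assoc, LinearMap.comp_assoc, e1, ← LinearMap.comp_assoc _ _ ψ, hψ,
      LinearMap.comp_assoc _ ψ (tmQ Ω l πB), ← LinearMap.comp_assoc _ (tmQ Ω l πB) (tmQ Ω l iB), e2,
      LinearMap.comp_assoc]
  let Φ : Module.End ℚ_[l] (ℚ_[l] ⊗[ℤ_[l]] AbDual.TateMod (A ⊗ B) l (SGA7.pt Ω)) →ₗ[ℚ_[l]] _ :=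
    (LinearMap.llcomp ℚ_[l] _ _ _ (tmQ Ω l (snd A B))) ∘ₗ (LinearMap.lcomp ℚ_[l] _ (tmQ Ω l iA))
  have hΦ : ∀ χ, Φ χ = tmQ Ω l (snd A B) ∘ₗ χ ∘ₗ tmQ Ω l iA := fun χ => rfl
  have hψΦ : Φ φ = ψ := by
    rw [hΦ]
    show tmQ Ω l (snd A B) ∘ₗ (tmQ Ω l iB ∘ₗ ψ ∘ₗ tmQ Ω l (fst A B)) ∘ₗ tmQ Ω l iA = ψ
    rw [LinearMap.comp_assoc, LinearMap.comp_assoc, h11, LinearMap.comp_id, ← LinearMap.comp_assoc, h22,
      LinearMap.id_comp]
  rw [← hψΦ]
  refine Submodule.span_mono ?_ (Submodule.apply_mem_span_image_of_mem_span Φ hφ)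
  rintro _ ⟨_, ⟨f, hf, rfl⟩, rfl⟩
  refine ⟨EndAV.Hom.of (iA ≫ f ≫ snd A B), ?_⟩
  show tmQ Ω l (iA ≫ f ≫ snd A B) = Φ (tmQ Ω l f)
  rw [hΦ, tmQ_comp, tmQ_comp, LinearMap.comp_assoc]

/-- Integral maps commuting with the Frobenius come from homomorphisms. -/
theorem mem_span_homs (hl : (l : k) ≠ 0) (hA : IsFrob πA) (hB : IsFrob πB)
    (u : AbDual.TateMod A l (SGA7.pt Ω) →ₗ[ℤ_[l]] AbDual.TateMod B l (SGA7.pt Ω))
    (hu : u ∘ₗ tm Ω l πA = tm Ω l πB ∘ₗ u) :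
    u ∈ Submodule.span ℤ_[l] (Set.range (EndAV.Hom.tateMap (A := A) (B := B) l (SGA7.pt Ω))) := by
  haveI : Algebra.IsAlgebraic k Ω := IsAlgClosure.isAlgebraic
  haveI : IsAlgClosed Ω := IsAlgClosure.isAlgClosed k
  haveI : IsIntegral B.left := GeometricallyIntegral.isIntegral_of_subsingleton B.hom
  obtain ⟨h, hh⟩ := H25Grp.exists_nat_dim B.hom
  obtain ⟨bB⟩ := exists_tateBasis_pt (Ω := Ω) l hl hh (A := B)
  haveI : Module.Free ℤ_[l] (AbDual.TateMod B l (SGA7.pt Ω)) := Module.Free.of_basis bB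
  have h1 := mem_span_ratHoms Ω l hl hA hB (u.baseChange ℚ_[l]) (by
    rw [tmQ, tmQ, ← LinearMap.baseChange_comp, ← LinearMap.baseChange_comp, hu])
  obtain ⟨r, c, g, hs⟩ := Submodule.mem_span_set'.1 h1
  choose φ hφ using fun i => (g i).2
  obtain ⟨m, a, ha⟩ := exists_int_scale c
  refine mem_span_of_smul_mem l hl u m ?_
  have h0 : (l : ℤ_[l]) ^ m • u = ∑ i, a i • EndAV.Hom.tateMap l (SGA7.pt Ω) (φ i) := by
    refine LinearMap.ext fun z => one_tmul_injective (l := l) ?_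
    show (1 : ℚ_[l]) ⊗ₜ[ℤ_[l]] _ = (1 : ℚ_[l]) ⊗ₜ[ℤ_[l]] _
    rw [LinearMap.smul_apply, one_tmul_natPow, LinearMap.sum_apply, TensorProduct.tmul_sum,
      ← LinearMap.baseChange_tmul, ← hs, LinearMap.sum_apply, Finset.smul_sum]
    refine Finset.sum_congr rfl fun i _ => ?_
    rw [LinearMap.smul_apply, LinearMap.smul_apply, one_tmul_smul, ← ha, mul_smul, ← hφ i, LinearMap.baseChange_tmul]
  rw [h0]
  exact Submodule.sum_mem _ fun i _ => Submodule.smul_mem _ _ (Submodule.subset_span ⟨φ i, rfl⟩)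

omit [Finite k] in
/-- Homomorphisms are determined by their maps of Tate modules. -/
theorem hom_ext_tm (hl : (l : k) ≠ 0) {φ ψ : EndAV.Hom A B}
    (h : tm Ω l φ.toHom = tm Ω l ψ.toHom) : φ = ψ := by
  haveI : Algebra.IsAlgebraic k Ω := IsAlgClosure.isAlgebraic
  haveI : IsAlgClosed Ω := IsAlgClosure.isAlgClosed k
  rw [← sub_eq_zero]
  by_contra hne
  let x := φ - ψ
  have he : LinearIndependent ℤ fun _ : Fin 1 => Additive.ofMul x.toHom := by
    rw [Fintype.linearIndependent_iff]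
    intro c hc i
    rw [Fin.sum_univ_one] at hc
    rw [Subsingleton.elim i 0]
    by_contra h0
    exact hne (EndAV.Hom.ext (congrArg Additive.toMul
      (eq_zero_of_smul_homs (Additive.ofMul x.toHom) (c 0) (inferInstanceAs (IsMonHom x.toHom)) h0 hc)))
  have hli := linearIndependent_tateMap_pt (Ω := Ω) l hl (fun _ : Fin 1 => x.toHom) he
  refine hli.ne_zero 0 ?_
  show EndAV.Hom.tateMap l (SGA7.pt Ω) (φ - ψ) = 0
  rw [map_sub, sub_eq_zero]
  exact h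

/-- The rank of the homomorphisms is the dimension of the intertwiners. -/
theorem finrank_hom (hl : (l : k) ≠ 0) (hA : IsFrob πA) (hB : IsFrob πB) :
    Module.finrank ℤ (EndAV.Hom A B) =
      Module.finrank ℚ_[l] (LinearMap.ker (LinearMap.lcomp ℚ_[l] _ (tmQ Ω l πA) -
          LinearMap.llcomp ℚ_[l] _ _ _ (tmQ Ω l πB) :
        ((ℚ_[l] ⊗[ℤ_[l]] AbDual.TateMod A l (SGA7.pt Ω)) →ₗ[ℚ_[l]] (ℚ_[l] ⊗[ℤ_[l]] AbDual.TateMod B l (SGA7.pt Ω)))
          →ₗ[ℚ_[l]] ((ℚ_[l] ⊗[ℤ_[l]] AbDual.TateMod A l (SGA7.pt Ω)) →ₗ[ℚ_[l]]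
            (ℚ_[l] ⊗[ℤ_[l]] AbDual.TateMod B l (SGA7.pt Ω))))) := by
  classical
  haveI : Algebra.IsAlgebraic k Ω := IsAlgClosure.isAlgebraic
  haveI : IsAlgClosed Ω := IsAlgClosure.isAlgClosed k
  haveI : IsIntegral B.left := GeometricallyIntegral.isIntegral_of_subsingleton B.hom
  obtain ⟨g, hg⟩ := H25Grp.exists_nat_dim B.hom
  obtain ⟨bB⟩ := exists_tateBasis_pt (Ω := Ω) l hl hg (A := B)
  haveI : Module.Free ℤ_[l] (AbDual.TateMod B l (SGA7.pt Ω)) := Module.Free.of_basis bB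
  haveI : Module.Finite ℤ (EndAV.Hom A B) := moduleFinite_hom
  haveI : Module.IsTorsionFree ℤ (EndAV.Hom A B) := Module.isTorsionFree_iff_smul_eq_zero.2 fun m x h => by
    refine or_iff_not_imp_left.2 fun hm => EndAV.Hom.ext ?_
    have h' := congrArg EndAV.Hom.toHom h
    rw [EndAV.Hom.toHom_zsmul] at h'
    exact congrArg Additive.toMul (eq_zero_of_smul_homs (Additive.ofMul x.toHom) m
      (inferInstanceAs (IsMonHom x.toHom)) hm (congrArg Additive.ofMul h'))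
  haveI : Module.Free ℤ (EndAV.Hom A B) := Module.free_of_finite_type_torsion_free'
  let b := Module.finBasis ℤ (EndAV.Hom A B)
  let e : Fin _ → (A ⟶ B) := fun i => (b i).toHom
  have he : LinearIndependent ℤ fun i => Additive.ofMul (e i) := by
    let Φ : EndAV.Hom A B →+ Additive (A ⟶ B) := AddMonoidHom.mk' (fun x => Additive.ofMul x.toHom) fun _ _ => rfl
    exact b.linearIndependent.map_injOn Φ.toIntLinearMap fun x _ y _ h => EndAV.Hom.ext (Additive.ofMul.injective h)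
  have hv := linearIndependent_tateMap_pt (Ω := Ω) l hl e he
  let F : EndAV.Hom A B → _ := fun x => (EndAV.Hom.tateMap l (SGA7.pt Ω) x).baseChange ℚ_[l]
  have hind : LinearIndependent ℚ_[l] fun i => F (b i) := by
    rw [Fintype.linearIndependent_iff] at hv ⊢
    intro c hc i
    obtain ⟨m, a, ha⟩ := exists_int_scale c
    have h0 : ∀ z, (∑ i, a i • tm Ω l (e i)) z = 0 := by
      intro z
      refine one_tmul_injective (l := l) ?_
      show (1 : ℚ_[l]) ⊗ₜ[ℤ_[l]] _ = (1 : ℚ_[l]) ⊗ₜ[ℤ_[l]] 0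
      rw [TensorProduct.tmul_zero, LinearMap.sum_apply, TensorProduct.tmul_sum]
      simp only [LinearMap.smul_apply, one_tmul_smul, ← ha, mul_smul]
      rw [← Finset.smul_sum]
      have h1 := LinearMap.congr_fun hc (1 ⊗ₜ z)
      rw [LinearMap.sum_apply, LinearMap.zero_apply] at h1
      rw [show (∑ i, c i • ((1 : ℚ_[l]) ⊗ₜ[ℤ_[l]] tm Ω l (e i) z)) = ∑ i, (c i • F (b i)) (1 ⊗ₜ z) from rfl,
        h1, smul_zero]
    have hz := hv a (LinearMap.ext h0) i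
    have := ha i
    rw [hz, PadicInt.coe_zero] at this
    exact (mul_eq_zero.1 this).resolve_left (pow_ne_zero _ (Nat.cast_ne_zero.2 (Fact.out : l.Prime).ne_zero))
  have hspan : Submodule.span ℚ_[l] (ratHoms Ω l A B) = Submodule.span ℚ_[l] (Set.range fun i => F (b i)) := by
    refine le_antisymm (Submodule.span_le.2 ?_) (Submodule.span_mono ?_)
    · rintro _ ⟨x, rfl⟩
      show F x ∈ _
      let Fl : EndAV.Hom A B →+ _ := AddMonoidHom.mk' F fun x y => by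
        show (EndAV.Hom.tateMap l (SGA7.pt Ω) (x + y)).baseChange ℚ_[l] = _
        rw [map_add, LinearMap.baseChange_add]
      show Fl x ∈ _
      rw [← b.sum_repr x, map_sum]
      refine Submodule.sum_mem _ fun i _ => ?_
      rw [map_zsmul, ← Int.cast_smul_eq_zsmul ℚ_[l]]
      exact Submodule.smul_mem _ _ (Submodule.subset_span ⟨i, rfl⟩)
    · rintro _ ⟨i, rfl⟩
      exact ⟨b i, rfl⟩
  suffices heq : Submodule.span ℚ_[l] (ratHoms Ω l A B) =
      LinearMap.ker (LinearMap.lcomp ℚ_[l] _ (tmQ Ω l πA) - LinearMap.llcomp ℚ_[l] _ _ _ (tmQ Ω l πB) :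
        ((ℚ_[l] ⊗[ℤ_[l]] AbDual.TateMod A l (SGA7.pt Ω)) →ₗ[ℚ_[l]] (ℚ_[l] ⊗[ℤ_[l]] AbDual.TateMod B l (SGA7.pt Ω)))
          →ₗ[ℚ_[l]] ((ℚ_[l] ⊗[ℤ_[l]] AbDual.TateMod A l (SGA7.pt Ω)) →ₗ[ℚ_[l]]
            (ℚ_[l] ⊗[ℤ_[l]] AbDual.TateMod B l (SGA7.pt Ω)))) by
    rw [← heq, hspan, finrank_span_eq_card hind, Fintype.card_fin]
  refine le_antisymm (Submodule.span_le.2 ?_) fun ψ hψ => mem_span_ratHoms Ω l hl hA hB ψ ?_
  · rintro _ ⟨x, rfl⟩
    rw [SetLike.mem_coe, LinearMap.mem_ker, LinearMap.sub_apply, LinearMap.lcomp_apply', LinearMap.llcomp_apply',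
      sub_eq_zero]
    show tmQ Ω l x.toHom ∘ₗ tmQ Ω l πA = tmQ Ω l πB ∘ₗ tmQ Ω l x.toHom
    rw [← tmQ_comp, ← tmQ_comp, tmQ, tmQ, tm_congr Ω l (hA.comm hB x.toHom)]
  · exact sub_eq_zero.1 (LinearMap.mem_ker.1 hψ)

/-- The Galois action of the Frobenius automorphism is the Frobenius endomorphism. -/
theorem exists_galT_eq :
    ∃ F : Ω ≃ₐ[k] Ω, ∀ (X : Over (Spec (CommRingCat.of k))) [GrpObj X] [IsCommMonObj X] (π : X ⟶ X) [IsMonHom π],
      IsFrob π → H25TateConj.galT Ω l X F = tm Ω l π := by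
  obtain ⟨F, -, hF⟩ := exists_frob (k := k) (Ω := Ω)
  exact ⟨F, fun X _ _ π _ h => LinearMap.ext fun z => AbDual.TateMod.ext fun m =>
    congrArg Additive.ofMul (hF X π h.le h.app _)⟩

end finite

end Groth.Agent.H25Weilp
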