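import Groth.Agent.H25Weilp.Hom

/-!
# Tate's criteria for isogenies over finite fields
-/

set_option autoImplicit false
set_option linter.style.haveILetI false
set_option linter.unusedSectionVars false
set_option backward.isDefEq.respectTransparency false
set_option synthInstance.maxHeartbeats 400000
set_option maxHeartbeats 1600000
universe u

open CategoryTheory CategoryTheory.Limits MonoidalCategory CartesianMonoidalCategory MonObj GrpObj AlgebraicGeometry
open scoped TensorProduct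
open Groth.Agent Groth.Agent.H25AbCube Groth.Agent.H25AbCube.GeomTate

noncomputable section

namespace Groth.Agent.H25Weilp

/-- A combination with nonzero determinant gives one with integral coefficients. -/
theorem exists_int_det {R : Type*} [CommRing R] {s n : Type*} [Fintype s] [Fintype n] [DecidableEq n]
    [IsDomain R] [CharZero R] (M : s → Matrix n n R) (c : s → R) (h : (∑ i, c i • M i).det ≠ 0) :
    ∃ a : s → ℤ, (∑ i, a i • M i).det ≠ 0 := by
  classical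
  let Φ : MvPolynomial s R :=
    (∑ i, (MvPolynomial.X i : MvPolynomial s R) • (M i).map (MvPolynomial.C : R →+* MvPolynomial s R)).det
  have he : ∀ x : s → R, MvPolynomial.eval x Φ = (∑ i, x i • M i).det := fun x => by
    rw [RingHom.map_det]
    congr 1
    ext a b
    simp [Matrix.sum_apply]
  by_contra! h0
  refine h ?_
  rw [← he c, MvPolynomial.funext_set (p := Φ) (q := 0) (fun _ => Set.range ((↑) : ℤ → R))
    (fun _ => Set.infinite_range_of_injective Int.cast_injective) (fun x hx => ?_), map_zero]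
  choose a ha using fun i => hx i (Set.mem_univ i)
  rw [map_zero, he, ← h0 a]
  simp_rw [← ha, Int.cast_smul_eq_zsmul]

variable {k : Type u} [Field k] (Ω : Type u) [Field Ω] [Algebra k Ω] [IsAlgClosure k Ω] (l : ℕ) [Fact l.Prime]
  {A B : Over (Spec (CommRingCat.of k))} [GrpObj A] [IsCommMonObj A] [IsProper A.hom] [GeometricallyIntegral A.hom]
  [GrpObj B] [IsCommMonObj B] [IsProper B.hom] [GeometricallyIntegral B.hom]

/-- The Tate modules of abelian varieties are finite free. -/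
theorem free_finite (hl : (l : k) ≠ 0) (A : Over (Spec (CommRingCat.of k))) [GrpObj A] [IsCommMonObj A]
    [IsProper A.hom] [GeometricallyIntegral A.hom] :
    Module.Free ℤ_[l] (AbDual.TateMod A l (SGA7.pt Ω)) ∧ Module.Finite ℤ_[l] (AbDual.TateMod A l (SGA7.pt Ω)) := by
  haveI : Algebra.IsAlgebraic k Ω := IsAlgClosure.isAlgebraic
  haveI : IsAlgClosed Ω := IsAlgClosure.isAlgClosed k
  haveI : IsIntegral A.left := GeometricallyIntegral.isIntegral_of_subsingleton A.hom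
  obtain ⟨g, hg⟩ := H25Grp.exists_nat_dim A.hom
  obtain ⟨b⟩ := exists_tateBasis_pt (Ω := Ω) l hl hg (A := A)
  exact ⟨Module.Free.of_basis b, Module.Finite.of_basis b⟩

/-- An endomorphism injective on the Tate module divides a positive integer. -/
theorem exists_left_mul_eq_natCast (hl : (l : k) ≠ 0) (α : EndAV.End A)
    (hα : Function.Injective (EndAV.End.tateRep l (SGA7.pt Ω) α)) :
    ∃ (w : EndAV.End A) (N : ℕ), 0 < N ∧ w * α = (N : EndAV.End A) := by
  haveI : Algebra.IsAlgebraic k Ω := IsAlgClosure.isAlgebraic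
  haveI : IsAlgClosed Ω := IsAlgClosure.isAlgClosed k
  haveI : IsIntegral A.left := GeometricallyIntegral.isIntegral_of_subsingleton A.hom
  obtain ⟨g, hg⟩ := H25Grp.exists_nat_dim A.hom
  obtain ⟨hfree, hfin⟩ := free_finite Ω l hl A
  obtain ⟨P, -, -, -, hP⟩ := exists_charpoly_pt (Ω := Ω) hg α
  let E := EndAV.End.tateRep (A := A) l (SGA7.pt Ω)
  have h0 : P.coeff 0 ≠ 0 := fun h => by
    have hdet : LinearMap.det (E α) = 0 := by
      rw [LinearMap.det_eq_sign_charpoly_coeff, hP l hl, Polynomial.coeff_map, h, map_zero, mul_zero]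
    obtain ⟨b⟩ := exists_tateBasis_pt (Ω := Ω) l hl hg (A := A)
    rw [← LinearMap.det_toMatrix b, ← Matrix.exists_mulVec_eq_zero_iff] at hdet
    obtain ⟨v, hv, hv0⟩ := hdet
    refine hv ?_
    have hw : v = ⇑(b.repr (b.equivFun.symm v)) := (b.equivFun.apply_symm_apply v).symm
    have h2 : E α (b.equivFun.symm v) = 0 := b.equivFun.injective (by
      rw [map_zero, ← hv0, Module.Basis.equivFun_apply]
      conv_rhs => rw [hw]
      exact (LinearMap.toMatrix_mulVec_repr b b (E α) _).symm)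
    have h3 := hα (h2.trans (map_zero (E α)).symm)
    rw [← b.equivFun.apply_symm_apply v, h3, map_zero]
  have haev : Polynomial.aeval α P = 0 := by
    refine hom_ext_tm Ω l hl ?_
    show E (Polynomial.aeval α P) = E 0
    rw [map_zero, Polynomial.aeval_def, Polynomial.hom_eval₂,
      RingHom.ext_int (E.comp (algebraMap ℤ (EndAV.End A))) ((algebraMap ℤ_[l] _).comp (Int.castRingHom ℤ_[l])),
      ← Polynomial.eval₂_map, ← Polynomial.aeval_def, ← hP l hl]
    exact LinearMap.aeval_self_charpoly _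
  have hsplit := congrArg (Polynomial.aeval α) P.X_mul_divX_add
  rw [haev, map_add, map_mul, Polynomial.aeval_X, Polynomial.aeval_C, eq_intCast] at hsplit
  have hc : Polynomial.aeval α P.divX * α = ((-P.coeff 0 : ℤ) : EndAV.End A) := by
    rw [Int.cast_neg, ← eq_neg_of_add_eq_zero_left hsplit]
    simpa only [map_mul, Polynomial.aeval_X] using congrArg (Polynomial.aeval α) (Polynomial.X_mul (p := P.divX)).symm
  rcases Int.natAbs_eq (-P.coeff 0) with he | he
  · exact ⟨Polynomial.aeval α P.divX, (-P.coeff 0).natAbs, Int.natAbs_pos.2 (neg_ne_zero.2 h0), by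
      rw [hc]; conv_lhs => rw [he, Int.cast_natCast]⟩
  · exact ⟨-Polynomial.aeval α P.divX, (-P.coeff 0).natAbs, Int.natAbs_pos.2 (neg_ne_zero.2 h0), by
      rw [neg_mul, hc]; conv_lhs => rw [he, Int.cast_neg, Int.cast_natCast, neg_neg]⟩

/-- Homomorphisms in both directions which are injective on Tate modules give an isogeny. -/
theorem exists_isogeny_of_injective (hl : (l : k) ≠ 0) (f : A ⟶ B) [IsMonHom f] (g : B ⟶ A) [IsMonHom g]
    (hf : Function.Injective (tm Ω l f)) (hg : Function.Injective (tm Ω l g)) :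
    ∃ (v : B ⟶ A) (_ : IsMonHom v) (N : ℕ), 0 < N ∧ f ≫ v = (𝟙 A) ^ N ∧ v ≫ f = (𝟙 B) ^ N := by
  obtain ⟨w, N, hN, hw⟩ := exists_left_mul_eq_natCast Ω l hl (EndAV.End.of (f ≫ g)) (by
    show Function.Injective (tm Ω l (f ≫ g))
    rw [tm_comp]
    exact hg.comp hf)
  have h1 : f ≫ g ≫ w.toHom = (𝟙 A) ^ N := by
    rw [← EndAV.End.toHom_natCast, ← hw, EndAV.End.toHom_mul, EndAV.End.toHom_of, Category.assoc]
  haveI := (free_finite Ω l hl A).1
  haveI := (free_finite Ω l hl A).2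
  haveI : IsMonHom ((𝟙 A) ^ N : A ⟶ A) := isMonHom_pow N
  haveI : IsMonHom ((𝟙 B) ^ N : B ⟶ B) := isMonHom_pow N
  refine ⟨g ≫ w.toHom, inferInstance, N, hN, h1, ?_⟩
  have hTw : Function.Injective (tm Ω l w.toHom) := by
    have h2 : EndAV.End.tateRep l (SGA7.pt Ω) w * EndAV.End.tateRep l (SGA7.pt Ω) (EndAV.End.of (f ≫ g)) =
        (N : Module.End ℤ_[l] (AbDual.TateMod A l (SGA7.pt Ω))) := by rw [← map_mul, hw, map_natCast]
    have hdet := congrArg LinearMap.det h2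
    rw [map_mul, ← nsmul_one, ← Nat.cast_smul_eq_nsmul ℤ_[l], LinearMap.det_smul, map_one, _root_.mul_one] at hdet
    have hne : LinearMap.det (tm Ω l w.toHom) ≠ 0 :=
      left_ne_zero_of_mul (hdet.trans_ne (pow_ne_zero _ (Nat.cast_ne_zero.2 hN.ne')))
    let b := Module.Free.chooseBasis ℤ_[l] (AbDual.TateMod A l (SGA7.pt Ω))
    rw [← LinearMap.det_toMatrix b] at hne
    intro x y hxy
    refine b.equivFun.injective (sub_eq_zero.1 (Matrix.eq_zero_of_mulVec_eq_zero hne ?_))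
    rw [Matrix.mulVec_sub, sub_eq_zero]
    simp only [Module.Basis.equivFun_apply, LinearMap.toMatrix_mulVec_repr, hxy]
  have hvinj : Function.Injective (tm Ω l (g ≫ w.toHom)) := by
    rw [tm_comp]
    exact hTw.comp hg
  refine congrArg EndAV.Hom.toHom (hom_ext_tm Ω l hl (φ := EndAV.Hom.of ((g ≫ w.toHom) ≫ f))
    (ψ := EndAV.Hom.of ((𝟙 B) ^ N : B ⟶ B)) ?_)
  show tm Ω l ((g ≫ w.toHom) ≫ f) = tm Ω l ((𝟙 B) ^ N : B ⟶ B)
  rw [tm_natPow]
  refine LinearMap.ext fun z => hvinj ?_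
  rw [LinearMap.smul_apply, LinearMap.id_apply, map_smul, ← LinearMap.comp_apply, ← tm_comp,
    tm_congr Ω l (show ((g ≫ w.toHom) ≫ f) ≫ g ≫ w.toHom = (g ≫ w.toHom) ≫ ((𝟙 A) ^ N : A ⟶ A) by
      rw [Category.assoc, h1]), tm_comp, tm_natPow, LinearMap.comp_apply, LinearMap.smul_apply, LinearMap.id_apply]

/-- An isogeny gives a commuting isomorphism of rational Tate modules. -/
theorem exists_equiv_of_isogeny (u : A ⟶ B) [IsMonHom u] (v : B ⟶ A) [IsMonHom v] (n : ℕ) (hn : 0 < n)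
    (huv : u ≫ v = (𝟙 A) ^ n) (hvu : v ≫ u = (𝟙 B) ^ n) :
    ∃ e : (ℚ_[l] ⊗[ℤ_[l]] AbDual.TateMod A l (SGA7.pt Ω)) ≃ₗ[ℚ_[l]] (ℚ_[l] ⊗[ℤ_[l]] AbDual.TateMod B l (SGA7.pt Ω)),
      e.toLinearMap = tmQ Ω l u := by
  haveI : IsMonHom ((𝟙 A) ^ n : A ⟶ A) := isMonHom_pow n
  haveI : IsMonHom ((𝟙 B) ^ n : B ⟶ B) := isMonHom_pow n
  have hn0 : (n : ℚ_[l]) ≠ 0 := Nat.cast_ne_zero.2 hn.ne'
  have h1 : tmQ Ω l v ∘ₗ tmQ Ω l u = (n : ℚ_[l]) • LinearMap.id := by
    rw [← tmQ_comp, tmQ, tm_congr Ω l huv, tm_natPow, LinearMap.baseChange_smul, LinearMap.baseChange_id,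
      ← algebraMap_smul ℚ_[l] (n : ℤ_[l]), map_natCast]
  have h2 : tmQ Ω l u ∘ₗ tmQ Ω l v = (n : ℚ_[l]) • LinearMap.id := by
    rw [← tmQ_comp, tmQ, tm_congr Ω l hvu, tm_natPow, LinearMap.baseChange_smul, LinearMap.baseChange_id,
      ← algebraMap_smul ℚ_[l] (n : ℤ_[l]), map_natCast]
  exact ⟨LinearEquiv.ofLinear (tmQ Ω l u) ((n : ℚ_[l])⁻¹ • tmQ Ω l v)
    (by rw [LinearMap.comp_smul, h2, smul_smul, inv_mul_cancel₀ hn0, one_smul])
    (by rw [LinearMap.smul_comp, h1, smul_smul, inv_mul_cancel₀ hn0, one_smul]), rfl⟩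

section finite

variable [Finite k] {πA : A ⟶ A} [IsMonHom πA] {πB : B ⟶ B} [IsMonHom πB]

/-- A commuting isomorphism of rational Tate modules gives an injective homomorphism. -/
theorem exists_injective (hl : (l : k) ≠ 0) (hA : IsFrob πA) (hB : IsFrob πB)
    (e : (ℚ_[l] ⊗[ℤ_[l]] AbDual.TateMod A l (SGA7.pt Ω)) ≃ₗ[ℚ_[l]] (ℚ_[l] ⊗[ℤ_[l]] AbDual.TateMod B l (SGA7.pt Ω)))
    (he : e.toLinearMap ∘ₗ tmQ Ω l πA = tmQ Ω l πB ∘ₗ e.toLinearMap) :
    ∃ (f : A ⟶ B) (_ : IsMonHom f), Function.Injective (tm Ω l f) := by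
  classical
  haveI := (free_finite Ω l hl A).1
  haveI := (free_finite Ω l hl A).2
  let bA := Module.finBasis ℚ_[l] (ℚ_[l] ⊗[ℤ_[l]] AbDual.TateMod A l (SGA7.pt Ω))
  let bB := bA.map e
  obtain ⟨r, c, g, hs⟩ := Submodule.mem_span_set'.1 (mem_span_ratHoms Ω l hl hA hB e.toLinearMap he)
  choose φ hφ using fun i => (g i).2
  let F : EndAV.Hom A B →+ Matrix _ _ ℚ_[l] := AddMonoidHom.mk'
    (fun x => LinearMap.toMatrix bA bB ((EndAV.Hom.tateMap l (SGA7.pt Ω) x).baseChange ℚ_[l]))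
    fun x y => by rw [map_add, LinearMap.baseChange_add, map_add]
  have hc : (∑ i, c i • F (φ i)).det ≠ 0 := by
    have : ∑ i, c i • F (φ i) = LinearMap.toMatrix bA bB e.toLinearMap := by
      rw [← hs, map_sum]
      refine Finset.sum_congr rfl fun i _ => ?_
      rw [map_smul, ← hφ i]
      rfl
    rw [this, show LinearMap.toMatrix bA bB e.toLinearMap = 1 from Matrix.ext fun i j => by
      simp [bB, LinearMap.toMatrix_apply, Matrix.one_apply, Finsupp.single_apply, eq_comm]]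
    rw [Matrix.det_one]
    exact one_ne_zero
  obtain ⟨a, ha⟩ := exists_int_det (fun i => F (φ i)) c hc
  let x : EndAV.Hom A B := ∑ i, a i • φ i
  have hx : (F x).det ≠ 0 := by
    simpa [x, map_sum, map_zsmul] using ha
  refine ⟨x.toHom, inferInstance, fun z w hzw => ?_⟩
  have h1 : tmQ Ω l x.toHom ((1 : ℚ_[l]) ⊗ₜ[ℤ_[l]] z) = tmQ Ω l x.toHom ((1 : ℚ_[l]) ⊗ₜ[ℤ_[l]] w) := by
    rw [tmQ, LinearMap.baseChange_tmul, LinearMap.baseChange_tmul, hzw]
  refine one_tmul_injective (l := l) (bA.equivFun.injective (sub_eq_zero.1 (Matrix.eq_zero_of_mulVec_eq_zero hx ?_)))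
  rw [Matrix.mulVec_sub, sub_eq_zero]
  show (LinearMap.toMatrix bA bB (tmQ Ω l x.toHom)).mulVec _ = (LinearMap.toMatrix bA bB (tmQ Ω l x.toHom)).mulVec _
  simp only [Module.Basis.equivFun_apply, LinearMap.toMatrix_mulVec_repr, h1]

/-- A commuting isomorphism of rational Tate modules gives an isogeny. -/
theorem exists_isogeny_of_equiv (hl : (l : k) ≠ 0) (hA : IsFrob πA) (hB : IsFrob πB)
    (e : (ℚ_[l] ⊗[ℤ_[l]] AbDual.TateMod A l (SGA7.pt Ω)) ≃ₗ[ℚ_[l]] (ℚ_[l] ⊗[ℤ_[l]] AbDual.TateMod B l (SGA7.pt Ω)))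
    (he : e.toLinearMap ∘ₗ tmQ Ω l πA = tmQ Ω l πB ∘ₗ e.toLinearMap) :
    ∃ (u : A ⟶ B) (_ : IsMonHom u) (v : B ⟶ A) (_ : IsMonHom v) (n : ℕ), 0 < n ∧
        u ≫ v = (𝟙 A) ^ n ∧ v ≫ u = (𝟙 B) ^ n := by
  obtain ⟨f, _, hf⟩ := exists_injective Ω l hl hA hB e he
  obtain ⟨g, _, hg⟩ := exists_injective Ω l hl hB hA e.symm (by
    refine LinearMap.ext fun z => e.injective ?_
    have := LinearMap.congr_fun he (e.symm z)
    simp only [LinearMap.comp_apply, LinearEquiv.coe_coe, e.apply_symm_apply] at this ⊢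
    exact this.symm)
  obtain ⟨v, hv, N, hN, h1, h2⟩ := exists_isogeny_of_injective Ω l hl f g hf hg
  exact ⟨f, inferInstance, v, hv, N, hN, h1, h2⟩

/-- A commuting isomorphism of Tate modules gives a bijective homomorphism. -/
theorem exists_bijective (hl : (l : k) ≠ 0) (hA : IsFrob πA) (hB : IsFrob πB)
    (e : AbDual.TateMod A l (SGA7.pt Ω) ≃ₗ[ℤ_[l]] AbDual.TateMod B l (SGA7.pt Ω))
    (he : e.toLinearMap ∘ₗ tm Ω l πA = tm Ω l πB ∘ₗ e.toLinearMap) :
    ∃ (f : A ⟶ B) (_ : IsMonHom f), Function.Bijective (tm Ω l f) := by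
  classical
  haveI := (free_finite Ω l hl A).1
  haveI := (free_finite Ω l hl A).2
  let bA := Module.finBasis ℤ_[l] (AbDual.TateMod A l (SGA7.pt Ω))
  let bB := bA.map e
  obtain ⟨r, c, g, hs⟩ := Submodule.mem_span_set'.1 (mem_span_homs Ω l hl hA hB e.toLinearMap he)
  choose φ hφ using fun i => (g i).2
  let F : EndAV.Hom A B →+ Matrix _ _ ℤ_[l] := AddMonoidHom.mk'
    (fun x => LinearMap.toMatrix bA bB (EndAV.Hom.tateMap l (SGA7.pt Ω) x))
    fun x y => by rw [map_add, map_add]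
  have hsum : ∑ i, c i • F (φ i) = 1 := by
    have : ∑ i, c i • F (φ i) = LinearMap.toMatrix bA bB e.toLinearMap := by
      rw [← hs, map_sum]
      refine Finset.sum_congr rfl fun i _ => ?_
      rw [map_smul, ← hφ i]
      rfl
    rw [this]
    exact Matrix.ext fun i j => by
      simp [bB, LinearMap.toMatrix_apply, Matrix.one_apply, Finsupp.single_apply, eq_comm]
  let ρ := PadicInt.toZMod (p := l)
  choose a haρ using fun i => ZMod.intCast_surjective (ρ (c i))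
  let x : EndAV.Hom A B := ∑ i, a i • φ i
  have hx : IsUnit (F x).det := by
    rw [← (IsLocalRing.notMem_maximalIdeal (x := (F x).det))]
    rw [← PadicInt.ker_toZMod, RingHom.mem_ker, RingHom.map_det]
    have : ρ.mapMatrix (F x) = ρ.mapMatrix (∑ i, c i • F (φ i)) := by
      rw [show F x = ∑ i, a i • F (φ i) by simp only [x, map_sum, map_zsmul], map_sum, map_sum]
      refine Finset.sum_congr rfl fun i _ => ?_
      rw [← Int.cast_smul_eq_zsmul ℤ_[l]]
      ext p q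
      show ρ ((a i : ℤ_[l]) * F (φ i) p q) = ρ (c i * F (φ i) p q)
      rw [map_mul, map_mul, map_intCast, haρ]
    rw [this, hsum, map_one, Matrix.det_one]
    exact one_ne_zero
  refine ⟨x.toHom, inferInstance, ?_⟩
  let E := LinearEquiv.ofIsUnitDet (f := tm Ω l x.toHom) (v := bA) (v' := bB) hx
  exact E.bijective

/-- A commuting isomorphism of Tate modules gives an isogeny of degree prime to `l`. -/
theorem exists_isogeny_of_equiv_int (hl : (l : k) ≠ 0) (hA : IsFrob πA) (hB : IsFrob πB)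
    (e : AbDual.TateMod A l (SGA7.pt Ω) ≃ₗ[ℤ_[l]] AbDual.TateMod B l (SGA7.pt Ω))
    (he : e.toLinearMap ∘ₗ tm Ω l πA = tm Ω l πB ∘ₗ e.toLinearMap) :
    ∃ (f : A ⟶ B) (_ : IsMonHom f) (g : B ⟶ A) (_ : IsMonHom g) (N : ℕ), 0 < N ∧ ¬ l ∣ N ∧
        f ≫ g = (𝟙 A) ^ N ∧ g ≫ f = (𝟙 B) ^ N := by
  haveI : Algebra.IsAlgebraic k Ω := IsAlgClosure.isAlgebraic
  haveI : IsAlgClosed Ω := IsAlgClosure.isAlgClosed k
  haveI := (free_finite Ω l hl A).1
  haveI := (free_finite Ω l hl A).2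
  haveI := (free_finite Ω l hl B).1
  obtain ⟨f, _, hf⟩ := exists_bijective Ω l hl hA hB e he
  obtain ⟨g, _, hg⟩ := exists_bijective Ω l hl hB hA e.symm (by
    refine LinearMap.ext fun z => e.injective ?_
    have := LinearMap.congr_fun he (e.symm z)
    simp only [LinearMap.comp_apply, LinearEquiv.coe_coe, e.apply_symm_apply] at this ⊢
    exact this.symm)
  obtain ⟨v, _, N₀, hN₀, h1, h2⟩ := exists_isogeny_of_injective Ω l hl f g hf.1 hg.1
  have hl1 : l ≠ 1 := (Fact.out : l.Prime).ne_one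
  obtain ⟨a, N, hN, rfl⟩ : ∃ a N, ¬ l ∣ N ∧ N₀ = l ^ a * N :=
    Nat.exists_eq_pow_mul_and_not_dvd hN₀.ne' l hl1
  have hNpos : 0 < N := Nat.pos_of_mul_pos_left hN₀
  let Ef := LinearEquiv.ofBijective (tm Ω l f) hf
  haveI : IsMonHom ((𝟙 A) ^ (l ^ a * N) : A ⟶ A) := isMonHom_pow _
  have hv : tm Ω l v = ((l : ℤ_[l]) ^ a) • ((N : ℤ_[l]) • Ef.symm.toLinearMap) := by
    refine LinearMap.ext fun z => ?_
    obtain ⟨y, rfl⟩ := hf.2 z
    rw [← LinearMap.comp_apply, ← tm_comp, tm_congr Ω l h1, tm_natPow, Nat.cast_mul, Nat.cast_pow, mul_smul]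
    show _ = (l : ℤ_[l]) ^ a • (N : ℤ_[l]) • Ef.symm (Ef y)
    rw [Ef.symm_apply_apply]
    rfl
  obtain ⟨v', _, hv'⟩ := exists_eq_pow_comp_pt l hl v a _ hv
  haveI : IsMonHom ((𝟙 B) ^ (l ^ a) : B ⟶ B) := isMonHom_pow _
  have hTv' : tm Ω l v' = (N : ℤ_[l]) • Ef.symm.toLinearMap := by
    rw [tm_congr Ω l hv', tm_comp, tm_natPow, LinearMap.comp_smul, LinearMap.comp_id, Nat.cast_pow] at hv
    exact (smul_right_injective _ (pow_ne_zero a (Nat.cast_ne_zero.2 (Fact.out : l.Prime).ne_zero))) hv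
  haveI : IsMonHom ((𝟙 A) ^ N : A ⟶ A) := isMonHom_pow _
  haveI : IsMonHom ((𝟙 B) ^ N : B ⟶ B) := isMonHom_pow _
  refine ⟨f, inferInstance, v', inferInstance, N, hNpos, hN, ?_, ?_⟩
  · refine congrArg EndAV.Hom.toHom (hom_ext_tm Ω l hl (φ := EndAV.Hom.of (f ≫ v'))
      (ψ := EndAV.Hom.of ((𝟙 A) ^ N : A ⟶ A)) ?_)
    show tm Ω l (f ≫ v') = tm Ω l ((𝟙 A) ^ N : A ⟶ A)
    rw [tm_comp, hTv', tm_natPow, LinearMap.smul_comp]
    congr 1
    exact LinearMap.ext Ef.symm_apply_apply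
  · refine congrArg EndAV.Hom.toHom (hom_ext_tm Ω l hl (φ := EndAV.Hom.of (v' ≫ f))
      (ψ := EndAV.Hom.of ((𝟙 B) ^ N : B ⟶ B)) ?_)
    show tm Ω l (v' ≫ f) = tm Ω l ((𝟙 B) ^ N : B ⟶ B)
    rw [tm_comp, hTv', tm_natPow, LinearMap.comp_smul]
    congr 1
    exact LinearMap.ext Ef.apply_symm_apply

end finite

end Groth.Agent.H25Weilp
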