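import Mathlib

/-!
# From maximal isotropic subspaces to the commutant
-/

set_option autoImplicit false
set_option linter.style.haveILetI false
set_option maxHeartbeats 1000000

open Polynomial Module

noncomputable section

namespace Groth.Agent.H25Weilp.Lines

variable {F V : Type*} [Field F] [AddCommGroup V] [Module F V]

/-- A semisimple ring is von Neumann regular. -/
theorem exists_regular {R : Type*} [Ring R] [IsSemisimpleRing R] (u : R) : ∃ a, u * a * u = u := by
  obtain ⟨e, he, hI⟩ := IsSemisimpleRing.ideal_eq_span_idempotent (Ideal.span {u})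
  obtain ⟨a, ha⟩ := Ideal.mem_span_singleton'.1 (show e ∈ Ideal.span {u} from hI ▸ Ideal.mem_span_singleton_self e)
  obtain ⟨b, hb⟩ := Ideal.mem_span_singleton'.1 (show u ∈ Ideal.span {e} from hI ▸ Ideal.mem_span_singleton_self u)
  refine ⟨a, ?_⟩
  rw [mul_assoc, ha, ← hb, mul_assoc, he.eq]

/-- The images of a semisimple algebra of endomorphisms are closed under intersection. -/
theorem exists_range_inf (R : Subalgebra F (Module.End F V)) [IsSemisimpleRing R] (u₁ u₂ : R) :
    ∃ u : R, LinearMap.range (u : Module.End F V) =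
      LinearMap.range (u₁ : Module.End F V) ⊓ LinearMap.range (u₂ : Module.End F V) := by
  obtain ⟨a₁, h₁⟩ := exists_regular u₁
  obtain ⟨a₂, h₂⟩ := exists_regular u₂
  obtain ⟨a, ha⟩ := exists_regular ((1 - u₂ * a₂) * (u₁ * a₁))
  refine ⟨u₁ * a₁ * (1 - a * ((1 - u₂ * a₂) * (u₁ * a₁))), le_antisymm ?_ ?_⟩
  · rintro _ ⟨x, rfl⟩
    set y : V := (1 - a * ((1 - u₂ * a₂) * (u₁ * a₁)) : R).1 x
    refine ⟨⟨(a₁ : Module.End F V) y, rfl⟩, ⟨(a₂ : Module.End F V) ((u₁ : Module.End F V) ((a₁ : Module.End F V) y)), ?_⟩⟩
    have hz : (1 - u₂ * a₂) * (u₁ * a₁) * (1 - a * ((1 - u₂ * a₂) * (u₁ * a₁))) = 0 := by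
      rw [mul_sub, mul_one, ← mul_assoc _ a, ha, sub_self]
    have := LinearMap.congr_fun (congrArg Subtype.val hz) x
    simp only [MulMemClass.coe_mul, AddSubgroupClass.coe_sub, OneMemClass.coe_one, ZeroMemClass.coe_zero,
      Module.End.mul_apply, LinearMap.sub_apply, Module.End.one_apply, LinearMap.zero_apply, sub_eq_zero] at this
    exact this.symm
  · rintro x ⟨⟨y₁, hy₁⟩, ⟨y₂, hy₂⟩⟩
    have e₁ : (u₁ : Module.End F V) ((a₁ : Module.End F V) x) = x := by
      rw [← hy₁]; exact LinearMap.congr_fun (congrArg Subtype.val h₁) y₁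
    have e₂ : (u₂ : Module.End F V) ((a₂ : Module.End F V) x) = x := by
      rw [← hy₂]; exact LinearMap.congr_fun (congrArg Subtype.val h₂) y₂
    refine ⟨x, ?_⟩
    simp only [MulMemClass.coe_mul, AddSubgroupClass.coe_sub, OneMemClass.coe_one, Module.End.mul_apply,
      LinearMap.sub_apply, Module.End.one_apply, e₁, e₂, sub_self, map_zero, sub_zero]

/-- A stable subspace is spanned by eigenvectors. -/
theorem mem_span_eigen (π : Module.End F V) (U : Submodule F V) (hU : ∀ x ∈ U, π x ∈ U) :
    ∀ (d : ℕ) (p : F[X]), p.natDegree = d → p ≠ 0 → p.Splits → Squarefree p → ∀ x ∈ U, aeval π p x = 0 →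
      x ∈ Submodule.span F {v | v ∈ U ∧ ∃ a : F, π v = a • v} := by
  intro d
  induction d with
  | zero =>
    intro p hd hp _ _ x _ hx
    rw [eq_C_of_natDegree_eq_zero hd, aeval_C, Module.algebraMap_end_apply] at hx
    rw [eq_C_of_natDegree_eq_zero hd, Ne, C_eq_zero] at hp
    rw [(smul_eq_zero.1 hx).resolve_left hp]
    exact zero_mem _
  | succ d ih =>
    intro p hd hp hs hsq x hxU hx
    obtain ⟨a, ha⟩ := hs.exists_eval_eq_zero (by
      intro h
      have := natDegree_eq_zero_iff_degree_le_zero.2 h.le
      omega)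
    obtain ⟨q, rfl⟩ := (dvd_iff_isRoot (a := a)).2 ha
    have hq : q ≠ 0 := right_ne_zero_of_mul hp
    have hqd : q.natDegree = d := by rw [natDegree_mul (X_sub_C_ne_zero a) hq, natDegree_X_sub_C] at hd; omega
    have hqa : ¬ (X - C a) ∣ q := fun h =>
      not_isUnit_X_sub_C a (hsq (X - C a) (mul_dvd_mul_left _ h))
    obtain ⟨u, v, huv⟩ := (irreducible_X_sub_C a).coprime_iff_not_dvd.2 hqa
    have hmem : ∀ (r : F[X]), ∀ y ∈ U, aeval π r y ∈ U := fun r => by
      induction r using Polynomial.induction_on' with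
      | add r r' hr hr' => intro y hy; rw [map_add]; exact add_mem (hr y hy) (hr' y hy)
      | monomial n c =>
        intro y hy
        rw [aeval_monomial, Module.End.mul_apply, Module.algebraMap_end_apply]
        refine U.smul_mem _ ?_
        induction n with
        | zero => simpa using hy
        | succ n ihn => rw [pow_succ', Module.End.mul_apply]; exact hU _ ihn
    have hx' : x = aeval π (u * (X - C a)) x + aeval π (v * q) x := by
      rw [← LinearMap.add_apply, ← map_add, huv, map_one, Module.End.one_apply]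
    rw [hx']
    refine add_mem (ih q hqd hq (hs.of_dvd hp (dvd_mul_left _ _)) (hsq.squarefree_of_dvd (dvd_mul_left _ _)) _
      (hmem _ x hxU) ?_) (Submodule.subset_span ⟨hmem _ x hxU, a, ?_⟩)
    · rw [← Module.End.mul_apply, ← map_mul, show q * (u * (X - C a)) = u * ((X - C a) * q) by ring, map_mul,
        Module.End.mul_apply, hx, map_zero]
    · have h0 : aeval π (X - C a) (aeval π (v * q) x) = 0 := by
        rw [← Module.End.mul_apply, ← map_mul, show (X - C a) * (v * q) = v * ((X - C a) * q) by ring, map_mul,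
          Module.End.mul_apply, hx, map_zero]
      rwa [map_sub, aeval_X, aeval_C, LinearMap.sub_apply, Module.algebraMap_end_apply, sub_eq_zero] at h0

variable [FiniteDimensional F V]

/-- Maximal isotropic images force the commutant into the algebra. -/
theorem mem_of_commute (π : Module.End F V) (p : F[X]) (hp : p.Splits) (hp' : Squarefree p) (hpπ : aeval π p = 0)
    (R : Subalgebra F (Module.End F V)) [IsSemisimpleRing R]
    (B : LinearMap.BilinForm F V) (hB : B.Nondegenerate) (halt : ∀ x, B x x = 0) (c : F) (hc : c ≠ 0)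
    (hBπ : ∀ x y, B (π x) (π y) = c * B x y)
    (hmax : ∀ W : Submodule F V, (∀ x ∈ W, π x ∈ W) → B.orthogonal W = W → ∃ u : R, LinearMap.range (u : Module.End F V) = W)
    (φ : Module.End F V) (hφ : ∀ x, φ (π x) = π (φ x)) : φ ∈ R := by
  classical
  have hp0 : p ≠ 0 := hp'.ne_zero
  have hskew : ∀ x y, B x y = - B y x := fun x y => by
    have h := halt (x + y)
    simp only [map_add, LinearMap.add_apply, halt, zero_add, add_zero] at h
    linear_combination h
  have hrefl : B.IsRefl := fun x y h => by rw [hskew, h, neg_zero]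
  have hspan : ∀ U : Submodule F V, (∀ x ∈ U, π x ∈ U) → U ≤ Submodule.span F {v | v ∈ U ∧ ∃ a : F, π v = a • v} :=
    fun U hU x hx => mem_span_eigen π U hU _ p rfl hp0 hp hp' x hx (by rw [hpπ, LinearMap.zero_apply])
  have hinj : Function.Injective π := by
    rw [injective_iff_map_eq_zero]
    intro x hx
    refine hB.1 x fun y => ?_
    have h := hBπ x y
    rw [hx, map_zero, LinearMap.zero_apply] at h
    exact (mul_eq_zero.1 h.symm).resolve_left hc
  have hsurj : Function.Surjective π := LinearMap.surjective_of_injective hinj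
  have horth : ∀ W : Submodule F V, (∀ x ∈ W, π x ∈ W) → ∀ x ∈ B.orthogonal W, π x ∈ B.orthogonal W := by
    intro W hW x hx n hn
    have he : W.map π = W := Submodule.eq_of_le_of_finrank_eq (by rintro _ ⟨w, hw, rfl⟩; exact hW w hw)
      (LinearEquiv.finrank_eq (Submodule.equivMapOfInjective π hinj W)).symm
    obtain ⟨w, hw, rfl⟩ := (he.symm ▸ hn : n ∈ W.map π)
    rw [hBπ, show B w x = 0 from hx w hw, mul_zero]
  -- isotropic stable subspaces are images
  have key : ∀ (m : ℕ) (W : Submodule F V), finrank F V ≤ finrank F W + m → (∀ x ∈ W, π x ∈ W) → W ≤ B.orthogonal W →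
      ∃ u : R, LinearMap.range (u : Module.End F V) = W := by
    intro m
    induction m with
    | zero =>
      intro W hm hW hiso
      refine hmax W hW (le_antisymm ?_ hiso)
      have h : W = ⊤ := Submodule.eq_top_of_finrank_eq (le_antisymm W.finrank_le (by omega))
      rw [h]; exact le_top
    | succ m ih =>
      intro W hm hW hiso
      by_cases heq : B.orthogonal W = W
      · exact hmax W hW heq
      have hext : ∀ v, (∃ a : F, π v = a • v) → v ∈ B.orthogonal W → v ∉ W →
          ∃ u : R, LinearMap.range (u : Module.End F V) = W ⊔ F ∙ v := by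
        intro v ⟨a, ha⟩ hv hvW
        refine ih _ ?_ ?_ ?_
        · have : W < W ⊔ F ∙ v := lt_of_le_of_ne le_sup_left fun h =>
            hvW (h ▸ Submodule.mem_sup_right (Submodule.mem_span_singleton_self v))
          have := Submodule.finrank_lt_finrank_of_lt this
          omega
        · intro x hx
          obtain ⟨w, hw, z, hz, rfl⟩ := Submodule.mem_sup.1 hx
          obtain ⟨b, rfl⟩ := Submodule.mem_span_singleton.1 hz
          rw [map_add, map_smul, ha, smul_smul]
          exact Submodule.add_mem_sup (hW w hw) (Submodule.mem_span_singleton.2 ⟨_, rfl⟩)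
        · refine sup_le ?_ ((Submodule.span_singleton_le_iff_mem _ _).2 ?_)
          · intro w hw n hn
            obtain ⟨w', hw', z, hz, rfl⟩ := Submodule.mem_sup.1 hn
            obtain ⟨b, rfl⟩ := Submodule.mem_span_singleton.1 hz
            rw [map_add, map_smul, LinearMap.add_apply, LinearMap.smul_apply, show B w' w = 0 from hiso hw w' hw',
              show B v w = 0 from hrefl _ _ (hv w hw), smul_zero, add_zero]
          · intro n hn
            obtain ⟨w', hw', z, hz, rfl⟩ := Submodule.mem_sup.1 hn
            obtain ⟨b, rfl⟩ := Submodule.mem_span_singleton.1 hz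
            rw [map_add, map_smul, LinearMap.add_apply, LinearMap.smul_apply, show B w' v = 0 from hv w' hw', halt,
              smul_zero, add_zero]
      obtain ⟨v, ⟨hv, hev⟩, hvW⟩ := Set.not_subset.1 fun h : {v | v ∈ B.orthogonal W ∧ ∃ a : F, π v = a • v} ⊆ (W : Set V) =>
        heq (le_antisymm ((hspan _ (horth W hW)).trans (Submodule.span_le.2 h)) hiso)
      let W₁ := W ⊔ F ∙ v
      obtain ⟨v', ⟨hv', hev'⟩, hvW'⟩ := Set.not_subset.1 fun h : {v | v ∈ B.orthogonal W ∧ ∃ a : F, π v = a • v} ⊆ (W₁ : Set V) => by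
        have h1 : B.orthogonal W ≤ W₁ := (hspan _ (horth W hW)).trans (Submodule.span_le.2 h)
        have h2 : W₁ ≤ B.orthogonal W₁ := by
          refine sup_le ?_ ((Submodule.span_singleton_le_iff_mem _ _).2 ?_) <;>
            [intro w hw n hn; intro n hn] <;>
            obtain ⟨w', hw', z, hz, rfl⟩ := Submodule.mem_sup.1 hn <;>
            obtain ⟨b, rfl⟩ := Submodule.mem_span_singleton.1 hz
          · rw [map_add, map_smul, LinearMap.add_apply, LinearMap.smul_apply, show B w' w = 0 from hiso hw w' hw',
              show B v w = 0 from hrefl _ _ (hv w hw), smul_zero, add_zero]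
          · rw [map_add, map_smul, LinearMap.add_apply, LinearMap.smul_apply, show B w' v = 0 from hv w' hw', halt,
              smul_zero, add_zero]
        have h3 : B.orthogonal W₁ ≤ B.orthogonal W := LinearMap.BilinForm.orthogonal_le le_sup_left
        have h4 : B.orthogonal W₁ = B.orthogonal W := le_antisymm h3 (h1.trans h2)
        have h5 : W₁ = W := by
          rw [← B.orthogonal_orthogonal hB hrefl W₁, h4, B.orthogonal_orthogonal hB hrefl W]
        exact hvW (h5 ▸ Submodule.mem_sup_right (Submodule.mem_span_singleton_self v))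
      obtain ⟨u₁, h₁⟩ := hext v hev hv hvW
      obtain ⟨u₂, h₂⟩ := hext v' hev' hv' fun h => hvW' (Submodule.mem_sup_left h)
      obtain ⟨u, hu⟩ := exists_range_inf R u₁ u₂
      refine ⟨u, ?_⟩
      rw [hu, h₁, h₂]
      refine le_antisymm (fun x hx => ?_) (le_inf le_sup_left le_sup_left)
      obtain ⟨w, hw, z, hz, rfl⟩ := Submodule.mem_sup.1 hx.2
      obtain ⟨b, rfl⟩ := Submodule.mem_span_singleton.1 hz
      by_cases hb : b = 0
      · rw [hb, zero_smul, add_zero]; exact hw
      refine absurd ?_ hvW'
      have h6 : b • v' ∈ W₁ := by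
        have := Submodule.sub_mem _ hx.1 (Submodule.mem_sup_left (T := F ∙ v) hw)
        rwa [add_sub_cancel_left] at this
      exact (Submodule.smul_mem_iff _ hb).1 h6
  have hline : ∀ (v : V) (a : F), π v = a • v → ∃ u : R, LinearMap.range (u : Module.End F V) = F ∙ v := by
    intro v a hv
    refine key (finrank F V) _ (Nat.le_add_left _ _) ?_ ?_
    · intro x hx
      obtain ⟨b, rfl⟩ := Submodule.mem_span_singleton.1 hx
      rw [map_smul, hv, smul_smul]
      exact Submodule.mem_span_singleton.2 ⟨_, rfl⟩
    · rw [Submodule.span_singleton_le_iff_mem]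
      intro n hn
      obtain ⟨b, rfl⟩ := Submodule.mem_span_singleton.1 hn
      rw [map_smul, LinearMap.smul_apply, halt, smul_zero]
  -- the commutant is scalar on eigenspaces
  let C : Module.End F V → Prop := fun ψ => ∀ x, ψ x ∈ Submodule.span F {x}
  have hcomm : ∀ e : Module.End R V, ∀ x, φ (e x) = e (φ x) := by
    intro e
    have heF : ∀ (b : F) (y : V), e (b • y) = b • e y := fun b y => e.map_smul (algebraMap F R b) y
    let e' : Module.End F V := { toFun := e, map_add' := map_add e, map_smul' := heF }
    have hscal : ∀ (v : V) (a : F), π v = a • v → ∃ s : F, e v = s • v := by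
      intro v a hv
      obtain ⟨u, hu⟩ := hline v a hv
      obtain ⟨y, hy⟩ : v ∈ LinearMap.range (u : Module.End F V) := hu.symm ▸ Submodule.mem_span_singleton_self v
      have h : e v = (u : Module.End F V) (e y) := by rw [← hy]; exact e.map_smul u y
      obtain ⟨s, hs⟩ := Submodule.mem_span_singleton.1 (hu ▸ ⟨e y, rfl⟩ : (u : Module.End F V) (e y) ∈ F ∙ v)
      exact ⟨s, h.trans hs.symm⟩
    suffices h : ⊤ ≤ LinearMap.eqLocus (φ * e') (e' * φ) from fun x => h (Submodule.mem_top (x := x))
    refine (hspan ⊤ fun _ _ => Submodule.mem_top).trans (Submodule.span_le.2 ?_)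
    rintro v ⟨-, a, hv⟩
    show φ (e v) = e (φ v)
    have hw : π (φ v) = a • φ v := by rw [← hφ, hv, map_smul]
    obtain ⟨s, hs⟩ := hscal v a hv
    rw [hs, map_smul]
    by_cases hv0 : v = 0
    · rw [hv0, map_zero, smul_zero, map_zero]
    by_cases hind : ∃ b : F, φ v = b • v
    · obtain ⟨b, hb⟩ := hind
      rw [hb, heF, hs, smul_comm]
    push_neg at hind
    obtain ⟨t, ht⟩ := hscal (φ v) a hw
    obtain ⟨r, hr⟩ := hscal (v + φ v) a (by rw [map_add, hv, hw, smul_add])
    rw [map_add, hs, ht, smul_add] at hr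
    have h1 : (t - r) • φ v = (r - s) • v := by
      rw [sub_smul, sub_smul, sub_eq_sub_iff_add_eq_add, add_comm, hr, add_comm]
    have htr : t = r := by
      by_contra hne
      exact hind _ (by rw [← inv_smul_smul₀ (sub_ne_zero.2 hne) (φ v), h1, smul_smul])
    have hrs : r = s := by
      rw [htr, sub_self, zero_smul] at h1
      exact sub_eq_zero.1 ((smul_eq_zero.1 h1.symm).resolve_right hv0)
    rw [ht, htr, hrs]
  haveI : IsSemisimpleModule R V := inferInstance
  let G : Module.End (Module.End R V) V :=
    { toFun := φ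
      map_add' := map_add φ
      map_smul' := fun e x => hcomm e x }
  obtain ⟨n, b, hb⟩ := Submodule.fg_iff_exists_fin_generating_family.1 (Module.Finite.fg_top (R := F) (M := V))
  obtain ⟨r, hr⟩ := jacobson_density (R := R) (M := V) G (Finset.univ.image b)
  have he : φ = (r : Module.End F V) := LinearMap.ext_on_range hb fun i =>
    hr (b i) (Finset.mem_image_of_mem b (Finset.mem_univ i))
  exact he ▸ r.2

end Groth.Agent.H25Weilp.Lines
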