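import Groth.Agent.H25Weilp.EndType
import Groth.Agent.H25Weilp.CyclicDual

/-!
# Abelian varieties whose endomorphism ring is the minimal central order
-/

set_option autoImplicit false
set_option linter.style.haveILetI false
set_option linter.unusedSectionVars false
set_option backward.isDefEq.respectTransparency false
set_option synthInstance.maxHeartbeats 400000
set_option maxHeartbeats 1600000
universe u

open CategoryTheory CategoryTheory.Limits MonoidalCategory CartesianMonoidalCategory MonObj GrpObj AlgebraicGeometry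
open scoped TensorProduct
open Groth.Agent Groth.Agent.H25AbCube Groth.Agent.H25AbCube.GeomTate

noncomputable section

namespace Groth.Agent.H25Weilp.MinOrder

variable {k : Type u} [Field k]

theorem natCast_p_ne_zero [Finite k] {p : ℕ} [Fact p.Prime] (hk : Nat.card k = p) {l : ℕ} [Fact l.Prime]
    (hl : (l : k) ≠ 0) : p ≠ l := by
  rintro rfl
  haveI := Fintype.ofFinite k
  refine hl ?_
  rw [← hk, Nat.card_eq_fintype_card]
  exact FiniteField.cast_card_eq_zero k

theorem torsionFree_hom {A B : Over (Spec (CommRingCat.of k))} [GrpObj A] [IsCommMonObj A] [IsProper A.hom]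
    [GeometricallyIntegral A.hom] [GrpObj B] [IsCommMonObj B] [IsProper B.hom] [GeometricallyIntegral B.hom] :
    Module.IsTorsionFree ℤ (EndAV.Hom A B) := Module.isTorsionFree_iff_smul_eq_zero.2 fun m x h => by
  refine or_iff_not_imp_left.2 fun hm => EndAV.Hom.ext ?_
  have h' := congrArg EndAV.Hom.toHom h
  rw [EndAV.Hom.toHom_zsmul] at h'
  exact congrArg Additive.toMul (eq_zero_of_smul_homs (Additive.ofMul x.toHom) m
    (inferInstanceAs (IsMonHom x.toHom)) hm (congrArg Additive.ofMul h'))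

theorem free_hom {A B : Over (Spec (CommRingCat.of k))} [GrpObj A] [IsCommMonObj A] [IsProper A.hom]
    [GeometricallyIntegral A.hom] [GrpObj B] [IsCommMonObj B] [IsProper B.hom] [GeometricallyIntegral B.hom] :
    Module.Free ℤ (EndAV.Hom A B) ∧ Module.Finite ℤ (EndAV.Hom A B) := by
  haveI : Module.Finite ℤ (EndAV.Hom A B) := moduleFinite_hom
  haveI := torsionFree_hom (A := A) (B := B)
  exact ⟨Module.free_of_finite_type_torsion_free', inferInstance⟩

variable [Finite k] {p : ℕ} [Fact p.Prime] (hk : Nat.card k = p)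
  {J : Type} [Fintype J] {K : J → Type} [∀ j, Field (K j)] [∀ j, CharZero (K j)] {ϖ : ∀ j, K j}
  (hint : ∀ j, IsIntegral ℤ (ϖ j)) (hnr : ∀ j, ∀ z ∈ (minpoly ℤ (ϖ j)).aroots ℂ, z.im ≠ 0)
  (hinj : ∀ i j, minpoly ℤ (ϖ i) = minpoly ℤ (ϖ j) → i = j)
  {Aw : Over (Spec (CommRingCat.of k))} [GrpObj Aw] [IsCommMonObj Aw] [IsProper Aw.hom] [GeometricallyIntegral Aw.hom]
  {πw : Aw ⟶ Aw} [IsMonHom πw] (hπw : IsFrob πw)
  (ρw : (MvPolynomial.aeval ![fun j => ϖ j, fun j => (p : K j) / ϖ j] : MvPolynomial (Fin 2) ℤ →ₐ[ℤ] ((j : J) → K j)).range ≃+* EndAV.End Aw)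
  (hρw : ρw ⟨(MvPolynomial.aeval ![fun j => ϖ j, fun j => (p : K j) / ϖ j] : MvPolynomial (Fin 2) ℤ →ₐ[ℤ] ((j : J) → K j)) (MvPolynomial.X 0), AlgHom.mem_range_self _ _⟩ = EndAV.End.of πw)

/-- Evaluation at `F ↦ ϖ`, `V ↦ p / ϖ`. -/
abbrev phi (p : ℕ) (ϖ : ∀ j, K j) : MvPolynomial (Fin 2) ℤ →ₐ[ℤ] ((j : J) → K j) :=
  MvPolynomial.aeval ![fun j => ϖ j, fun j => (p : K j) / ϖ j]

/-- The map from the polynomials in `F` and `V` onto the endomorphisms. -/
def rho : MvPolynomial (Fin 2) ℤ →+* EndAV.End Aw :=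
  ρw.toRingHom.comp (phi p ϖ).rangeRestrict.toRingHom

include hρw in
theorem rho_X0 : rho ρw (MvPolynomial.X 0) = EndAV.End.of πw := (congrArg ρw (Subtype.ext rfl)).trans hρw

theorem rho_surjective : Function.Surjective (rho ρw) :=
  ρw.surjective.comp (phi p ϖ).rangeRestrict_surjective

theorem rho_eq_zero_iff (r : MvPolynomial (Fin 2) ℤ) : rho ρw r = 0 ↔ phi p ϖ r = 0 := by
  show ρw ((phi p ϖ).rangeRestrict r) = 0 ↔ _
  rw [map_eq_zero_iff _ ρw.injective, Subtype.ext_iff]
  rfl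

include hint hnr in
theorem ne_zero (j : J) : ϖ j ≠ 0 := fun h0 => by
  refine hnr j 0 ?_ Complex.zero_im
  rw [Polynomial.mem_aroots]
  refine ⟨(minpoly.monic (hint j)).ne_zero, ?_⟩
  have h := minpoly.aeval ℤ (ϖ j)
  nth_rw 1 [h0] at h
  rw [← Polynomial.coeff_zero_eq_aeval_zero', algebraMap_int_eq, eq_intCast, Int.cast_eq_zero] at h
  rw [← Polynomial.coeff_zero_eq_aeval_zero', h, map_zero]

include hint hinj hρw in
/-- The polynomials killing the Frobenius. -/
theorem aeval_eq_zero_iff (q : Polynomial ℤ) :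
    Polynomial.aeval (EndAV.End.of πw) q = 0 ↔ (∏ j, minpoly ℤ (ϖ j)) ∣ q := by
  classical
  have h : Polynomial.aeval (EndAV.End.of πw) q = rho ρw (Polynomial.aeval (MvPolynomial.X 0) q) := by
    rw [← rho_X0 ρw hρw, Polynomial.aeval_def, Polynomial.aeval_def, Polynomial.hom_eval₂,
      RingHom.ext_int ((rho ρw).comp (algebraMap ℤ (MvPolynomial (Fin 2) ℤ))) (algebraMap ℤ (EndAV.End Aw))]
  rw [h, rho_eq_zero_iff, ← Polynomial.aeval_algHom_apply, MvPolynomial.aeval_X, Matrix.cons_val_zero]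
  have hev : ∀ j, (Polynomial.aeval (fun i => ϖ i) q : (i : J) → K i) j = Polynomial.aeval (ϖ j) q := fun j =>
    (Polynomial.aeval_algHom_apply (Pi.evalAlgHom ℤ K j) (fun i => ϖ i) q).symm
  refine ⟨fun h0 => ?_, fun hd => funext fun j => ?_⟩
  · refine Finset.prod_dvd_of_isRelPrime (fun i _ j _ hij => ?_) fun j _ =>
      minpoly.isIntegrallyClosed_dvd (hint j) (by rw [← hev, h0]; rfl)
    refine (minpoly.prime_of_isIntegrallyClosed (hint i)).irreducible.isRelPrime_iff_not_dvd.2 fun hd => hij (hinj i j ?_)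
    exact Polynomial.eq_of_monic_of_associated (minpoly.monic (hint i)) (minpoly.monic (hint j))
      ((minpoly.prime_of_isIntegrallyClosed (hint i)).associated_of_dvd (minpoly.prime_of_isIntegrallyClosed (hint j)) hd)
  · obtain ⟨c, rfl⟩ := (Finset.dvd_prod_of_mem (fun j => minpoly ℤ (ϖ j)) (Finset.mem_univ j)).trans hd
    rw [hev, map_mul, minpoly.aeval, zero_mul]
    rfl

section tate

variable (Ω : Type u) [Field Ω] [Algebra k Ω] [IsAlgClosure k Ω] (l : ℕ) [Fact l.Prime] (hl : (l : k) ≠ 0)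

include hint hinj hπw hρw hl

/-- The characteristic polynomial of the Frobenius of the minimal-order variety. -/
theorem charpoly_eq [Module.Free ℤ_[l] (AbDual.TateMod Aw l (SGA7.pt Ω))]
    [Module.Finite ℤ_[l] (AbDual.TateMod Aw l (SGA7.pt Ω))] :
    (tm Ω l πw).charpoly = (∏ j, minpoly ℤ (ϖ j)).map (Int.castRingHom ℤ_[l]) ∧
      Squarefree ((∏ j, minpoly ℤ (ϖ j)).map (Int.castRingHom ℚ)) := by
  classical
  haveI : IsIntegral Aw.left := GeometricallyIntegral.isIntegral_of_subsingleton Aw.hom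
  obtain ⟨g, hg⟩ := H25Grp.exists_nat_dim Aw.hom
  obtain ⟨P, hPm, -, hP⟩ := exists_frobPoly Ω (EndAV.End.of πw) hg
  have hP' : (tm Ω l πw).charpoly = P.map (Int.castRingHom ℤ_[l]) := hP l hl
  have hcomm : ∀ a b : EndAV.End Aw, a * b = b * a := fun a b => by
    simpa using congrArg ρw (mul_comm (ρw.symm a) (ρw.symm b))
  obtain ⟨h1, h2⟩ := commutative_iff Ω l hl hπw P hP' (rfl)
  have hsq := h1.1 hcomm
  have hN := h2.1 hsq
  have hW : (∏ j, minpoly ℤ (ϖ j)).Monic := Polynomial.monic_prod_of_monic _ _ fun j _ => minpoly.monic (hint j)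
  have hPz : Polynomial.aeval (EndAV.End.of πw) P = 0 := by
    refine toEnd0_injective ?_
    rw [map_zero, ← Polynomial.aeval_algHom_apply, ← Polynomial.aeval_map_algebraMap ℚ, algebraMap_int_eq]
    exact aeval_frobPoly Ω l hl P hP'
  have hdvd : (∏ j, minpoly ℤ (ϖ j)) ∣ P := (aeval_eq_zero_iff hint hinj ρw hρw P).1 hPz
  haveI := finite_end0 (A := Aw)
  have hdeg : P.natDegree ≤ (∏ j, minpoly ℤ (ϖ j)).natDegree := by
    rw [natDegree_frobPoly Ω l P hP', ← hN]
    have htop := (qAdj_eq_top_iff Ω l hl hπw).2 hcomm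
    calc Module.finrank ℚ (EndAV.End0 Aw)
        = Module.finrank ℚ (⊤ : Subalgebra ℚ (EndAV.End0 Aw)) := Subalgebra.topEquiv.toLinearEquiv.finrank_eq.symm
      _ = Module.finrank ℚ (EndAV.QAdj (EndAV.End.of πw)) := by rw [htop]
      _ = (minpoly ℚ (EndAV.toEnd0 (EndAV.End.of πw))).natDegree := by rw [EndAV.QAdj, finrank_adjoin_eq]
      _ ≤ ((∏ j, minpoly ℤ (ϖ j)).map (algebraMap ℤ ℚ)).natDegree := by
          refine Polynomial.natDegree_le_of_dvd (minpoly.dvd ℚ _ ?_) (hW.map _).ne_zero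
          rw [Polynomial.aeval_map_algebraMap, Polynomial.aeval_algHom_apply,
            (aeval_eq_zero_iff hint hinj ρw hρw _).2 dvd_rfl, map_zero]
      _ ≤ _ := Polynomial.natDegree_map_le
  have heq := Polynomial.eq_of_monic_of_dvd_of_natDegree_le hW hPm hdvd hdeg
  exact ⟨by rw [hP', heq], by rw [← heq]; exact hsq⟩

include hk hnr in
/-- Every endomorphism acts on the Tate module as a polynomial in the Frobenius. -/
theorem tm_mem_adjoin (s : EndAV.End Aw) :
    EndAV.End.tateRep l (SGA7.pt Ω) s ∈ Algebra.adjoin ℤ_[l] {tm Ω l πw} := by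
  haveI := (free_finite Ω l hl Aw).1
  haveI := (free_finite Ω l hl Aw).2
  let E := EndAV.End.tateRep (A := Aw) l (SGA7.pt Ω)
  let t : Module.End ℤ_[l] (AbDual.TateMod Aw l (SGA7.pt Ω)) := tm Ω l πw
  let S := Algebra.adjoin ℤ_[l] ({t} : Set (Module.End ℤ_[l] (AbDual.TateMod Aw l (SGA7.pt Ω))))
  have hV : rho ρw (MvPolynomial.X 1) * rho ρw (MvPolynomial.X 0) = (p : EndAV.End Aw) := by
    rw [← map_mul, ← map_natCast (rho ρw), ← sub_eq_zero, ← map_sub, rho_eq_zero_iff, map_sub, map_mul,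
      MvPolynomial.aeval_X, MvPolynomial.aeval_X, map_natCast, sub_eq_zero]
    funext j
    show (p : K j) / ϖ j * ϖ j = _
    rw [Pi.natCast_apply]
    refine div_mul_cancel₀ _ fun h0 => ?_
    exact ne_zero hint hnr j h0
  have hE0 : E (rho ρw (MvPolynomial.X 0)) = t := by rw [rho_X0 ρw hρw]; rfl
  have htV : E (rho ρw (MvPolynomial.X 1)) * t = (p : Module.End ℤ_[l] _) := by
    rw [← hE0, ← map_mul, hV, map_natCast]
  have hp : IsUnit (p : ℤ_[l]) := by
    rw [PadicInt.isUnit_iff, PadicInt.norm_def, PadicInt.coe_natCast, Padic.norm_natCast_eq_one_iff]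
    exact (Nat.coprime_primes Fact.out Fact.out).2 (natCast_p_ne_zero hk hl).symm
  have hdet : IsUnit (LinearMap.det t) := by
    have h := congrArg LinearMap.det htV
    rw [map_mul, ← nsmul_one, ← Nat.cast_smul_eq_nsmul ℤ_[l], LinearMap.det_smul, map_one, _root_.mul_one] at h
    exact isUnit_of_mul_isUnit_right (h ▸ hp.pow _)
  have hc : IsUnit (t.charpoly.coeff 0) := by
    rw [LinearMap.det_eq_sign_charpoly_coeff] at hdet
    exact isUnit_of_mul_isUnit_right hdet
  obtain ⟨c, hc⟩ := hc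
  have hX1 : E (rho ρw (MvPolynomial.X 1)) ∈ S := by
    have hsplit := congrArg (Polynomial.aeval t) t.charpoly.X_mul_divX_add
    rw [LinearMap.aeval_self_charpoly, map_add, map_mul, Polynomial.aeval_X, Polynomial.aeval_C] at hsplit
    have h2 := congrArg (E (rho ρw (MvPolynomial.X 1)) * ·) hsplit
    simp only [_root_.mul_add, ← _root_.mul_assoc, htV] at h2
    rw [mul_zero] at h2
    have h3 : E (rho ρw (MvPolynomial.X 1)) =
        (-((c⁻¹ : ℤ_[l]ˣ) : ℤ_[l])) • ((p : Module.End ℤ_[l] _) * Polynomial.aeval t t.charpoly.divX) := by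
      rw [eq_neg_of_add_eq_zero_left h2, ← Algebra.commutes, ← Algebra.smul_def, neg_smul, smul_neg, neg_neg,
        smul_smul, ← hc, Units.inv_mul, one_smul]
    rw [h3]
    refine S.smul_mem (S.mul_mem (S.natCast_mem p) ?_) _
    exact Polynomial.aeval_mem_adjoin_singleton ℤ_[l] t
  obtain ⟨r, rfl⟩ := rho_surjective ρw s
  induction r using MvPolynomial.induction_on with
  | C n =>
    rw [show (MvPolynomial.C n : MvPolynomial (Fin 2) ℤ) = (n : MvPolynomial (Fin 2) ℤ) from by
      rw [← map_intCast (MvPolynomial.C : ℤ →+* MvPolynomial (Fin 2) ℤ), Int.cast_id], map_intCast, map_intCast]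
    exact S.intCast_mem n
  | add a b ha hb => rw [map_add, map_add]; exact S.add_mem ha hb
  | mul_X a i ha =>
    rw [map_mul, map_mul]
    refine S.mul_mem ha ?_
    fin_cases i
    · show E (rho ρw (MvPolynomial.X 0)) ∈ S
      rw [hE0]
      exact Algebra.self_mem_adjoin_singleton ℤ_[l] t
    · exact hX1

end tate

end Groth.Agent.H25Weilp.MinOrder
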