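import Groth.Agent.H25Weilp.MinOrderTate
import Groth.Agent.H25AbCube.PoincareRegular

/-!
# Isogenies detected by homomorphisms into a minimal-order variety
-/

set_option autoImplicit false
set_option linter.style.haveILetI false
set_option linter.unusedSectionVars false
set_option backward.isDefEq.respectTransparency false
set_option synthInstance.maxHeartbeats 400000
set_option maxHeartbeats 1600000
universe u

open CategoryTheory CategoryTheory.Limits MonoidalCategory CartesianMonoidalCategory MonObj GrpObj AlgebraicGeometry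
open scoped TensorProduct
open Groth.Agent Groth.Agent.H25AbCube Groth.Agent.H25AbCube.GeomTate

noncomputable section

namespace Groth.Agent.H25Weilp.MinOrder

theorem finrank_le_of_smul_mem {M N : Type*} [AddCommGroup M] [AddCommGroup N] [Module.Finite ℤ M]
    [Module.IsTorsionFree ℤ N] (r : M →+ N) (hr : Function.Injective r) (n : ℕ) (hn : 0 < n)
    (h : ∀ y, n • y ∈ r.range) : Module.finrank ℤ N ≤ Module.finrank ℤ M := by
  choose s hs using fun y => h y
  let σ : N →+ M := AddMonoidHom.mk' s fun a c => hr (by rw [map_add, hs, hs, hs, nsmul_add])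
  refine LinearMap.finrank_le_finrank_of_injective (f := σ.toIntLinearMap) fun a c hac => ?_
  have h2 : n • a = n • c := by rw [← hs, ← hs]; exact congrArg r hac
  exact smul_right_injective N (Int.natCast_ne_zero.2 hn.ne') (by simpa only [natCast_zsmul] using h2)

variable {k : Type u} [Field k] {A B : Over (Spec (CommRingCat.of k))}
  [GrpObj A] [IsCommMonObj A] [IsProper A.hom] [GeometricallyIntegral A.hom]
  [GrpObj B] [IsCommMonObj B] [IsProper B.hom] [GeometricallyIntegral B.hom]

theorem isFinite_surjective_of_inverse (f : B ⟶ A) (v : A ⟶ B) (n : ℕ) (hn : 0 < n)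
    (h1 : f ≫ v = (𝟙 B) ^ n) (h2 : v ≫ f = (𝟙 A) ^ n) : IsFinite f.left ∧ Surjective f.left := by
  refine ⟨?_, ?_⟩
  · haveI : IsFinite (f.left ≫ v.left) := by
      rw [← Over.comp_left, h1]
      exact isFinite_pow hn
    haveI : IsSeparated v.left := by
      haveI : IsSeparated (v.left ≫ B.hom) := by rw [Over.w]; infer_instance
      exact IsSeparated.of_comp v.left B.hom
    exact IsFinite.of_comp f.left v.left
  · haveI : Surjective (v.left ≫ f.left) := by
      rw [← Over.comp_left, h2]
      exact surjective_pow hn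
    exact Surjective.of_comp v.left f.left

variable [Finite k] (Ω : Type u) [Field Ω] [Algebra k Ω] [IsAlgClosure k Ω] (l : ℕ) [Fact l.Prime]

theorem exists_inverse_of_tm_injective (hl : (l : k) ≠ 0) (f : B ⟶ A) [IsMonHom f] {gA gB : ℕ}
    (hgA : topologicalKrullDim A.left = gA) (hgB : topologicalKrullDim B.left = gB) (hd : gA = gB)
    {πA : A ⟶ A} [IsMonHom πA] {πB : B ⟶ B} [IsMonHom πB] (hA : IsFrob πA) (hB : IsFrob πB)
    (hf : Function.Injective (tm Ω l f)) :
    ∃ (v : A ⟶ B) (_ : IsMonHom v) (N : ℕ), 0 < N ∧ f ≫ v = (𝟙 B) ^ N ∧ v ≫ f = (𝟙 A) ^ N := by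
  haveI : Algebra.IsAlgebraic k Ω := IsAlgClosure.isAlgebraic
  haveI : IsAlgClosed Ω := IsAlgClosure.isAlgClosed k
  obtain ⟨bA⟩ := exists_tateBasis_pt (Ω := Ω) l hl hgA (A := A)
  obtain ⟨bB⟩ := exists_tateBasis_pt (Ω := Ω) l hl hgB (A := B)
  haveI := (free_finite Ω l hl A).1
  haveI := (free_finite Ω l hl A).2
  haveI := (free_finite Ω l hl B).1
  haveI := (free_finite Ω l hl B).2
  have hinj : Function.Injective (tmQ Ω l f) := Module.Flat.lTensor_preserves_injective_linearMap _ hf
  have hdim : Module.finrank ℚ_[l] (ℚ_[l] ⊗[ℤ_[l]] AbDual.TateMod B l (SGA7.pt Ω)) =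
      Module.finrank ℚ_[l] (ℚ_[l] ⊗[ℤ_[l]] AbDual.TateMod A l (SGA7.pt Ω)) := by
    rw [Module.finrank_baseChange, Module.finrank_baseChange, Module.finrank_eq_card_basis bA,
      Module.finrank_eq_card_basis bB, hd]
  let e := LinearEquiv.ofBijective (tmQ Ω l f)
    ⟨hinj, (LinearMap.injective_iff_surjective_of_finrank_eq_finrank hdim).1 hinj⟩
  have he : ∀ z, e (tmQ Ω l πB z) = tmQ Ω l πA (e z) := fun z => by
    show (tmQ Ω l f ∘ₗ tmQ Ω l πB) z = (tmQ Ω l πA ∘ₗ tmQ Ω l f) z
    rw [← tmQ_comp, ← tmQ_comp, tmQ, tmQ, tm_congr Ω l (hB.comm hA f)]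
  obtain ⟨g, _, hg⟩ := exists_injective Ω l hl hA hB e.symm (by
    refine LinearMap.ext fun z => e.injective ?_
    simp only [LinearMap.comp_apply, LinearEquiv.coe_coe, LinearEquiv.apply_symm_apply, he])
  exact exists_isogeny_of_injective Ω l hl f g hf hg

end Groth.Agent.H25Weilp.MinOrder
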