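import Groth.Agent.H25Weilp.MinOrder

/-!
# Tate modules of abelian varieties in the isogeny classes of a minimal-order variety
-/

set_option autoImplicit false
set_option linter.style.haveILetI false
set_option linter.unusedSectionVars false
set_option backward.isDefEq.respectTransparency false
set_option synthInstance.maxHeartbeats 400000
set_option maxHeartbeats 1600000
universe u

open CategoryTheory CategoryTheory.Limits MonoidalCategory CartesianMonoidalCategory MonObj GrpObj AlgebraicGeometry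
open scoped TensorProduct
open Groth.Agent Groth.Agent.H25AbCube Groth.Agent.H25AbCube.GeomTate

noncomputable section

namespace Groth.Agent.H25Weilp.MinOrder

variable {k : Type u} [Field k] [Finite k] {p : ℕ} [Fact p.Prime] (hk : Nat.card k = p)
  {J : Type} [Fintype J] {K : J → Type} [∀ j, Field (K j)] [∀ j, CharZero (K j)] {ϖ : ∀ j, K j}
  (hint : ∀ j, IsIntegral ℤ (ϖ j)) (hnr : ∀ j, ∀ z ∈ (minpoly ℤ (ϖ j)).aroots ℂ, z.im ≠ 0)
  (hinj : ∀ i j, minpoly ℤ (ϖ i) = minpoly ℤ (ϖ j) → i = j)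
  {Aw : Over (Spec (CommRingCat.of k))} [GrpObj Aw] [IsCommMonObj Aw] [IsProper Aw.hom] [GeometricallyIntegral Aw.hom]
  {πw : Aw ⟶ Aw} [IsMonHom πw] (hπw : IsFrob πw)
  (ρw : (MvPolynomial.aeval ![fun j => ϖ j, fun j => (p : K j) / ϖ j] : MvPolynomial (Fin 2) ℤ →ₐ[ℤ] ((j : J) → K j)).range ≃+* EndAV.End Aw)
  (hρw : ρw ⟨(MvPolynomial.aeval ![fun j => ϖ j, fun j => (p : K j) / ϖ j] : MvPolynomial (Fin 2) ℤ →ₐ[ℤ] ((j : J) → K j)) (MvPolynomial.X 0), AlgHom.mem_range_self _ _⟩ = EndAV.End.of πw)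
  (Ω : Type u) [Field Ω] [Algebra k Ω] [IsAlgClosure k Ω] (l : ℕ) [Fact l.Prime] (hl : (l : k) ≠ 0)

include Ω hint hinj hπw hρw hl

/-- The degree of the product of the minimal polynomials is the rank of the Tate module. -/
theorem finrank_tate : Module.finrank ℤ_[l] (AbDual.TateMod Aw l (SGA7.pt Ω)) = (∏ j, minpoly ℤ (ϖ j)).natDegree := by
  haveI := (free_finite Ω l hl Aw).1
  haveI := (free_finite Ω l hl Aw).2
  exact (natDegree_frobPoly Ω l _ (charpoly_eq hint hinj hπw ρw hρw Ω l hl).1).symm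

/-- A variety killed by the product of the minimal polynomials has rank `2g` homomorphisms into it. -/
theorem finrank_hom_eq {A : Over (Spec (CommRingCat.of k))} [GrpObj A] [IsCommMonObj A] [IsProper A.hom]
    [GeometricallyIntegral A.hom] {πA : A ⟶ A} [IsMonHom πA] (hA : IsFrob πA)
    (hPA : Polynomial.aeval (EndAV.End.of πA) (∏ j, minpoly ℤ (ϖ j)) = 0)
    {g : ℕ} (hg : topologicalKrullDim A.left = g) : Module.finrank ℤ (EndAV.Hom A Aw) = 2 * g := by
  classical
  haveI := (free_finite Ω l hl Aw).1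
  haveI := (free_finite Ω l hl Aw).2
  haveI := (free_finite Ω l hl A).1
  haveI := (free_finite Ω l hl A).2
  obtain ⟨P, hPm, hPd, hP⟩ := exists_frobPoly Ω (EndAV.End.of πA) hg
  have hP' : (tm Ω l πA).charpoly = P.map (Int.castRingHom ℤ_[l]) := hP l hl
  obtain ⟨hW, hsq⟩ := charpoly_eq hint hinj hπw ρw hρw Ω l hl
  rw [finrank_hom_eq_int Ω l hl hA hπw P hP' _ hW, Similar.pairMult]
  have hnd := (squarefree_iff_nodup Ω l _ hW).1 hsq
  rw [Multiset.map_congr rfl (g := fun _ => 1) fun w hw => Multiset.count_eq_one_of_mem hnd ?_,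
    Multiset.map_const', Multiset.sum_replicate, smul_eq_mul, _root_.mul_one,
    IsAlgClosed.card_roots_map_eq_natDegree_of_injective _ (algebraMap ℚ (AlgebraicClosure ℚ)).injective,
    Polynomial.natDegree_map_eq_of_injective Int.cast_injective, hPd]
  have h1 : w ∈ (((minpoly ℚ (EndAV.toEnd0 (EndAV.End.of πA))).map (algebraMap ℚ (AlgebraicClosure ℚ))).roots).toFinset := by
    rw [roots_minpoly Ω l hl hA P hP', Multiset.mem_toFinset]
    exact hw
  have hW0 : ((∏ j, minpoly ℤ (ϖ j)).map (Int.castRingHom ℚ)).map (algebraMap ℚ (AlgebraicClosure ℚ)) ≠ 0 :=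
    (((Polynomial.monic_prod_of_monic _ _ fun j _ => minpoly.monic (hint j)).map _).map _).ne_zero
  refine Multiset.mem_of_le (Polynomial.roots.le_of_dvd hW0 (Polynomial.map_dvd _ (minpoly.dvd ℚ _ ?_)))
    (Multiset.mem_toFinset.1 h1)
  rw [← algebraMap_int_eq, Polynomial.aeval_map_algebraMap, Polynomial.aeval_algHom_apply, hPA, map_zero]

include hk hnr

/-- The Tate module has a basis of iterates of the Frobenius, and the commutant is generated by it. -/
theorem exists_cyclic_basis :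
    ∃ (c : Module.Basis (Fin (∏ j, minpoly ℤ (ϖ j)).natDegree) ℤ_[l] (AbDual.TateMod Aw l (SGA7.pt Ω)))
      (x : AbDual.TateMod Aw l (SGA7.pt Ω)), ∀ i, c i = (tm Ω l πw ^ (i : ℕ) : Module.End ℤ_[l] _) x := by
  classical
  haveI : Algebra.IsAlgebraic k Ω := IsAlgClosure.isAlgebraic
  haveI : IsAlgClosed Ω := IsAlgClosure.isAlgClosed k
  haveI := (free_finite Ω l hl Aw).1
  haveI := (free_finite Ω l hl Aw).2
  let b := Module.finBasisOfFinrankEq ℤ_[l] (AbDual.TateMod Aw l (SGA7.pt Ω))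
    (finrank_tate hint hinj hπw ρw hρw Ω l hl)
  refine CyclicDual.exists_cyclic (l : ℤ_[l]) PadicInt.maximalIdeal_eq_span_p
    (Nat.cast_ne_zero.2 (Fact.out : l.Prime).ne_zero) b _ (fun e he => ?_) fun r hr hr0 => ?_
  · have h := mem_span_homs Ω l hl hπw hπw e he
    have hs : e ∈ Algebra.adjoin ℤ_[l] {tm Ω l πw} := by
      refine Submodule.span_le (p := Subalgebra.toSubmodule (Algebra.adjoin ℤ_[l] {tm Ω l πw})).2 ?_ h
      rintro _ ⟨φ, rfl⟩
      exact tm_mem_adjoin hk hint hnr hinj hπw ρw hρw Ω l hl (EndAV.End.of φ.toHom)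
    rw [Algebra.adjoin_singleton_eq_range_aeval] at hs
    obtain ⟨q, hq⟩ := hs
    exact ⟨q, hq.symm⟩
  · let n := (∏ j, minpoly ℤ (ϖ j)).natDegree
    let e : Fin n → EndAV.End Aw := fun i => EndAV.End.of πw ^ (i : ℕ)
    have he : LinearIndependent ℤ e := by
      rw [Fintype.linearIndependent_iff]
      intro c hc i
      have hd : (∑ j : Fin n, Polynomial.C (c j) * Polynomial.X ^ (j : ℕ)).degree < (n : WithBot ℕ) :=
        Polynomial.degree_sum_fin_lt c
      have h0 : (∑ j : Fin n, Polynomial.C (c j) * Polynomial.X ^ (j : ℕ)) = 0 := by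
        have hW : (∏ j, minpoly ℤ (ϖ j)).Monic :=
          Polynomial.monic_prod_of_monic _ _ fun j _ => minpoly.monic (hint j)
        refine Polynomial.eq_zero_of_dvd_of_degree_lt ((aeval_eq_zero_iff hint hinj ρw hρw _).1 ?_)
          (hd.trans_eq (Polynomial.degree_eq_natDegree hW.ne_zero).symm)
        rw [← hc, map_sum]
        exact Finset.sum_congr rfl fun j _ => by
          rw [map_mul, map_pow, Polynomial.aeval_C, Polynomial.aeval_X, ← Algebra.smul_def]
      have := congrArg (fun q : Polynomial ℤ => q.coeff i) h0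
      simpa [Polynomial.finsetSum_coeff, Polynomial.coeff_C_mul, Polynomial.coeff_X_pow, Fin.val_inj] using this
    have he' : LinearIndependent ℤ fun i => Additive.ofMul (e i).toHom := by
      let Φ : EndAV.End Aw →+ Additive (Aw ⟶ Aw) := AddMonoidHom.mk' (fun x => Additive.ofMul x.toHom) fun _ _ => rfl
      exact he.map_injOn Φ.toIntLinearMap fun x _ y _ h => EndAV.End.ext (Additive.ofMul.injective h)
    have hv := linearIndependent_tateMap_pt (Ω := Ω) l hl (fun i => (e i).toHom) he'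
    rw [Fintype.linearIndependent_iff] at hv
    rcases Nat.eq_zero_or_pos n with hn | hn
    · exact Polynomial.degree_eq_bot.1 ((Nat.WithBot.lt_zero_iff).1 (by simpa [n, hn] using hr))
    have hrd : r.natDegree < n := by
      rcases eq_or_ne r 0 with rfl | hr'
      · simpa using hn
      · exact (Polynomial.natDegree_lt_iff_degree_lt hr').2 hr
    have hz := hv (fun i => r.coeff i) (by
      rw [← hr0, Polynomial.aeval_eq_sum_range' hrd, ← Fin.sum_univ_eq_sum_range
        (fun i => r.coeff i • (tm Ω l πw : Module.End ℤ_[l] _) ^ i)]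
      refine Finset.sum_congr rfl fun i _ => congrArg _ ?_
      show EndAV.End.tateRep l (SGA7.pt Ω) (e i) = (EndAV.End.tateRep l (SGA7.pt Ω) (EndAV.End.of πw)) ^ (i : ℕ)
      exact map_pow _ _ _)
    ext i
    rw [Polynomial.coeff_zero]
    rcases lt_or_ge i n with h | h
    · exact hz ⟨i, h⟩
    · exact Polynomial.coeff_eq_zero_of_natDegree_lt (hrd.trans_le h)

variable {A : Over (Spec (CommRingCat.of k))} [GrpObj A] [IsCommMonObj A] [IsProper A.hom]
    [GeometricallyIntegral A.hom] {πA : A ⟶ A} [IsMonHom πA] (hA : IsFrob πA)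
    (hPA : Polynomial.aeval (EndAV.End.of πA) (∏ j, minpoly ℤ (ϖ j)) = 0)

include hA hPA

/-- Functionals on the Tate module come from maps commuting with the Frobenius. -/
theorem exists_dual : ∃ (top : AbDual.TateMod Aw l (SGA7.pt Ω) →ₗ[ℤ_[l]] ℤ_[l])
    (U : (AbDual.TateMod A l (SGA7.pt Ω) →ₗ[ℤ_[l]] ℤ_[l]) →ₗ[ℤ_[l]]
      (AbDual.TateMod A l (SGA7.pt Ω) →ₗ[ℤ_[l]] AbDual.TateMod Aw l (SGA7.pt Ω))),
    (∀ ν, top ∘ₗ U ν = ν) ∧
    (∀ ν, U ν ∈ Submodule.span ℤ_[l] (Set.range (EndAV.Hom.tateMap (A := A) (B := Aw) l (SGA7.pt Ω)))) ∧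
    (∀ φ : EndAV.Hom A Aw, U (top ∘ₗ EndAV.Hom.tateMap l (SGA7.pt Ω) φ) = EndAV.Hom.tateMap l (SGA7.pt Ω) φ) ∧
    ∀ w, (∀ i : ℕ, top ((tm Ω l πw ^ i : Module.End ℤ_[l] _) w) = 0) → w = 0 := by
  haveI := (free_finite Ω l hl Aw).1
  haveI := (free_finite Ω l hl Aw).2
  obtain ⟨c, x, hc⟩ := exists_cyclic_basis hk hint hnr hinj hπw ρw hρw Ω l hl
  obtain ⟨top, Ψ, hΨ⟩ := CyclicDual.exists_coords (tm Ω l πw) c x hc
  have hW := Polynomial.monic_prod_of_monic Finset.univ _ fun j _ => minpoly.monic (hint j)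
  have hkill : ∀ (X : Over (Spec (CommRingCat.of k))) [GrpObj X] [IsCommMonObj X] (π : EndAV.End X),
      Polynomial.aeval π (∏ j, minpoly ℤ (ϖ j)) = 0 →
      Polynomial.aeval (EndAV.End.tateRep l (SGA7.pt Ω) π) ((∏ j, minpoly ℤ (ϖ j)).map (Int.castRingHom ℤ_[l])) = 0 := by
    intro X _ _ π h
    have h' := congrArg (EndAV.End.tateRep l (SGA7.pt Ω)) h
    rw [map_zero, Polynomial.aeval_def, Polynomial.hom_eval₂,
      RingHom.ext_int ((EndAV.End.tateRep l (SGA7.pt Ω)).comp (algebraMap ℤ (EndAV.End X)))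
        ((algebraMap ℤ_[l] _).comp (Int.castRingHom ℤ_[l])), ← Polynomial.eval₂_map, ← Polynomial.aeval_def] at h'
    exact h'
  obtain ⟨U, hU1, hU0, hU2⟩ := CyclicDual.exists_intertwiner (tm Ω l πw) top Ψ hΨ (tm Ω l πA)
    ((∏ j, minpoly ℤ (ϖ j)).map (Int.castRingHom ℤ_[l])) (hW.map _)
    (Polynomial.natDegree_map_eq_of_injective Int.cast_injective _)
    (hkill Aw (EndAV.End.of πw) ((aeval_eq_zero_iff hint hinj ρw hρw _).2 dvd_rfl)) (hkill A (EndAV.End.of πA) hPA)
  refine ⟨top, U, hU0, fun ν => mem_span_homs Ω l hl hA hπw _ (hU1 ν), fun φ => hU2 _ ?_, fun w hw => Ψ.injective ?_⟩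
  · show tm Ω l φ.toHom ∘ₗ tm Ω l πA = tm Ω l πw ∘ₗ tm Ω l φ.toHom
    rw [← tm_comp, ← tm_comp, tm_congr Ω l (hA.comm hπw φ.toHom)]
  · rw [map_zero]
    exact funext fun i => (hΨ w i).trans (hw i)

/-- The homomorphisms into the minimal-order variety separate the Tate module. -/
theorem eq_zero_of_forall (x : AbDual.TateMod A l (SGA7.pt Ω))
    (h : ∀ φ : EndAV.Hom A Aw, EndAV.Hom.tateMap l (SGA7.pt Ω) φ x = 0) : x = 0 := by
  obtain ⟨top, U, hU0, hU, -⟩ := exists_dual hk hint hnr hinj hπw ρw hρw Ω l hl hA hPA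
  haveI := (free_finite Ω l hl A).1
  haveI := (free_finite Ω l hl A).2
  refine (Module.evalEquiv ℤ_[l] (AbDual.TateMod A l (SGA7.pt Ω))).injective (LinearMap.ext fun ν => ?_)
  have hker : ∀ u ∈ Submodule.span ℤ_[l] (Set.range (EndAV.Hom.tateMap (A := A) (B := Aw) l (SGA7.pt Ω))),
      u x = 0 := by
    intro u hu
    induction hu using Submodule.span_induction with
    | mem u hu =>
      obtain ⟨φ, rfl⟩ := hu
      exact h φ
    | zero => rfl
    | add u v _ _ hu hv => rw [LinearMap.add_apply, hu, hv, add_zero]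
    | smul a u _ hu => rw [LinearMap.smul_apply, hu, smul_zero]
  rw [map_zero, LinearMap.zero_apply, Module.evalEquiv_apply, Module.Dual.eval_apply, ← hU0 ν, LinearMap.comp_apply,
    hker _ (hU ν), map_zero]

/-- Equivariant maps on the homomorphisms are evaluations. -/
theorem exists_eq_eval (G : EndAV.Hom A Aw →+ AbDual.TateMod Aw l (SGA7.pt Ω))
    (hG : ∀ (φ : EndAV.Hom A Aw) (s : EndAV.End Aw), G (φ ≫ s) = EndAV.End.tateRep l (SGA7.pt Ω) s (G φ)) :
    ∃ x, ∀ φ, G φ = EndAV.Hom.tateMap l (SGA7.pt Ω) φ x := by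
  classical
  haveI : Algebra.IsAlgebraic k Ω := IsAlgClosure.isAlgebraic
  haveI : IsAlgClosed Ω := IsAlgClosure.isAlgClosed k
  obtain ⟨top, U, hU0, hU, hUφ, htop⟩ := exists_dual hk hint hnr hinj hπw ρw hρw Ω l hl hA hPA
  haveI := (free_finite Ω l hl A).1
  haveI := (free_finite Ω l hl A).2
  obtain ⟨hfree, hfin⟩ := free_hom (A := A) (B := Aw)
  let b := Module.finBasis ℤ (EndAV.Hom A Aw)
  let T := EndAV.Hom.tateMap (A := A) (B := Aw) l (SGA7.pt Ω)
  let v := fun i => T (b i)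
  have hv : LinearIndependent ℤ_[l] v := by
    have he : LinearIndependent ℤ fun i => Additive.ofMul (b i).toHom := by
      let Φ : EndAV.Hom A Aw →+ Additive (A ⟶ Aw) := AddMonoidHom.mk' (fun x => Additive.ofMul x.toHom) fun _ _ => rfl
      exact b.linearIndependent.map_injOn Φ.toIntLinearMap fun x _ y _ h => EndAV.Hom.ext (Additive.ofMul.injective h)
    exact linearIndependent_tateMap_pt (Ω := Ω) l hl (fun i => (b i).toHom) he
  let H := Submodule.span ℤ_[l] (Set.range v)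
  have hTH : ∀ φ, T φ ∈ H := fun φ => by
    rw [← b.sum_repr φ, map_sum]
    refine Submodule.sum_mem _ fun i _ => ?_
    rw [map_zsmul, ← Int.cast_smul_eq_zsmul ℤ_[l]]
    exact Submodule.smul_mem _ _ (Submodule.subset_span ⟨i, rfl⟩)
  have hspan : Submodule.span ℤ_[l] (Set.range T) ≤ H := Submodule.span_le.2 (by rintro _ ⟨φ, rfl⟩; exact hTH φ)
  let Gl : H →ₗ[ℤ_[l]] AbDual.TateMod Aw l (SGA7.pt Ω) :=
    (Module.Basis.span hv).constr ℤ_[l] fun i => G (b i)
  let T' : EndAV.Hom A Aw →+ H := AddMonoidHom.mk' (fun φ => ⟨T φ, hTH φ⟩) fun a c => Subtype.ext (map_add T a c)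
  have hGl : ∀ φ, Gl (T' φ) = G φ := by
    have : Gl.toAddMonoidHom.comp T' = G := by
      refine DFunLike.ext' ?_
      exact congrArg (fun f : _ →ₗ[ℤ] _ => (f : EndAV.Hom A Aw → _))
        (b.ext (f₁ := (Gl.toAddMonoidHom.comp T').toIntLinearMap) (f₂ := G.toIntLinearMap) fun i => by
          show Gl (T' (b i)) = G (b i)
          have : T' (b i) = Module.Basis.span hv i := (Module.Basis.span_apply hv i).symm
          rw [this, Module.Basis.constr_basis])
    exact fun φ => DFunLike.congr_fun this φ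
  obtain ⟨x, hx⟩ := (Module.evalEquiv ℤ_[l] (AbDual.TateMod A l (SGA7.pt Ω))).surjective
    (top ∘ₗ Gl ∘ₗ LinearMap.codRestrict H U fun ν => hspan (hU ν))
  refine ⟨x, fun φ => sub_eq_zero.1 (htop _ fun i => ?_)⟩
  have hpow : ∀ (ψ : EndAV.Hom A Aw) (i : ℕ), ∃ ψ' : EndAV.Hom A Aw,
      T ψ' = (tm Ω l πw ^ i : Module.End ℤ_[l] _) ∘ₗ T ψ ∧ G ψ' = (tm Ω l πw ^ i : Module.End ℤ_[l] _) (G ψ) := by
    intro ψ i
    refine ⟨ψ ≫ (EndAV.End.of πw ^ i : EndAV.End Aw), ?_, ?_⟩
    · show tm Ω l (ψ.toHom ≫ (EndAV.End.of πw ^ i).toHom) = _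
      rw [tm_comp, show tm Ω l (EndAV.End.of πw ^ i).toHom = (EndAV.End.tateRep l (SGA7.pt Ω)) (EndAV.End.of πw ^ i)
        from rfl, map_pow]
      rfl
    · rw [hG, map_pow]
      rfl
  obtain ⟨ψ, hψ, hψG⟩ := hpow φ i
  rw [map_sub, map_sub, sub_eq_zero, ← hψG, ← LinearMap.comp_apply (tm Ω l πw ^ i) (T φ) x, ← hψ, ← hGl]
  have h1 : (LinearMap.codRestrict H U fun ν => hspan (hU ν)) (top ∘ₗ T ψ) = T' ψ := Subtype.ext (hUφ ψ)
  have h2 := LinearMap.congr_fun hx (top ∘ₗ T ψ)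
  rw [Module.evalEquiv_apply, Module.Dual.eval_apply, LinearMap.comp_apply, LinearMap.comp_apply,
    LinearMap.comp_apply, h1] at h2
  exact h2.symm

end Groth.Agent.H25Weilp.MinOrder
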