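import Groth.Agent.H25Weilp.Center

/-!
# The minimal polynomial of the Frobenius
-/

set_option autoImplicit false
set_option linter.style.haveILetI false
set_option linter.unusedSectionVars false
set_option backward.isDefEq.respectTransparency false
set_option synthInstance.maxHeartbeats 400000
set_option maxHeartbeats 1600000
universe u

open CategoryTheory CategoryTheory.Limits MonoidalCategory CartesianMonoidalCategory MonObj GrpObj AlgebraicGeometry
open scoped TensorProduct Classical
open Groth.Agent Groth.Agent.H25AbCube Groth.Agent.H25AbCube.GeomTate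

noncomputable section

namespace Groth.Agent.H25Weilp

/-- The subalgebra generated by an element has the degree of its minimal polynomial as dimension. -/
theorem finrank_adjoin_eq {F R : Type*} [Field F] [Ring R] [Algebra F R] [FiniteDimensional F R] (x : R) :
    Module.finrank F (Algebra.adjoin F {x}) = (minpoly F x).natDegree := by
  have hm := minpoly.monic (Algebra.IsIntegral.isIntegral (R := F) x)
  rw [Algebra.adjoin_singleton_eq_range_aeval]
  let f : Polynomial F →ₐ[F] R := Polynomial.aeval x
  let e1 := (Ideal.quotientEquivAlgOfEq F (minpoly.ker_aeval_eq_span_minpoly F x).symm).trans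
    (Ideal.quotientKerEquivRange f)
  rw [← e1.toLinearEquiv.finrank_eq]
  have h := (AdjoinRoot.powerBasis' hm).finrank
  rw [AdjoinRoot.powerBasis'_dim] at h
  exact h

section finite

variable {k : Type u} [Field k] [Finite k] (Ω : Type u) [Field Ω] [Algebra k Ω] [IsAlgClosure k Ω]
  (l : ℕ) [Fact l.Prime] {A : Over (Spec (CommRingCat.of k))}
  [GrpObj A] [IsCommMonObj A] [IsProper A.hom] [GeometricallyIntegral A.hom]
  [Module.Free ℤ_[l] (AbDual.TateMod A l (SGA7.pt Ω))] [Module.Finite ℤ_[l] (AbDual.TateMod A l (SGA7.pt Ω))]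
  {π : A ⟶ A} [IsMonHom π] (hl : (l : k) ≠ 0) (hπ : IsFrob π)
  (P : Polynomial ℤ) (hP : (AbDual.tateMapₗ (l := l) (T := SGA7.pt Ω) π).charpoly = P.map (Int.castRingHom ℤ_[l]))

local notation "π0" => EndAV.toEnd0 (EndAV.End.of π)
local notation "Qbar" => AlgebraicClosure ℚ

include hl hπ hP

omit hπ in
/-- The characteristic polynomial kills the Frobenius in the endomorphism ring. -/
theorem aeval_frobPoly : Polynomial.aeval π0 (P.map (Int.castRingHom ℚ)) = 0 := by
  have h : Polynomial.aeval (EndAV.End.of π) P = 0 := by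
    refine hom_ext_tm Ω l hl ?_
    show EndAV.End.tateRep l (SGA7.pt Ω) (Polynomial.aeval (EndAV.End.of π) P) = EndAV.End.tateRep l (SGA7.pt Ω) 0
    rw [map_zero, Polynomial.aeval_def, Polynomial.hom_eval₂,
      RingHom.ext_int ((EndAV.End.tateRep l (SGA7.pt Ω)).comp (algebraMap ℤ (EndAV.End A)))
        ((algebraMap ℤ_[l] (Module.End ℤ_[l] (AbDual.TateMod A l (SGA7.pt Ω)))).comp (Int.castRingHom ℤ_[l])),
      ← Polynomial.eval₂_map, ← hP, ← Polynomial.aeval_def]
    exact LinearMap.aeval_self_charpoly _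
  have h2 := congrArg (EndAV.toEnd0 (A := A)).toRingHom h
  rw [map_zero, Polynomial.aeval_def, Polynomial.hom_eval₂,
    RingHom.ext_int ((EndAV.toEnd0 (A := A)).toRingHom.comp (algebraMap ℤ (EndAV.End A)))
      ((algebraMap ℚ (EndAV.End0 A)).comp (Int.castRingHom ℚ)), ← Polynomial.eval₂_map, ← Polynomial.aeval_def] at h2
  exact h2

omit hl hπ in
theorem monic_frobPoly : P.Monic :=
  Polynomial.monic_of_injective (f := Int.castRingHom ℤ_[l]) Int.cast_injective (hP ▸ LinearMap.charpoly_monic _)

omit hl hπ in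
theorem natDegree_frobPoly : P.natDegree = Module.finrank ℤ_[l] (AbDual.TateMod A l (SGA7.pt Ω)) := by
  rw [← LinearMap.charpoly_natDegree (AbDual.tateMapₗ (l := l) (T := SGA7.pt Ω) π), hP,
    Polynomial.natDegree_map_eq_of_injective Int.cast_injective]

/-- The Frobenius has the same eigenvalues as its minimal polynomial has roots. -/
theorem roots_minpoly :
    (((minpoly ℚ π0).map (algebraMap ℚ Qbar)).roots).toFinset =
      (((P.map (Int.castRingHom ℚ)).map (algebraMap ℚ Qbar)).roots).toFinset := by
  classical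
  haveI := finite_end0 (A := A)
  have hm0 : minpoly ℚ π0 ≠ 0 := minpoly.ne_zero (Algebra.IsIntegral.isIntegral _)
  have hP0 : (P.map (Int.castRingHom ℚ)).map (algebraMap ℚ Qbar) ≠ 0 :=
    (((monic_frobPoly Ω l P hP).map _).map _).ne_zero
  ext w
  rw [Multiset.mem_toFinset, Multiset.mem_toFinset]
  constructor
  · exact fun hw => Multiset.mem_of_le (Polynomial.roots.le_of_dvd hP0
      (Polynomial.map_dvd _ (minpoly.dvd ℚ _ (aeval_frobPoly Ω l hl P hP)))) hw
  · intro hw
    rw [Polynomial.mem_roots hP0, Polynomial.IsRoot.def] at hw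
    refine (Polynomial.mem_roots ((Polynomial.map_ne_zero_iff (algebraMap ℚ Qbar).injective).2 hm0)).2 ?_
    let K := AlgebraicClosure ℚ_[l]
    let i : Qbar →+* K := (IsAlgClosed.lift (R := ℚ) (M := K) (S := Qbar)).toRingHom
    let V := ℚ_[l] ⊗[ℤ_[l]] AbDual.TateMod A l (SGA7.pt Ω)
    let b := Module.finBasis ℚ_[l] V
    let M := LinearMap.toMatrix b b (tmQ Ω l π)
    let G : Module.End K (Fin (Module.finrank ℚ_[l] V) → K) := Matrix.toLin' (M.map (algebraMap ℚ_[l] K))
    let m := (minpoly ℚ π0).map (algebraMap ℚ ℚ_[l])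
    have hGm : Polynomial.aeval G (m.map (algebraMap ℚ_[l] K)) = 0 := by
      let Φ : Module.End ℚ_[l] V →ₐ[ℚ_[l]] Module.End K (Fin (Module.finrank ℚ_[l] V) → K) :=
        ((Matrix.toLinAlgEquiv' (R := K)).toAlgHom.restrictScalars ℚ_[l]).comp
          ((AlgHom.mapMatrix (Algebra.ofId ℚ_[l] K)).comp (LinearMap.toMatrixAlgEquiv b).toAlgHom)
      rw [show G = Φ (tmQ Ω l π) from rfl, Polynomial.aeval_map_algebraMap, Polynomial.aeval_algHom_apply,
        show tmQ Ω l π = rep0 Ω l A π0 from (rep0_toEnd0 Ω l A (EndAV.End.of π)).symm, ← rep0_aeval,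
        minpoly.aeval, map_zero, map_zero]
    have hchar : Polynomial.IsRoot G.charpoly (i w) := by
      rw [show G = Matrix.toLin' (M.map (algebraMap ℚ_[l] K)) from rfl, Matrix.charpoly_toLin', Matrix.charpoly_map,
        LinearMap.charpoly_toMatrix, charpoly_tmQ, show (tm Ω l π).charpoly = _ from hP, Polynomial.IsRoot.def,
        Polynomial.map_map, Polynomial.map_map,
        RingHom.ext_int (((algebraMap ℚ_[l] K).comp (algebraMap ℤ_[l] ℚ_[l])).comp (Int.castRingHom ℤ_[l]))
          (i.comp ((algebraMap ℚ Qbar).comp (Int.castRingHom ℚ))),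
        ← Polynomial.map_map, ← Polynomial.map_map, Polynomial.eval_map, Polynomial.eval₂_hom, hw, map_zero]
    obtain ⟨v, hv⟩ := ((Module.End.hasEigenvalue_iff_isRoot_charpoly G (i w)).2 hchar).exists_hasEigenvector
    have h := Module.End.aeval_apply_of_hasEigenvector (p := m.map (algebraMap ℚ_[l] K)) hv
    rw [hGm, LinearMap.zero_apply] at h
    have h2 := (smul_eq_zero.1 h.symm).resolve_right hv.2
    rw [show m.map (algebraMap ℚ_[l] K) = ((minpoly ℚ π0).map (algebraMap ℚ Qbar)).map i by
        rw [Polynomial.map_map, Polynomial.map_map,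
          RingHom.ext_rat ((algebraMap ℚ_[l] K).comp (algebraMap ℚ ℚ_[l])) (i.comp (algebraMap ℚ Qbar))],
      Polynomial.eval_map, Polynomial.eval₂_hom] at h2
    exact i.injective (h2.trans (map_zero i).symm)

/-- The dimension of the algebra generated by the Frobenius is the number of eigenvalues. -/
theorem finrank_qAdj :
    Module.finrank ℚ (EndAV.QAdj (EndAV.End.of π)) =
      (((P.map (Int.castRingHom ℚ)).map (algebraMap ℚ Qbar)).roots).toFinset.card := by
  classical
  haveI := finite_end0 (A := A)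
  rw [← roots_minpoly Ω l hl hπ P hP, EndAV.QAdj, finrank_adjoin_eq]
  obtain ⟨p, hp, hp0⟩ := frob_semisimple_poly (Nat.card k) π hπ.base hπ.le hπ.app
  have hsep : ((minpoly ℚ π0).map (algebraMap ℚ Qbar)).Separable :=
    (Polynomial.separable_map _).2 (PerfectField.separable_iff_squarefree.2
      (hp.squarefree_of_dvd (minpoly.dvd ℚ _ hp0)))
  rw [Multiset.toFinset_card_of_nodup (Polynomial.nodup_roots hsep),
    IsAlgClosed.card_roots_map_eq_natDegree_of_injective _ (algebraMap ℚ Qbar).injective]

/-- The dimension of the rational endomorphism algebra. -/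
theorem finrank_end0_eq :
    Module.finrank ℚ (EndAV.End0 A) =
      Similar.pairMult ((P.map (Int.castRingHom ℚ)).map (algebraMap ℚ Qbar))
        ((P.map (Int.castRingHom ℚ)).map (algebraMap ℚ Qbar)) := by
  rw [finrank_end0]
  exact finrank_hom_eq_int Ω l hl hπ hπ P hP P hP

omit hπ hl in
theorem card_roots_frobPoly :
    Multiset.card (((P.map (Int.castRingHom ℚ)).map (algebraMap ℚ Qbar)).roots) =
      Module.finrank ℤ_[l] (AbDual.TateMod A l (SGA7.pt Ω)) := by
  rw [IsAlgClosed.card_roots_map_eq_natDegree_of_injective _ (algebraMap ℚ Qbar).injective,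
    Polynomial.natDegree_map_eq_of_injective Int.cast_injective, natDegree_frobPoly Ω l P hP]

end finite

end Groth.Agent.H25Weilp
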