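import Groth.Agent.H25Weilp.Isogeny
import Groth.Agent.H25Weilp.Count
import Groth.Agent.H25AbCube.FrobPoly

/-!
# Homomorphisms and characteristic polynomials of the Frobenius
-/

set_option autoImplicit false
set_option linter.style.haveILetI false
set_option linter.unusedSectionVars false
set_option backward.isDefEq.respectTransparency false
set_option synthInstance.maxHeartbeats 400000
set_option maxHeartbeats 1600000
universe u

open CategoryTheory CategoryTheory.Limits MonoidalCategory CartesianMonoidalCategory MonObj GrpObj AlgebraicGeometry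
open scoped TensorProduct
open Groth.Agent Groth.Agent.H25AbCube Groth.Agent.H25AbCube.GeomTate

noncomputable section

namespace Groth.Agent.H25Weilp

section linear

variable {L V W : Type*} [Field L] [PerfectField L] [AddCommGroup V] [Module L V] [FiniteDimensional L V]
  [AddCommGroup W] [Module L W] [FiniteDimensional L W] (g : Module.End L V) (h : Module.End L W)

omit [PerfectField L] in
theorem exists_squarefree_matrix (hg : g.IsSemisimple) {m : Type*} [Fintype m] [DecidableEq m]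
    (b : Module.Basis m L V) :
    ∃ p : Polynomial L, Squarefree p ∧ Polynomial.aeval (LinearMap.toMatrix b b g) p = 0 :=
  ⟨minpoly L g, hg.minpoly_squarefree, by
    rw [show LinearMap.toMatrix b b g = LinearMap.toMatrixAlgEquiv b g from rfl, Polynomial.aeval_algHom_apply,
      minpoly.aeval, map_zero]⟩

theorem finrank_intertwiners (hg : g.IsSemisimple) (hh : h.IsSemisimple) (K : Type*) [Field K] [IsAlgClosed K]
    [Algebra L K] :
    Module.finrank L (LinearMap.ker (LinearMap.lcomp L W g - LinearMap.llcomp L V W W h :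
      (V →ₗ[L] W) →ₗ[L] (V →ₗ[L] W))) =
        Similar.pairMult (g.charpoly.map (algebraMap L K)) (h.charpoly.map (algebraMap L K)) := by
  classical
  let bV := Module.finBasis L V
  let bW := Module.finBasis L W
  obtain ⟨p, hp, hp0⟩ := exists_squarefree_matrix g hg bV
  obtain ⟨q, hq, hq0⟩ := exists_squarefree_matrix h hh bW
  rw [← LinearMap.charpoly_toMatrix g bV, ← LinearMap.charpoly_toMatrix h bW,
    ← Similar.finrank_ker_tw _ p hp hp0 _ q hq hq0 K]
  let e : (V →ₗ[L] W) ≃ₗ[L] Matrix _ _ L := LinearMap.toMatrix bV bW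
  let D : (V →ₗ[L] W) →ₗ[L] (V →ₗ[L] W) := LinearMap.lcomp L W g - LinearMap.llcomp L V W W h
  let T := Similar.tw (LinearMap.toMatrix bV bV g) (LinearMap.toMatrix bW bW h)
  have h' : Submodule.map e.toLinearMap (LinearMap.ker D) = LinearMap.ker T := by
    ext X
    rw [Submodule.mem_map_equiv, LinearMap.mem_ker, LinearMap.mem_ker]
    have he : e (D (e.symm X)) = T X := by
      show LinearMap.toMatrix bV bW (e.symm X ∘ₗ g - h ∘ₗ e.symm X) = _
      rw [map_sub, LinearMap.toMatrix_comp bV bV bW, LinearMap.toMatrix_comp bV bW bW,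
        show LinearMap.toMatrix bV bW (e.symm X) = X from e.apply_symm_apply X]
      rfl
    rw [← he, LinearEquiv.map_eq_zero_iff]
  show Module.finrank L (LinearMap.ker D) = Module.finrank L (LinearMap.ker T)
  rw [← h']
  exact (e.submoduleMap (LinearMap.ker D)).finrank_eq

theorem exists_equiv [Infinite L] (hg : g.IsSemisimple) (hh : h.IsSemisimple) (hc : g.charpoly = h.charpoly) :
    ∃ e : V ≃ₗ[L] W, e.toLinearMap ∘ₗ g = h ∘ₗ e.toLinearMap := by
  classical
  have hd : Module.finrank L V = Module.finrank L W := by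
    rw [← LinearMap.charpoly_natDegree g, hc, LinearMap.charpoly_natDegree h]
  let bV := Module.finBasis L V
  let bW := Module.finBasisOfFinrankEq L W hd.symm
  obtain ⟨p, hp, hp0⟩ := exists_squarefree_matrix g hg bV
  obtain ⟨q, hq, hq0⟩ := exists_squarefree_matrix h hh bW
  obtain ⟨X, hX, hXc⟩ := Similar.exists_conj _ p hp hp0 _ q hq hq0
    (by rw [LinearMap.charpoly_toMatrix, LinearMap.charpoly_toMatrix, hc])
  let e := LinearEquiv.ofIsUnitDet (f := Matrix.toLin bV bW X) (v := bV) (v' := bW)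
    (by rwa [LinearMap.toMatrix_toLin])
  refine ⟨e, (LinearMap.toMatrix bV bW).injective ?_⟩
  rw [LinearMap.toMatrix_comp bV bV bW, LinearMap.toMatrix_comp bV bW bW,
    show LinearMap.toMatrix bV bW e.toLinearMap = X from LinearMap.toMatrix_toLin bV bW X]
  exact hXc

end linear

variable {k : Type u} [Field k] [Finite k] (Ω : Type u) [Field Ω] [Algebra k Ω] [IsAlgClosure k Ω]
  (l : ℕ) [Fact l.Prime] {A B : Over (Spec (CommRingCat.of k))}
  [GrpObj A] [IsCommMonObj A] [IsProper A.hom] [GeometricallyIntegral A.hom]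
  [GrpObj B] [IsCommMonObj B] [IsProper B.hom] [GeometricallyIntegral B.hom]
  {πA : A ⟶ A} [IsMonHom πA] {πB : B ⟶ B} [IsMonHom πB]

/-- Polynomials over `ℤ` giving the characteristic polynomials on all Tate modules. -/
theorem exists_frobPoly (π : EndAV.End A) {g : ℕ} (hg : topologicalKrullDim A.left = g) :
    ∃ P : Polynomial ℤ, P.Monic ∧ P.natDegree = 2 * g ∧
      ∀ (l : ℕ) [Fact l.Prime], (l : k) ≠ 0 → ∀ [Module.Free ℤ_[l] (AbDual.TateMod A l (SGA7.pt Ω))]
        [Module.Finite ℤ_[l] (AbDual.TateMod A l (SGA7.pt Ω))],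
          (tm Ω l π.toHom).charpoly = P.map (Int.castRingHom ℤ_[l]) := by
  haveI : Algebra.IsAlgebraic k Ω := IsAlgClosure.isAlgebraic
  haveI : IsAlgClosed Ω := IsAlgClosure.isAlgClosed k
  obtain ⟨P, hP, hd, -, hl⟩ := exists_charpoly_pt (Ω := Ω) hg π
  exact ⟨P, hP, hd, fun l _ h => hl l h⟩

variable [Module.Free ℤ_[l] (AbDual.TateMod A l (SGA7.pt Ω))] [Module.Finite ℤ_[l] (AbDual.TateMod A l (SGA7.pt Ω))]
  [Module.Free ℤ_[l] (AbDual.TateMod B l (SGA7.pt Ω))] [Module.Finite ℤ_[l] (AbDual.TateMod B l (SGA7.pt Ω))]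

theorem charpoly_tmQ (π : A ⟶ A) [IsMonHom π] :
    (tmQ Ω l π).charpoly = (tm Ω l π).charpoly.map (algebraMap ℤ_[l] ℚ_[l]) :=
  LinearMap.charpoly_baseChange _ _

theorem semisimple_tmQ (hl : (l : k) ≠ 0) (hA : IsFrob πA) : Module.End.IsSemisimple (tmQ Ω l πA) :=
  Groth.Agent.S14943.result k Ω l hl A πA hA.base hA.le hA.app

/-- The rank of the homomorphisms counts common roots of the characteristic polynomials. -/
theorem finrank_hom_eq_pairMult (hl : (l : k) ≠ 0) (hA : IsFrob πA) (hB : IsFrob πB) :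
    Module.finrank ℤ (EndAV.Hom A B) =
      Similar.pairMult ((tmQ Ω l πA).charpoly.map (algebraMap ℚ_[l] (AlgebraicClosure ℚ_[l])))
        ((tmQ Ω l πB).charpoly.map (algebraMap ℚ_[l] (AlgebraicClosure ℚ_[l]))) := by
  rw [finrank_hom Ω l hl hA hB]
  exact finrank_intertwiners _ _ (semisimple_tmQ Ω l hl hA) (semisimple_tmQ Ω l hl hB) _

/-- Counted over the rationals. -/
theorem pairMult_padic (P Q : Polynomial ℤ) :
    Similar.pairMult ((P.map (Int.castRingHom ℚ_[l])).map (algebraMap ℚ_[l] (AlgebraicClosure ℚ_[l])))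
        ((Q.map (Int.castRingHom ℚ_[l])).map (algebraMap ℚ_[l] (AlgebraicClosure ℚ_[l]))) =
      Similar.pairMult ((P.map (Int.castRingHom ℚ)).map (algebraMap ℚ (AlgebraicClosure ℚ)))
        ((Q.map (Int.castRingHom ℚ)).map (algebraMap ℚ (AlgebraicClosure ℚ))) := by
  let i : AlgebraicClosure ℚ →+* AlgebraicClosure ℚ_[l] :=
    (IsAlgClosed.lift (R := ℚ) (M := AlgebraicClosure ℚ_[l]) (S := AlgebraicClosure ℚ)).toRingHom
  rw [Polynomial.map_map, Polynomial.map_map, Polynomial.map_map, Polynomial.map_map,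
    RingHom.ext_int ((algebraMap ℚ_[l] (AlgebraicClosure ℚ_[l])).comp (Int.castRingHom ℚ_[l]))
      (i.comp ((algebraMap ℚ (AlgebraicClosure ℚ)).comp (Int.castRingHom ℚ))), Similar.pairMult_map i]

/-- The rank of the homomorphisms from integral characteristic polynomials. -/
theorem finrank_hom_eq_int (hl : (l : k) ≠ 0) (hA : IsFrob πA) (hB : IsFrob πB)
    (P : Polynomial ℤ) (hP : (tm Ω l πA).charpoly = P.map (Int.castRingHom ℤ_[l]))
    (Q : Polynomial ℤ) (hQ : (tm Ω l πB).charpoly = Q.map (Int.castRingHom ℤ_[l])) :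
    Module.finrank ℤ (EndAV.Hom A B) =
      Similar.pairMult ((P.map (Int.castRingHom ℚ)).map (algebraMap ℚ (AlgebraicClosure ℚ)))
        ((Q.map (Int.castRingHom ℚ)).map (algebraMap ℚ (AlgebraicClosure ℚ))) := by
  rw [finrank_hom_eq_pairMult Ω l hl hA hB, charpoly_tmQ, charpoly_tmQ, hP, hQ, ← pairMult_padic l P Q]
  simp only [Polynomial.map_map]
  congr 2 <;> exact RingHom.ext_int _ _

/-- Equal characteristic polynomials give an isogeny. -/
theorem exists_isogeny_of_charpoly (hl : (l : k) ≠ 0) (hA : IsFrob πA) (hB : IsFrob πB)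
    (h : (tm Ω l πA).charpoly = (tm Ω l πB).charpoly) :
    ∃ (u : A ⟶ B) (_ : IsMonHom u) (v : B ⟶ A) (_ : IsMonHom v) (n : ℕ), 0 < n ∧
        u ≫ v = (𝟙 A) ^ n ∧ v ≫ u = (𝟙 B) ^ n := by
  obtain ⟨e, he⟩ := exists_equiv (tmQ Ω l πA) (tmQ Ω l πB) (semisimple_tmQ Ω l hl hA) (semisimple_tmQ Ω l hl hB)
    (by rw [charpoly_tmQ, charpoly_tmQ, h])
  exact exists_isogeny_of_equiv Ω l hl hA hB e he

/-- Isogenous varieties have the same characteristic polynomial. -/
theorem charpoly_eq_of_isogeny (hA : IsFrob πA) (hB : IsFrob πB) (u : A ⟶ B) [IsMonHom u] (v : B ⟶ A) [IsMonHom v]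
    (n : ℕ) (hn : 0 < n) (huv : u ≫ v = (𝟙 A) ^ n) (hvu : v ≫ u = (𝟙 B) ^ n) :
    (tm Ω l πA).charpoly = (tm Ω l πB).charpoly := by
  obtain ⟨e, he⟩ := exists_equiv_of_isogeny Ω l u v n hn huv hvu
  refine Polynomial.map_injective (algebraMap ℤ_[l] ℚ_[l]) (IsFractionRing.injective _ _) ?_
  rw [← charpoly_tmQ, ← charpoly_tmQ, ← LinearEquiv.charpoly_conj e]
  congr 1
  refine LinearMap.ext fun z => ?_
  rw [LinearEquiv.conj_apply]
  show e (tmQ Ω l πA (e.symm z)) = tmQ Ω l πB z
  have h1 : tmQ Ω l u ∘ₗ tmQ Ω l πA = tmQ Ω l πB ∘ₗ tmQ Ω l u := by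
    rw [← tmQ_comp, ← tmQ_comp, tmQ, tmQ, tm_congr Ω l (hA.comm hB u)]
  rw [← he] at h1
  have h2 := LinearMap.congr_fun h1 (e.symm z)
  simp only [LinearMap.comp_apply, LinearEquiv.coe_coe, e.apply_symm_apply] at h2
  exact h2

end Groth.Agent.H25Weilp
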