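import Groth.Agent.H25Weilp.Char
import Groth.Agent.H25AbCube.PicTorsion
import Groth.Agent.H25Index.DimFixing
import Groth.Agent.H25Pic0.Util

/-!
# The pairing of a class on the torsion points of an abelian variety
-/

set_option autoImplicit false
set_option linter.style.haveILetI false
set_option linter.unusedSectionVars false
set_option backward.isDefEq.respectTransparency false
set_option synthInstance.maxHeartbeats 400000
set_option maxHeartbeats 1000000
universe u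

open CategoryTheory CategoryTheory.Limits MonoidalCategory CartesianMonoidalCategory MonObj GrpObj AlgebraicGeometry
  TopologicalSpace
open Groth.Agent Groth.Agent.H25AbCube Groth.Agent.H25Pic0

noncomputable section

namespace Groth.Agent.H25Weilp

theorem map_genericPoint {X Y : Scheme.{u}} [IsIntegral X] [IsIntegral Y] (f : X ⟶ Y) [Surjective f] :
    f (genericPoint X) = genericPoint Y := by
  refine IsGenericPoint.eq ?_ (genericPoint_spec Y)
  have h := (genericPoint_spec X).image f.continuous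
  rwa [Set.image_univ, f.surjective.range_eq, closure_univ] at h

variable {k : Type u} [Field k] [IsAlgClosed k] {A B C : Over (Spec (CommRingCat.of k))} [GrpObj A] [IsProper A.hom]
  [GeometricallyIntegral A.hom] [IsCommMonObj A] [IsIntegral A.left] [GrpObj B] [IsProper B.hom]
  [GeometricallyIntegral B.hom] [IsCommMonObj B] [IsIntegral B.left]

/-- Translation by a point. -/
def tv (a : 𝟙_ (Over (Spec (CommRingCat.of k))) ⟶ A) : A ⟶ A := 𝟙 A * (toUnit A ≫ a)

theorem comp_tv {T : Over (Spec (CommRingCat.of k))} (b : T ⟶ A) (a : 𝟙_ (Over (Spec (CommRingCat.of k))) ⟶ A) :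
    b ≫ tv a = b * (toUnit T ≫ a) := by
  rw [tv, MonObj.comp_mul, Category.comp_id, ← Category.assoc, comp_toUnit]

theorem pt_comp_tv (b a : 𝟙_ (Over (Spec (CommRingCat.of k))) ⟶ A) : b ≫ tv a = b * a := by
  rw [comp_tv, toUnit_unique (toUnit _) (𝟙 _), Category.id_comp]

theorem tv_one : tv (1 : 𝟙_ (Over (Spec (CommRingCat.of k))) ⟶ A) = 𝟙 A := by
  rw [tv, MonObj.comp_one, _root_.mul_one]

theorem tv_mul (a b : 𝟙_ (Over (Spec (CommRingCat.of k))) ⟶ A) : tv a ≫ tv b = tv (a * b) := by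
  rw [comp_tv, tv, tv, MonObj.comp_mul, _root_.mul_assoc]

theorem tv_comp (f : A ⟶ B) [IsMonHom f] (a : 𝟙_ (Over (Spec (CommRingCat.of k))) ⟶ A) :
    tv a ≫ f = f ≫ tv (a ≫ f) := by
  rw [comp_tv, tv, MonObj.mul_comp, Category.id_comp, Category.assoc]

theorem tv_comp_eq (f : A ⟶ B) [IsMonHom f] {a : 𝟙_ (Over (Spec (CommRingCat.of k))) ⟶ A} (ha : a ≫ f = 1) :
    tv a ≫ f = f := by
  rw [tv_comp, ha, tv_one, Category.comp_id]

theorem transl_eq (u : PC A.left) (a : 𝟙_ (Over (Spec (CommRingCat.of k))) ⟶ A) : transl u a = pullP (tv a).left u := rfl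

instance isIso_tv (a : 𝟙_ (Over (Spec (CommRingCat.of k))) ⟶ A) : IsIso (tv a).left := by
  refine ⟨(tv a⁻¹).left, ?_, ?_⟩ <;>
    rw [← Over.comp_left, tv_mul] <;> simp [tv_one]

theorem tv_gen (a : 𝟙_ (Over (Spec (CommRingCat.of k))) ⟶ A) : (tv a).left (genericPoint A.left) = genericPoint A.left :=
  map_genericPoint (tv a).left

theorem fixes (t : A ⟶ A) (ht : t.left (genericPoint A.left) = genericPoint A.left) : Fixes t.left ht :=
  fixes_of_appTop _ ht fun s => appTop_eq_self t s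

section isogeny

variable (q : A ⟶ B) [IsMonHom q] [Etale q.left]

/-- Functions invariant under the kernel agree on the kernel pair. -/
theorem hpair (V : B.left.Opens) (f : Γ(A.left, q.left ⁻¹ᵁ V))
    (hf : ∀ (a : 𝟙_ (Over (Spec (CommRingCat.of k))) ⟶ A), a ≫ q = 1 →
      ∀ (e : q.left ⁻¹ᵁ V ≤ (tv a).left ⁻¹ᵁ (q.left ⁻¹ᵁ V)), (tv a).left.appLE _ _ e f = f)
    {Z : Scheme.{u}} (g₁ g₂ : Z ⟶ A.left) (e : g₁ ≫ q.left = g₂ ≫ q.left)
    (e₁ : ⊤ ≤ g₁ ⁻¹ᵁ (q.left ⁻¹ᵁ V)) (e₂ : ⊤ ≤ g₂ ⁻¹ᵁ (q.left ⁻¹ᵁ V)) :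
    g₁.appLE (q.left ⁻¹ᵁ V) ⊤ e₁ f = g₂.appLE (q.left ⁻¹ᵁ V) ⊤ e₂ f := by
  let P : Scheme.{u} := pullback q.left q.left
  let p₁ : P ⟶ A.left := pullback.fst _ _
  let p₂ : P ⟶ A.left := pullback.snd _ _
  haveI : Etale p₁ := MorphismProperty.pullback_fst _ _ inferInstance
  haveI : IsReduced P := H13AlgSp.isReduced_of_smooth_mor p₁
  let pP : P ⟶ Spec (CommRingCat.of k) := p₁ ≫ A.hom
  haveI : LocallyOfFiniteType pP := inferInstance
  haveI : JacobsonSpace P := LocallyOfFiniteType.jacobsonSpace pP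
  have hcond : p₂ ≫ q.left = p₁ ≫ q.left := pullback.condition.symm
  have hW : p₂ ⁻¹ᵁ (q.left ⁻¹ᵁ V) = p₁ ⁻¹ᵁ (q.left ⁻¹ᵁ V) := by
    show (p₂ ≫ q.left) ⁻¹ᵁ V = (p₁ ≫ q.left) ⁻¹ᵁ V
    rw [hcond]
  let W := p₁ ⁻¹ᵁ (q.left ⁻¹ᵁ V)
  let r : Γ(P, W) := p₁.appLE _ W le_rfl f - p₂.appLE _ W hW.ge f
  have hr : r = 0 := by
    refine eq_zero_of_basicOpen_eq_bot r ?_
    by_contra hne
    obtain ⟨c, hcr, hc⟩ := nonempty_inter_closedPoints (Z := (P.basicOpen r : Set P))
      (Set.nonempty_iff_ne_empty.2 fun h => hne (Opens.ext h)) (P.basicOpen r).isOpen.isLocallyClosed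
    let p := (pointEquivClosedPoint pP).symm ⟨c, hc⟩
    have hpc : p.1 (IsLocalRing.closedPoint k) = c :=
      congrArg Subtype.val ((pointEquivClosedPoint pP).apply_symm_apply ⟨c, hc⟩)
    let b₁ : 𝟙_ (Over (Spec (CommRingCat.of k))) ⟶ A := Over.homMk (p.1 ≫ p₁) (by
      show (p.1 ≫ p₁) ≫ A.hom = 𝟙 _
      rw [Category.assoc]; exact p.2)
    let b₂ : 𝟙_ (Over (Spec (CommRingCat.of k))) ⟶ A := Over.homMk (p.1 ≫ p₂) (by
      show (p.1 ≫ p₂) ≫ A.hom = 𝟙 _
      rw [Category.assoc, ← Over.w q, ← Category.assoc p₂, hcond, Category.assoc p₁, Over.w q]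
      exact p.2)
    have hb : b₂ ≫ q = b₁ ≫ q := Over.OverMorphism.ext (by
      show (p.1 ≫ p₂) ≫ q.left = (p.1 ≫ p₁) ≫ q.left
      rw [Category.assoc, Category.assoc, hcond])
    have ha : (b₂ / b₁) ≫ q = 1 := by
      rw [div_eq_mul_inv, MonObj.mul_comp, GrpObj.inv_comp, hb, mul_inv_cancel]
    have hmul : (p.1 ≫ p₁) ≫ (tv (b₂ / b₁)).left = p.1 ≫ p₂ := by
      have := congrArg (fun z => z.left) (pt_comp_tv b₁ (b₂ / b₁))
      rw [mul_div_cancel] at this
      exact this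
    have hle : q.left ⁻¹ᵁ V ≤ (tv (b₂ / b₁)).left ⁻¹ᵁ (q.left ⁻¹ᵁ V) := by
      rw [← Scheme.Hom.comp_preimage, ← Over.comp_left, tv_comp_eq q ha]
    have hWtop : ⊤ ≤ p.1 ⁻¹ᵁ W := fun z _ => by
      obtain rfl : z = IsLocalRing.closedPoint k := Subsingleton.elim (α := PrimeSpectrum k) _ _
      show p.1 (IsLocalRing.closedPoint k) ∈ W
      rw [hpc]
      exact P.basicOpen_le r hcr
    have h0 : p.1.appLE W ⊤ hWtop r = 0 := by
      rw [map_sub, sub_eq_zero]
      show (p₁.appLE _ W le_rfl ≫ p.1.appLE W ⊤ hWtop) f = (p₂.appLE _ W hW.ge ≫ p.1.appLE W ⊤ hWtop) f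
      rw [Scheme.Hom.appLE_comp_appLE, Scheme.Hom.appLE_comp_appLE]
      conv_lhs => rw [← hf _ ha hle]
      show ((tv (b₂ / b₁)).left.appLE _ _ hle ≫ (p.1 ≫ p₁).appLE _ ⊤ _) f = _
      rw [Scheme.Hom.appLE_comp_appLE]
      simp only [hmul]
    have h2 : c ∈ P.basicOpen r := hcr
    have h3 : IsLocalRing.closedPoint k ∈ p.1 ⁻¹ᵁ P.basicOpen r := by
      exact (congrArg (· ∈ P.basicOpen r) hpc).mpr h2
    have h4 : IsLocalRing.closedPoint k ∈ (Spec (CommRingCat.of k)).basicOpen (p.1.appLE W ⊤ hWtop r) := by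
      rw [Scheme.preimage_basicOpen] at h3
      rw [Scheme.Hom.appLE, CommRingCat.comp_apply, Scheme.basicOpen_res]
      exact ⟨trivial, h3⟩
    rw [h0, Scheme.basicOpen_zero] at h4
    exact h4
  let l : Z ⟶ P := pullback.lift g₁ g₂ e
  have hl : ⊤ ≤ l ⁻¹ᵁ W := fun z hz => by
    show (l ≫ p₁) z ∈ q.left ⁻¹ᵁ V
    rw [show l ≫ p₁ = g₁ from pullback.lift_fst _ _ _]
    exact e₁ hz
  have h5 := congrArg (l.appLE W ⊤ hl) hr
  rw [map_zero, map_sub, sub_eq_zero] at h5
  change (p₁.appLE _ W le_rfl ≫ l.appLE W ⊤ hl) f = (p₂.appLE _ W hW.ge ≫ l.appLE W ⊤ hl) f at h5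
  rw [Scheme.Hom.appLE_comp_appLE, Scheme.Hom.appLE_comp_appLE] at h5
  simp only [show l ≫ p₁ = g₁ from pullback.lift_fst _ _ _, show l ≫ p₂ = g₂ from pullback.lift_snd _ _ _] at h5
  exact h5

variable [IsFinite q.left] [Surjective q.left]

/-- Invariant rational functions descend along an isogeny. -/
theorem exists_descend_fun (f : A.left.functionField)
    (hf : ∀ a : 𝟙_ (Over (Spec (CommRingCat.of k))) ⟶ A, a ≫ q = 1 → fK (tv a).left (tv_gen a) f = f) :
    ∃ δ, fK q.left (map_genericPoint q.left) δ = f := by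
  obtain ⟨V, hV, hη, -⟩ := exists_isAffineOpen_mem_and_subset (U := (⊤ : B.left.Opens))
    (x := genericPoint B.left) trivial
  have hqη := map_genericPoint q.left
  let U := q.left ⁻¹ᵁ V
  have hU : IsAffineOpen U := hV.preimage q.left
  have hηU : genericPoint A.left ∈ U := show q.left (genericPoint A.left) ∈ V by rw [hqη]; exact hη
  haveI : Nonempty U := ⟨⟨_, hηU⟩⟩
  haveI := functionField_isFractionRing_of_isAffineOpen A.left U hU
  obtain ⟨b, a, ha, rfl⟩ := IsFractionRing.div_surjective (A := Γ(A.left, U)) f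
  haveI : Nonempty V := ⟨⟨_, hη⟩⟩
  letI : Algebra Γ(B.left, V) Γ(A.left, U) := (q.left.app V).hom.toAlgebra
  have hint : (q.left.app V).hom.IsIntegral := (q.left.finite_app V hV).to_isIntegral
  obtain ⟨s, hs, c, hc⟩ : ∃ s : Γ(B.left, V), s ≠ 0 ∧ a ∣ q.left.app V s :=
    IsAlgebraic.exists_nonzero_dvd (R := Γ(B.left, V)) (IsIntegral.isAlgebraic (hint a)) ha
  obtain ⟨hinj, hdesc⟩ := app_descent q.left V
  have htK : ∀ z : Γ(A.left, U), algebraMap Γ(A.left, U) A.left.functionField z = toK hηU z := fun z => rfl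
  have htK' : algebraMap Γ(A.left, U) A.left.functionField b / algebraMap Γ(A.left, U) A.left.functionField a =
      toK hηU (b * c) / fK q.left hqη (toK hη s) := by
    have ha0 : algebraMap Γ(A.left, U) A.left.functionField a ≠ 0 :=
      IsFractionRing.to_map_ne_zero_of_mem_nonZeroDivisors ha
    have hs0 : fK q.left hqη (toK hη s) ≠ 0 :=
      (map_ne_zero _).2 ((map_ne_zero_iff _ (toK_injective hη)).2 hs)
    rw [div_eq_div_iff ha0 hs0, fK_toK, map_mul, htK, htK, hc, map_mul]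
    ring
  rw [htK'] at hf ⊢
  have hs0 : fK q.left hqη (toK hη s) ≠ 0 := (map_ne_zero _).2 ((map_ne_zero_iff _ (toK_injective hη)).2 hs)
  have hinv : ∀ x : 𝟙_ (Over (Spec (CommRingCat.of k))) ⟶ A, x ≫ q = 1 →
      ∀ e : U ≤ (tv x).left ⁻¹ᵁ U, (tv x).left.appLE U U e (b * c) = b * c := by
    intro x hx e
    refine toK_injective hηU ?_
    have h := hf x hx
    rw [map_div₀, fK_comp_apply (tv x).left q.left q.left (by rw [← Over.comp_left, tv_comp_eq q hx]) _ hqη hqη,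
      div_left_inj' hs0, fK_toK] at h
    refine Eq.trans ?_ h
    show toK hηU (A.left.presheaf.map (homOfLE e).op ((tv x).left.app U (b * c))) = _
    rw [toK_res]
  obtain ⟨d, hd⟩ := hdesc (b * c) fun g₁ g₂ e e₁ e₂ => hpair q V (b * c) hinv g₁ g₂ e e₁ e₂
  refine ⟨toK hη d / toK hη s, ?_⟩
  rw [map_div₀, fK_toK, hd]

end isogeny

section pairing

variable (ℓ : PC A.left) (N : ℕ)

/-- `e` is the value of the pairing of `ℓ` at two points killed by `N`. -/
def IsPair (x y : 𝟙_ (Over (Spec (CommRingCat.of k))) ⟶ A) (e : A.left.functionField) : Prop :=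
  ∃ (_ : Surjective ((𝟙 A) ^ N : A ⟶ A).left),
    IsChi ((𝟙 A) ^ N : A ⟶ A).left (map_genericPoint _) (transl ℓ x - ℓ) (tv y).left (tv_gen y) e

variable {ℓ} {N}

theorem pow_comp_eq (y : 𝟙_ (Over (Spec (CommRingCat.of k))) ⟶ A) (hy : y ^ N = 1) :
    tv y ≫ ((𝟙 A) ^ N : A ⟶ A) = (𝟙 A) ^ N := by
  haveI : IsMonHom ((𝟙 A) ^ N : A ⟶ A) := isMonHom_pow N
  exact tv_comp_eq _ (by rw [comp_pow_id, hy])

theorem transl_invariant (u : PC A.left) (x a : 𝟙_ (Over (Spec (CommRingCat.of k))) ⟶ A) :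
    transl (transl u x - u) a = transl u x - u := by
  rw [show transl (transl u x - u) a = transl (transl u x) a - transl u a from map_sub _ _ _, transl_transl,
    sub_eq_sub_iff_add_eq_add, square_transl u a x, _root_.add_comm]

theorem pullP_pow_eq_zero (u : PC A.left) {x : 𝟙_ (Over (Spec (CommRingCat.of k))) ⟶ A} (hx : x ^ N = 1) :
    pullP ((𝟙 A) ^ N : A ⟶ A).left (transl u x - u) = 0 := by
  refine (ev_pow_of_invariant _ (transl_invariant u x) N).trans ?_
  rw [← phi_pow, hx, transl_eq, tv_one]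
  exact sub_eq_zero.2 (pullP_id u)

theorem exists_isPair (hN : 0 < N) {x : 𝟙_ (Over (Spec (CommRingCat.of k))) ⟶ A} (hx : x ^ N = 1)
    (y : 𝟙_ (Over (Spec (CommRingCat.of k))) ⟶ A) : ∃ e, IsPair ℓ N x y e := by
  haveI := surjective_pow (A := A) hN
  obtain ⟨gm, hgm⟩ := exists_isTriv (hq := map_genericPoint _) (pullP_pow_eq_zero ℓ hx)
  exact ⟨_, inferInstance, hgm.isChi _ _⟩

theorem IsPair.unique {x y : 𝟙_ (Over (Spec (CommRingCat.of k))) ⟶ A} {e e' : A.left.functionField} (hy : y ^ N = 1)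
    (h : IsPair ℓ N x y e) (h' : IsPair ℓ N x y e') : e = e' := by
  obtain ⟨_, h⟩ := h
  obtain ⟨_, h'⟩ := h'
  exact IsChi.unique (by rw [← Over.comp_left, pow_comp_eq y hy]) (fixes _ _) h h'

theorem IsPair.unitAt {x y : 𝟙_ (Over (Spec (CommRingCat.of k))) ⟶ A} {e : A.left.functionField} (hy : y ^ N = 1)
    (h : IsPair ℓ N x y e) (z : A.left) : UnitAt z e := by
  obtain ⟨_, gm, hT, rfl⟩ := h
  exact hT.unitAt _ _ (by rw [← Over.comp_left, pow_comp_eq y hy]) z

theorem IsPair.fixed {x y : 𝟙_ (Over (Spec (CommRingCat.of k))) ⟶ A} {e : A.left.functionField} (hy : y ^ N = 1)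
    (h : IsPair ℓ N x y e) (t : A ⟶ A) (ht : t.left (genericPoint A.left) = genericPoint A.left) :
    fK t.left ht e = e :=
  fixes t ht e (h.unitAt hy)

theorem IsPair.add_left {x x' y : 𝟙_ (Over (Spec (CommRingCat.of k))) ⟶ A} {e e' : A.left.functionField}
    (h : IsPair ℓ N x y e) (h' : IsPair ℓ N x' y e') : IsPair ℓ N (x * x') y (e * e') := by
  obtain ⟨hs, h⟩ := h
  obtain ⟨_, h'⟩ := h'
  exact ⟨hs, by rw [phi_mul]; exact h.add h'⟩

theorem fK_tv_mul (a b : 𝟙_ (Over (Spec (CommRingCat.of k))) ⟶ A) (f : A.left.functionField) :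
    fK (tv a).left (tv_gen a) (fK (tv b).left (tv_gen b) f) = fK (tv (a * b)).left (tv_gen (a * b)) f :=
  fK_comp_apply _ _ _ (by rw [← Over.comp_left, tv_mul]) _ _ _ f

theorem IsPair.add_right {x y y' : 𝟙_ (Over (Spec (CommRingCat.of k))) ⟶ A} {e e' : A.left.functionField}
    (hy' : y' ^ N = 1) (h : IsPair ℓ N x y e) (h' : IsPair ℓ N x y' e') :
    IsPair ℓ N x (y * y') (e * e') := by
  obtain ⟨hs, gm, hT, rfl⟩ := h
  have h2 : IsPair ℓ N x y' (fK (tv y').left (tv_gen y') gm / gm) := ⟨hs, hT.isChi _ _⟩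
  refine ⟨hs, gm, hT, ?_⟩
  have hgm := hT.1
  have h3 : fK (tv y).left (tv_gen y) e' = e' := h'.fixed hy' (tv y) _
  have h4 : fK (tv y').left (tv_gen y') gm = e' * gm := by
    rw [h'.unique hy' h2, div_mul_cancel₀ _ hgm]
  rw [← fK_tv_mul, h4, map_mul, h3, mul_comm e' (fK _ _ gm), mul_div_right_comm]

theorem IsPair.one_right (hN : 0 < N) {x : 𝟙_ (Over (Spec (CommRingCat.of k))) ⟶ A} (hx : x ^ N = 1) :
    IsPair ℓ N x 1 1 := by
  obtain ⟨_, hs, gm, hT, -⟩ := exists_isPair (ℓ := ℓ) hN hx 1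
  refine ⟨hs, gm, hT, ?_⟩
  rw [fK_congr (g := 𝟙 A.left) (by rw [tv_one]; rfl) _ rfl, fK_id, div_self hT.1]

theorem IsPair.pow_right (hN : 0 < N) {x y : 𝟙_ (Over (Spec (CommRingCat.of k))) ⟶ A} {e : A.left.functionField}
    (hx : x ^ N = 1) (hy : y ^ N = 1) (h : IsPair ℓ N x y e) : ∀ j : ℕ, IsPair ℓ N x (y ^ j) (e ^ j)
  | 0 => by rw [pow_zero, pow_zero]; exact IsPair.one_right hN hx
  | j + 1 => by
    rw [pow_succ, pow_succ]
    exact (IsPair.pow_right hN hx hy h j).add_right hy h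

theorem IsPair.pow_eq_one (hN : 0 < N) {x y : 𝟙_ (Over (Spec (CommRingCat.of k))) ⟶ A} {e : A.left.functionField}
    (hx : x ^ N = 1) (hy : y ^ N = 1) (h : IsPair ℓ N x y e) : e ^ N = 1 := by
  have := h.pow_right hN hx hy N
  rw [hy] at this
  exact this.unique (one_pow _) (IsPair.one_right hN hx)

/-- The pairing is alternating. -/
theorem isPair_self (hN : 0 < N) {x : 𝟙_ (Over (Spec (CommRingCat.of k))) ⟶ A} (hx : x ^ N = 1) :
    IsPair ℓ N x x 1 := by
  haveI := surjective_pow (A := A) hN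
  let q := ((𝟙 A) ^ N : A ⟶ A).left
  have hq : q (genericPoint A.left) = genericPoint A.left := map_genericPoint _
  obtain ⟨x', hx'⟩ : ∃ x' : 𝟙_ (Over (Spec (CommRingCat.of k))) ⟶ A, x' ^ N = x := exists_pow_eq hN x
  obtain ⟨D, hD⟩ := exists_repr ℓ
  let T : ℕ → (A.left ⟶ A.left) := fun i => (tv (x' ^ i)).left
  have hT : ∀ i, T i (genericPoint A.left) = genericPoint A.left := fun i => tv_gen _
  let P : A.left → A.left.functionField := fun z => fK q hq (D (q z))
  let Pi : ℕ → A.left → A.left.functionField := fun i z => fK (T i) (hT i) (P (T i z))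
  have hc : Repr (transl ℓ x - ℓ) fun z => fK (tv x).left (tv_gen x) (D ((tv x).left z)) / D z := by
    rw [transl_eq]
    exact (hD.pullback _ (tv_gen x)).sub hD
  obtain ⟨gm, hgm, hu⟩ := (repr_zero_iff (hc.pullback q hq)).1 (pullP_pow_eq_zero ℓ hx)
  have hTriv : IsTriv q hq (transl ℓ x - ℓ) gm := ⟨hgm, _, hc, hu⟩
  refine ⟨inferInstance, gm, hTriv, ?_⟩
  let G : ℕ → A.left.functionField := fun i => fK (T i) (hT i) gm
  have hG : ∀ i, G i ≠ 0 := fun i => (map_ne_zero _).2 hgm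
  have htq : (tv x').left ≫ q = q ≫ (tv x).left := by
    haveI : IsMonHom ((𝟙 A) ^ N : A ⟶ A) := isMonHom_pow N
    show _ ≫ ((𝟙 A) ^ N : A ⟶ A).left = ((𝟙 A) ^ N : A ⟶ A).left ≫ _
    rw [← Over.comp_left, ← Over.comp_left, tv_comp, comp_pow_id, hx']
  have h1 : ∀ z, UnitAt z (fK (tv x').left (tv_gen x') (P ((tv x').left z)) / P z / gm) := fun z => by
    have := hu z
    rw [map_div₀] at this
    have hh : ((tv x').left ≫ q) (genericPoint A.left) = genericPoint A.left := by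
      rw [Scheme.Hom.comp_apply, tv_gen, hq]
    rw [fK_comp_apply q (tv x).left _ htq.symm hq (tv_gen x) hh] at this
    show UnitAt z (fK (tv x').left _ (fK q hq (D (q ((tv x').left z)))) / P z / gm)
    rw [fK_comp_apply (tv x').left q _ rfl (tv_gen x') hq hh, ← Scheme.Hom.comp_apply]
    rwa [show (tv x).left (q z) = ((tv x').left ≫ q) z by rw [htq, Scheme.Hom.comp_apply]] at this
  have hcomp : ∀ i, T i ≫ (tv x').left = T (i + 1) := fun i => by
    show _ = (tv (x' ^ (i + 1))).left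
    rw [← Over.comp_left, tv_mul, ← pow_succ]
  have hstep : ∀ i z, UnitAt z (Pi (i + 1) z / Pi i z / G i) := fun i z => by
    have := fK_unitAt (T i) (hT i) (h1 (T i z))
    rw [map_div₀, map_div₀, fK_comp_apply (T i) (tv x').left _ (hcomp i) (hT i) (tv_gen x') (hT (i + 1)),
      ← Scheme.Hom.comp_apply, hcomp] at this
    exact this
  have hne : ∀ i z, Pi i z ≠ 0 := fun i z => (map_ne_zero _).2 ((map_ne_zero _).2 (hD.ne_zero _))
  have hprod : ∀ (m : ℕ) z, UnitAt z (Pi m z / Pi 0 z / ∏ i ∈ Finset.range m, G i) := by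
    intro m z
    induction m with
    | zero => rw [Finset.prod_range_zero, div_one, div_self (hne 0 z)]; exact UnitAt.one z
    | succ m ih =>
      have := ih.mul (hstep m z)
      convert this using 1
      rw [Finset.prod_range_succ]
      have := hne 0 z
      have := hne m z
      field_simp
  have hN0 : ∀ z, Pi N z = Pi 0 z := fun z => by
    have e : ∀ i, T i ≫ q = (tv (x' ^ i) ≫ ((𝟙 A) ^ N : A ⟶ A)).left := fun i => rfl
    have he : T N ≫ q = T 0 ≫ q := by
      rw [e, e, hx', pow_comp_eq x hx, pow_zero, tv_one, Category.id_comp]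
    have hh : ∀ i, (T i ≫ q) (genericPoint A.left) = genericPoint A.left := fun i => by
      rw [Scheme.Hom.comp_apply, hT, hq]
    show fK (T N) (hT N) (fK q hq (D (q (T N z)))) = fK (T 0) (hT 0) (fK q hq (D (q (T 0 z))))
    rw [fK_comp_apply _ q _ rfl (hT N) hq (hh N), fK_comp_apply _ q _ rfl (hT 0) hq (hh 0),
      ← Scheme.Hom.comp_apply, ← Scheme.Hom.comp_apply, fK_congr he (hh N) (hh 0), he]
  have hunit : ∀ z, UnitAt z (∏ i ∈ Finset.range N, G i) := fun z => by
    have := (hprod N z).inv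
    rwa [hN0, div_self (hne 0 z), one_div, _root_.inv_inv] at this
  have hshift := fixes (tv x') (tv_gen x') _ hunit
  rw [map_prod] at hshift
  have hG1 : ∀ i, fK (tv x').left (tv_gen x') (G i) = G (i + 1) := fun i => by
    show fK (tv x').left _ (fK (tv (x' ^ i)).left _ gm) = fK (tv (x' ^ (i + 1))).left _ gm
    rw [fK_tv_mul, fK_congr (g := (tv (x' ^ (i + 1))).left) (by rw [pow_succ']) _ (tv_gen _)]
  simp only [hG1] at hshift
  have h2 := Finset.prod_range_succ G N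
  rw [Finset.prod_range_succ', hshift] at h2
  have h3 : G 0 = G N := mul_left_cancel₀ (Finset.prod_ne_zero_iff.2 fun i _ => hG i) h2
  have h4 : G N = fK (tv x).left (tv_gen x) gm := fK_congr (by show (tv (x' ^ N)).left = _; rw [hx']) _ _ ▸ rfl
  have h5 : G 0 = gm := by
    show fK (tv (x' ^ 0)).left _ gm = gm
    rw [fK_congr (g := 𝟙 A.left) (by rw [pow_zero, tv_one]; rfl) _ rfl, fK_id]
  rw [← h4, ← h3, h5, div_self hgm]

/-- The origin pairs trivially. -/
theorem isPair_one_left (hN : 0 < N) (y : 𝟙_ (Over (Spec (CommRingCat.of k))) ⟶ A) : IsPair ℓ N 1 y 1 := by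
  haveI := surjective_pow (A := A) hN
  obtain ⟨D, hD⟩ := exists_repr ℓ
  refine ⟨inferInstance, 1, ⟨one_ne_zero, fun z => D z / D z, ?_, fun z => ?_⟩, by rw [map_one, div_one]⟩
  · rw [transl_eq, tv_one, show pullP (𝟙 A : A ⟶ A).left ℓ = ℓ from pullP_id ℓ]
    exact hD.sub hD
  · show UnitAt z (fK _ _ (D _ / D _) / 1)
    rw [div_self (hD.ne_zero _), map_one, div_one]
    exact UnitAt.one z

/-- Compatibility of the levels. -/
theorem IsPair.compat {l : ℕ} (hl : 0 < l) {x y : 𝟙_ (Over (Spec (CommRingCat.of k))) ⟶ A}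
    {e₀ e : A.left.functionField} (hN : 0 < N) (hy : y ^ (N * l) = 1)
    (h₀ : IsPair ℓ N (x ^ l) (y ^ l) e₀) (h : IsPair ℓ (N * l) x y e) : e₀ = e ^ l := by
  haveI := surjective_pow (A := A) hl
  haveI := surjective_pow (A := A) (Nat.mul_pos hN hl)
  have hxl : (y ^ l) ^ N = 1 := by rw [← pow_mul, mul_comm, hy]
  have he₀ := h₀.fixed hxl ((𝟙 A) ^ l) (map_genericPoint _)
  obtain ⟨_, h₀⟩ := h₀
  haveI : IsMonHom ((𝟙 A) ^ l : A ⟶ A) := isMonHom_pow l
  have h1 := h₀.natural ((𝟙 A) ^ l : A ⟶ A).left (𝟙 A.left) ((𝟙 A) ^ (N * l) : A ⟶ A).left (by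
      rw [Category.comp_id, ← Over.comp_left, comp_pow_id, ← pow_mul, mul_comm])
    (map_genericPoint _) rfl (map_genericPoint _) (tv y).left (tv_gen y) (by
      rw [← Over.comp_left, ← Over.comp_left, tv_comp, comp_pow_id])
  rw [he₀, pullP_id, phi_pow] at h1
  have hpow : ∀ j : ℕ, IsPair ℓ (N * l) (x ^ j) y (e ^ j) := fun j => by
    induction j with
    | zero => rw [pow_zero, pow_zero]; exact isPair_one_left (Nat.mul_pos hN hl) y
    | succ j ih => rw [pow_succ, pow_succ]; exact ih.add_left h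
  have h2 : IsPair ℓ (N * l) (x ^ l) y e₀ := ⟨inferInstance, by rw [phi_pow]; exact h1⟩
  exact h2.unique hy (hpow l)

/-- An endomorphism multiplying the class by a number multiplies the pairing by it. -/
theorem IsPair.endo {φ : A ⟶ A} [IsMonHom φ] [Surjective φ.left] {c : ℕ} (hφ : ev ℓ φ = c • ℓ)
    (hN : 0 < N) {x y : 𝟙_ (Over (Spec (CommRingCat.of k))) ⟶ A} {e e' : A.left.functionField}
    (hy : y ^ N = 1) (h : IsPair ℓ N (x ≫ φ) (y ≫ φ) e) (h' : IsPair ℓ N x y e') :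
    e = e' ^ c := by
  haveI := surjective_pow (A := A) hN
  have hye : (y ≫ φ) ^ N = 1 := by rw [← MonObj.pow_comp, hy, MonObj.one_comp]
  have he := h.fixed hye φ (map_genericPoint _)
  obtain ⟨_, h⟩ := h
  haveI : IsMonHom ((𝟙 A) ^ N : A ⟶ A) := isMonHom_pow N
  have h1 := h.natural φ.left φ.left ((𝟙 A) ^ N : A ⟶ A).left (by
      rw [← Over.comp_left, ← Over.comp_left, MonObj.pow_comp, Category.id_comp, comp_pow_id])
    (map_genericPoint _) (map_genericPoint _) (map_genericPoint _) (tv y).left (tv_gen y) (by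
      rw [← Over.comp_left, ← Over.comp_left, tv_comp])
  have e1 : pullP φ.left (transl ℓ (x ≫ φ) - ℓ) = transl ℓ (x ^ c) - ℓ := by
    rw [phi_pow, map_sub, smul_sub]
    show ev (transl ℓ (x ≫ φ)) φ - ev ℓ φ = _
    rw [← transl_pullP, hφ, show transl (c • ℓ) x = c • transl ℓ x from map_nsmul _ _ _]
  rw [he, e1] at h1
  have hp : ∀ j : ℕ, IsPair ℓ N (x ^ (j + 1)) y (e' ^ (j + 1)) := fun j => by
    induction j with
    | zero => rwa [pow_one, pow_one]
    | succ j ih => rw [pow_succ x, pow_succ e']; exact ih.add_left h'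
  have h2 : IsPair ℓ N (x ^ c) y e := ⟨inferInstance, h1⟩
  rcases c with - | j
  · rw [pow_zero] at h2 ⊢
    exact h2.unique hy (isPair_one_left hN y)
  · exact h2.unique hy (hp j)

/-- A point pairing trivially with a kernel translates the pulled back class to itself. -/
theorem pullP_eq_zero_of_isPair (hNk : (N : k) ≠ 0) {x : 𝟙_ (Over (Spec (CommRingCat.of k))) ⟶ A}
    (hx : x ^ N = 1) (q : A ⟶ B) [IsMonHom q] [IsFinite q.left] [Flat q.left] [Surjective q.left] (v : B ⟶ A)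
    (hqv : q ≫ v = (𝟙 A) ^ N) [Surjective v.left]
    (h1 : ∀ z : 𝟙_ (Over (Spec (CommRingCat.of k))) ⟶ A, z ≫ q = 1 → IsPair ℓ N x z 1) :
    pullP v.left (transl ℓ x - ℓ) = 0 := by
  haveI := surjective_pow (A := A) (n := N) (Nat.pos_of_ne_zero fun h => hNk (by rw [h, Nat.cast_zero]))
  haveI : Etale ((𝟙 A) ^ N : A ⟶ A).left := by
    have := H19Grp.etale_zpow_field' A (N : ℤ) (by rwa [Int.cast_natCast])
    rwa [zpow_natCast] at this
  haveI : Etale q.left := by
    haveI : FormallyUnramified (q.left ≫ v.left) := by rw [← Over.comp_left, hqv]; infer_instance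
    haveI : FormallyUnramified q.left := FormallyUnramified.of_comp q.left v.left
    haveI : IsLocallyNoetherian B.left := LocallyOfFiniteType.isLocallyNoetherian B.hom
    haveI : LocallyOfFinitePresentation q.left :=
      LocallyOfFinitePresentation.iff_locallyOfFiniteType.2 inferInstance
    exact Etale.of_formallyUnramified_of_flat _
  have he : q.left ≫ v.left = ((𝟙 A) ^ N : A ⟶ A).left := by rw [← Over.comp_left, hqv]
  refine eq_zero_of_chi (hq := map_genericPoint q.left) (G := {z : 𝟙_ _ ⟶ A // z ≫ q = 1}) (fun z => (tv z.1).left)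
    (fun z => tv_gen z.1) (fun z => by rw [← Over.comp_left, tv_comp_eq q z.2]) (fun z => fixes _ _)
    (fun f hf => exists_descend_fun q f fun a ha => hf ⟨a, ha⟩) ?_ fun z => ?_
  · rw [pullP_pullP, he]
    exact pullP_pow_eq_zero ℓ hx
  · obtain ⟨_, h⟩ := h1 z.1 z.2
    have h2 := h.natural (𝟙 A.left) v.left q.left (by rw [Category.id_comp, he]) rfl (map_genericPoint _)
      (map_genericPoint _) (tv z.1).left (tv_gen z.1) (by simp)
    rwa [map_one] at h2

/-- The kernel of the pairing fixes the class. -/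
theorem transl_eq_of_isPair (hN : 0 < N) (hNk : (N : k) ≠ 0) {x : 𝟙_ (Over (Spec (CommRingCat.of k))) ⟶ A}
    (hx : x ^ N = 1) (h1 : ∀ z : 𝟙_ (Over (Spec (CommRingCat.of k))) ⟶ A, z ^ N = 1 → IsPair ℓ N x z 1) :
    transl ℓ x = ℓ := by
  haveI := surjective_pow (A := A) hN
  haveI := isFinite_pow (A := A) hN
  haveI := flat_pow (A := A) hN
  haveI : IsMonHom ((𝟙 A) ^ N : A ⟶ A) := isMonHom_pow N
  haveI : Surjective (𝟙 A : A ⟶ A).left := inferInstanceAs (Surjective (𝟙 A.left))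
  have h := pullP_eq_zero_of_isPair hNk hx ((𝟙 A) ^ N) (𝟙 A) (Category.comp_id _) fun z hz =>
    h1 z (by rwa [comp_pow_id] at hz)
  exact sub_eq_zero.1 ((pullP_id _).symm.trans h)

end pairing

end Groth.Agent.H25Weilp
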