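import Groth.Agent.H25Weilp.Multiplicity
import Groth.Agent.H27Zeta.PointCount
import Groth.Agent.H27Zeta.AffineLine

/-!
# Isogeny classes and point counts
-/

set_option autoImplicit false
set_option linter.style.haveILetI false
set_option linter.unusedSectionVars false
set_option backward.isDefEq.respectTransparency false
set_option synthInstance.maxHeartbeats 400000
set_option maxHeartbeats 1600000
universe u

open CategoryTheory CategoryTheory.Limits MonoidalCategory CartesianMonoidalCategory MonObj GrpObj AlgebraicGeometry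
open scoped TensorProduct
open Groth.Agent Groth.Agent.H25AbCube Groth.Agent.H25AbCube.GeomTate

noncomputable section

namespace Groth.Agent.H25Weilp

/-- The points in an extension field. -/
abbrev ptCount {k : Type u} [Field k] (X : Over (Spec (CommRingCat.of k))) (k' : Type u) [Field k'] [Algebra k k'] : ℕ :=
  Nat.card (Over.mk (Spec.map (CommRingCat.ofHom (algebraMap k k'))) ⟶ X)

/-- Varieties are isogenous exactly when they have the same number of points in every finite extension. -/
theorem isogenous_iff_ptCount {k : Type u} [Field k] [Finite k] {X Y : Over (Spec (CommRingCat.of k))}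
    [GrpObj X] [IsCommMonObj X] [IsProper X.hom] [GeometricallyIntegral X.hom]
    [GrpObj Y] [IsCommMonObj Y] [IsProper Y.hom] [GeometricallyIntegral Y.hom] :
    (∃ (u : X ⟶ Y) (_ : IsMonHom u) (v : Y ⟶ X) (_ : IsMonHom v) (n : ℕ), 0 < n ∧
        u ≫ v = (𝟙 X) ^ n ∧ v ≫ u = (𝟙 Y) ^ n) ↔
      ∀ (k' : Type u) [Field k'] [Algebra k k'] [Finite k'], ptCount X k' = ptCount Y k' := by
  classical
  let Ω := AlgebraicClosure k
  obtain ⟨l, hl, hlk⟩ := exists_prime_ne_zero k
  haveI : Fact l.Prime := ⟨hl⟩
  obtain ⟨πX, _, hX⟩ := exists_isFrob X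
  obtain ⟨πY, _, hY⟩ := exists_isFrob Y
  haveI := (free_finite Ω l hlk X).1
  haveI := (free_finite Ω l hlk X).2
  haveI := (free_finite Ω l hlk Y).1
  haveI := (free_finite Ω l hlk Y).2
  haveI : IsIntegral X.left := GeometricallyIntegral.isIntegral_of_subsingleton X.hom
  haveI : IsIntegral Y.left := GeometricallyIntegral.isIntegral_of_subsingleton Y.hom
  obtain ⟨g, hg⟩ := H25Grp.exists_nat_dim X.hom
  obtain ⟨g', hg'⟩ := H25Grp.exists_nat_dim Y.hom
  obtain ⟨P, -, -, hP⟩ := exists_frobPoly Ω (EndAV.End.of πX) hg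
  obtain ⟨Q, -, -, hQ⟩ := exists_frobPoly Ω (EndAV.End.of πY) hg'
  have hP' : (AbDual.tateMapₗ (l := l) (T := SGA7.pt Ω) πX).charpoly = P.map (Int.castRingHom ℤ_[l]) := hP l hlk
  have hQ' : (AbDual.tateMapₗ (l := l) (T := SGA7.pt Ω) πY).charpoly = Q.map (Int.castRingHom ℤ_[l]) := hQ l hlk
  obtain ⟨hPm, -, hPr, -, hPc⟩ := FrobPoly.facts πX hX.base hX.le hX.app Ω hg l hlk P hP'
  obtain ⟨hQm, -, hQr, -, hQc⟩ := FrobPoly.facts πY hY.base hY.le hY.app Ω hg' l hlk Q hQ'
  constructor
  · rintro ⟨u, _, v, _, n, hn, huv, hvu⟩ k' _ _ _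
    have h := charpoly_eq_of_isogeny Ω l hX hY u v n hn huv hvu
    have hPQ : P = Q := Polynomial.map_injective (Int.castRingHom ℤ_[l]) Int.cast_injective
      (hP'.symm.trans (h.trans hQ'))
    exact Nat.cast_injective (R := ℂ) ((hPc k').trans (hPQ ▸ (hQc k').symm))
  · intro h
    have hq : (1 : ℝ) < Nat.card k := by exact_mod_cast Finite.one_lt_card
    have hR := Count.eq_of_prod_eq (Nat.card k : ℝ) hq _ _ hPr hQr fun n hn => by
      obtain ⟨k', _, _, _, hk'⟩ := H27Zeta.exists_extension k n hn
      rw [← hk', ← hPc k', ← hQc k']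
      exact congrArg _ (h k')
    have hPQ : P = Q := Polynomial.map_injective (Int.castRingHom ℂ) Int.cast_injective (by
      rw [(IsAlgClosed.splits (P.map (Int.castRingHom ℂ))).eq_prod_roots_of_monic (hPm.map _),
        (IsAlgClosed.splits (Q.map (Int.castRingHom ℂ))).eq_prod_roots_of_monic (hQm.map _), hR])
    exact exists_isogeny_of_charpoly Ω l hlk hX hY (hP'.trans ((congrArg _ hPQ).trans hQ'.symm))

/-- The zeta function carries the same information as the point counts. -/
theorem zetaFun_eq_iff {k : Type u} [Field k] [Finite k] (X Y : Over (Spec (CommRingCat.of k)))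
    [IsProper X.hom] [IsProper Y.hom] :
    Zeta.zetaFun X.hom = Zeta.zetaFun Y.hom ↔
      ∀ (k' : Type u) [Field k'] [Algebra k k'] [Finite k'], ptCount X k' = ptCount Y k' := by
  have key : ∀ (X : Over (Spec (CommRingCat.of k))) [IsProper X.hom] (k' : Type u) [Field k'] [Algebra k k'] [Finite k'],
      ptCount X k' = Zeta.nPts X.hom (Module.finrank k k') := fun X _ k' _ _ _ => by
    have e : SgaExt.pointCount X.hom k' = ptCount X k' :=
      Nat.card_congr
        { toFun := fun x => Over.homMk x.1 x.2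
          invFun := fun t => ⟨t.left, Over.w t⟩
          left_inv := fun _ => rfl
          right_inv := fun _ => rfl }
    rw [← e, H27Zeta.pointCount_eq_nPts]
  constructor
  · intro h k' _ _ _
    have hc : ∀ (X : Over (Spec (CommRingCat.of k))), PowerSeries.constantCoeff (Zeta.logZeta X.hom) = 0 := fun X => by
      rw [← PowerSeries.coeff_zero_eq_constantCoeff_apply, Zeta.logZeta, PowerSeries.coeff_mk, Nat.cast_zero, div_zero]
    have h1 := Count.eq_of_exp_subst_eq _ _ (hc X) (hc Y) h
    haveI : Module.Finite k k' := Module.Finite.of_finite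
    have hm : (Module.finrank k k' : ℚ) ≠ 0 := Nat.cast_ne_zero.2 Module.finrank_pos.ne'
    have h2 := congrArg (PowerSeries.coeff (Module.finrank k k')) h1
    rw [Zeta.logZeta, Zeta.logZeta, PowerSeries.coeff_mk, PowerSeries.coeff_mk, div_left_inj' hm, Nat.cast_inj] at h2
    rw [key X k', key Y k', h2]
  · intro h
    refine congrArg (fun f => PowerSeries.subst f (PowerSeries.exp ℚ)) (PowerSeries.ext fun m => ?_)
    rw [Zeta.logZeta, Zeta.logZeta, PowerSeries.coeff_mk, PowerSeries.coeff_mk]
    rcases Nat.eq_zero_or_pos m with rfl | hm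
    · simp
    · obtain ⟨k', _, _, _, hk'⟩ := H27Zeta.exists_extension k m hm.ne'
      rw [← hk', ← key X k', ← key Y k', h k']

end Groth.Agent.H25Weilp
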