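import Mathlib

/-!
# A rational polynomial splits over the p-adic numbers for infinitely many primes
-/

set_option autoImplicit false
set_option linter.style.haveILetI false

open Polynomial

noncomputable section

namespace Groth.Agent.H25Weilp

/-- A nonconstant integral polynomial has roots modulo arbitrarily large primes. -/
theorem exists_prime_root (H : ℤ[X]) (hH : 0 < H.natDegree) (B : ℕ) :
    ∃ l : ℕ, l.Prime ∧ B < l ∧ ∃ x : ℤ, (l : ℤ) ∣ H.eval x := by
  by_cases hc : H.eval 0 = 0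
  · obtain ⟨l, hl, hp⟩ := Nat.exists_infinite_primes (B + 1)
    exact ⟨l, hp, hl, 0, by rw [hc]; exact dvd_zero _⟩
  set c := H.eval 0 with hcdef
  let M : ℤ := (B.factorial : ℤ)
  have hM : M ≠ 0 := Int.natCast_ne_zero.2 B.factorial_ne_zero
  let G : ℤ[X] := H.comp (C (c * M) * X)
  have hG : G.natDegree = H.natDegree := by
    rw [natDegree_comp, natDegree_C_mul (mul_ne_zero hc hM), natDegree_X, mul_one]
  have hne : ∀ d : ℤ, G - C d ≠ 0 := fun d h => by
    rw [sub_eq_zero] at h
    rw [h, natDegree_C] at hG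
    omega
  obtain ⟨t, ht⟩ : ∃ t : ℤ, ((G - C c) * (G - C (-c))).eval t ≠ 0 :=
    Polynomial.exists_eval_ne_zero_of_natDegree_lt_card _ (mul_ne_zero (hne _) (hne _))
      (by simpa using Cardinal.natCast_lt_aleph0.trans_le (Cardinal.aleph0_le_mk ℤ))
  have hev : G.eval t = H.eval (c * M * t) := by simp [G]
  obtain ⟨u, hu, huM⟩ : ∃ u : ℤ, H.eval (c * M * t) = c * u ∧ M ∣ u - 1 := by
    refine ⟨1 + M * t * H.divX.eval (c * M * t), ?_, ⟨t * H.divX.eval (c * M * t), by ring⟩⟩
    conv_lhs => rw [← X_mul_divX_add H]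
    rw [eval_add, eval_mul, eval_X, eval_C, coeff_zero_eq_eval_zero, ← hcdef]
    ring
  have hu1 : u.natAbs ≠ 1 := fun h => by
    rcases Int.natAbs_eq u with h' | h' <;> rw [h, Nat.cast_one] at h' <;>
      exact ht (by simp [hev, hu, h'])
  obtain ⟨l, hl, hlu⟩ := Nat.exists_prime_and_dvd hu1
  refine ⟨l, hl, ?_, c * M * t, hu ▸ dvd_mul_of_dvd_right (Int.natCast_dvd.2 hlu) _⟩
  by_contra hle
  have hlM : (l : ℤ) ∣ M := Int.natCast_dvd_natCast.2 (Nat.dvd_factorial hl.pos (not_lt.1 hle))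
  have h1 : (l : ℤ) ∣ 1 := by
    have := dvd_sub (Int.natCast_dvd.2 hlu) (hlM.trans huM)
    simpa using this
  exact hl.ne_one (by exact_mod_cast Int.eq_one_of_dvd_one (Int.natCast_nonneg l) h1)

/-- An irreducible rational polynomial has roots in the p-adic numbers for arbitrarily large primes. -/
theorem exists_prime_padic_root (h : ℚ[X]) (hh : Irreducible h) (B : ℕ) :
    ∃ l : ℕ, ∃ _ : Fact l.Prime, B < l ∧ ∃ y : ℚ_[l], aeval y h = 0 := by
  obtain ⟨b, hb⟩ := IsLocalization.integerNormalization_map_to_map (nonZeroDivisors ℤ) h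
  set H := IsLocalization.integerNormalization (nonZeroDivisors ℤ) h
  have sm : ∀ (z : ℤ) (P : ℚ[X]), z • P = C (algebraMap ℤ ℚ z) * P := fun z P => by
    rw [← smul_eq_C_mul, algebraMap_smul]
  have hb0 : (b : ℤ) ≠ 0 := nonZeroDivisors.coe_ne_zero b
  have hsep : (H.map (algebraMap ℤ ℚ)).Separable := by
    rw [hb]
    rw [sm]
    exact hh.separable.unit_mul (isUnit_C.2 (IsUnit.mk0 _ ((map_ne_zero_iff _ Int.cast_injective).2 hb0)))
  obtain ⟨a', b', hab⟩ := hsep
  obtain ⟨ba, hba⟩ := IsLocalization.integerNormalization_map_to_map (nonZeroDivisors ℤ) a'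
  obtain ⟨bb, hbb⟩ := IsLocalization.integerNormalization_map_to_map (nonZeroDivisors ℤ) b'
  set Ia := IsLocalization.integerNormalization (nonZeroDivisors ℤ) a'
  set Ib := IsLocalization.integerNormalization (nonZeroDivisors ℤ) b'
  have hbez : C (bb : ℤ) * Ia * H + C (ba : ℤ) * Ib * derivative H = C ((ba : ℤ) * (bb : ℤ)) := by
    refine Polynomial.map_injective (algebraMap ℤ ℚ) Int.cast_injective ?_
    rw [Polynomial.map_add, Polynomial.map_mul, Polynomial.map_mul, Polynomial.map_mul, Polynomial.map_mul,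
      map_C, map_C, map_C, ← derivative_map, hba, hbb,
      sm, sm, map_mul, map_mul]
    linear_combination (C (algebraMap ℤ ℚ ba) * C (algebraMap ℤ ℚ bb)) * hab
  have hdeg : 0 < H.natDegree := by
    have h1 : (H.map (algebraMap ℤ ℚ)).natDegree = H.natDegree := natDegree_map_eq_of_injective Int.cast_injective H
    rw [← h1, hb, sm,
      natDegree_C_mul ((map_ne_zero_iff _ Int.cast_injective).2 hb0)]
    exact hh.natDegree_pos
  set r := (ba : ℤ) * (bb : ℤ)
  have hr : r ≠ 0 := mul_ne_zero (nonZeroDivisors.coe_ne_zero ba) (nonZeroDivisors.coe_ne_zero bb)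
  obtain ⟨l, hl, hBl, x, hx⟩ := exists_prime_root H hdeg (max B r.natAbs)
  haveI : Fact l.Prime := ⟨hl⟩
  refine ⟨l, inferInstance, (le_max_left _ _).trans_lt hBl, ?_⟩
  have hd : ¬ (l : ℤ) ∣ (derivative H).eval x := fun hd => by
    have h1 : (l : ℤ) ∣ r := by
      have := congrArg (eval x) hbez
      rw [eval_add, eval_mul, eval_mul, eval_mul, eval_mul, eval_C, eval_C, eval_C] at this
      exact this ▸ dvd_add (dvd_mul_of_dvd_right hx _) (dvd_mul_of_dvd_right hd _)
    have := Nat.le_of_dvd (Int.natAbs_pos.2 hr) (Int.natCast_dvd.1 h1)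
    omega
  obtain ⟨z, hz, -⟩ := hensels_lemma (p := l) (F := H) (a := (x : ℤ_[l])) (by
    have e : ∀ P : ℤ[X], aeval (x : ℤ_[l]) P = (P.eval x : ℤ) := fun P => by
      have := aeval_algebraMap_apply ℤ_[l] x P
      simpa using this
    have h2 : ‖(((derivative H).eval x : ℤ) : ℤ_[l])‖ = 1 :=
      le_antisymm (PadicInt.norm_le_one _) (not_lt.1 fun h => hd ((PadicInt.norm_int_lt_one_iff_dvd _).1 h))
    rw [e, e, h2, one_pow]
    exact (PadicInt.norm_int_lt_one_iff_dvd _).2 hx)
  refine ⟨(z : ℚ_[l]), ?_⟩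
  have h3 : aeval (z : ℚ_[l]) H = 0 := by
    have := aeval_algebraMap_apply ℚ_[l] z H
    rw [hz, map_zero] at this
    exact this
  rw [← aeval_map_algebraMap ℚ, hb, sm,
    map_mul, aeval_C] at h3
  exact (mul_eq_zero.1 h3).resolve_left
    ((map_ne_zero_iff _ (algebraMap ℚ ℚ_[l]).injective).2 ((map_ne_zero_iff _ Int.cast_injective).2 hb0))

/-- A rational polynomial splits over the p-adic numbers for arbitrarily large primes. -/
theorem exists_prime_splits (p : ℚ[X]) (B : ℕ) :
    ∃ l : ℕ, ∃ _ : Fact l.Prime, B < l ∧ (p.map (algebraMap ℚ ℚ_[l])).Splits := by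
  let L := p.SplittingField
  let pb := Field.powerBasisOfFiniteOfSeparable ℚ L
  obtain ⟨l, hl, hB, y, hy⟩ := exists_prime_padic_root (minpoly ℚ pb.gen)
    (minpoly.irreducible (IsSeparable.isIntegral (Algebra.IsSeparable.isSeparable ℚ pb.gen))) B
  refine ⟨l, hl, hB, ?_⟩
  let f : L →ₐ[ℚ] ℚ_[l] := pb.lift y hy
  have := (SplittingField.splits p).map f.toRingHom
  rw [Polynomial.map_map] at this
  have e : f.toRingHom.comp (algebraMap ℚ p.SplittingField) = algebraMap ℚ ℚ_[l] := RingHom.ext f.commutes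
  exact e ▸ this

end Groth.Agent.H25Weilp
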