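import Groth.Agent.H25Weilp.Form
import Groth.Agent.H25Weilp.Bounded
import Groth.Agent.H25Weilp.Lines
import Groth.Agent.H25Weilp.SplitPrime
import Groth.Agent.H25Weilp.Frob
import Groth.Agent.H25AbCube.FrobEnd
import Groth.Agent.S14944
import Mathlib.LinearAlgebra.BilinearForm.TensorProduct

/-!
# Tate's theorem for endomorphisms of abelian varieties over finite fields
-/

set_option autoImplicit false
set_option linter.style.haveILetI false
set_option linter.unusedSectionVars false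
set_option backward.isDefEq.respectTransparency false
set_option synthInstance.maxHeartbeats 400000
set_option maxHeartbeats 1600000
universe u

open CategoryTheory CategoryTheory.Limits MonoidalCategory CartesianMonoidalCategory MonObj GrpObj AlgebraicGeometry
open scoped TensorProduct
open Groth.Agent Groth.Agent.H25AbCube Groth.Agent.H25AbCube.GeomTate

noncomputable section

attribute [local instance] Functor.grpObjObj

namespace Groth.Agent.H25Weilp

section module

variable {l : ℕ} [Fact l.Prime] {T : Type*} [AddCommGroup T] [Module ℤ_[l] T]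

theorem one_tmul_natPow (j : ℕ) (w : T) :
    ((1 : ℚ_[l]) ⊗ₜ[ℤ_[l]] ((l : ℤ_[l]) ^ j • w)) = (l : ℚ_[l]) ^ j • (1 ⊗ₜ w) := by
  rw [← TensorProduct.smul_tmul, TensorProduct.smul_tmul', Algebra.smul_def, smul_eq_mul, map_pow, map_natCast]

theorem one_tmul_smul (a : ℤ_[l]) (w : T) :
    ((1 : ℚ_[l]) ⊗ₜ[ℤ_[l]] (a • w)) = (a : ℚ_[l]) • (1 ⊗ₜ w) := by
  rw [← TensorProduct.smul_tmul, TensorProduct.smul_tmul', Algebra.smul_def, smul_eq_mul]
  rfl

theorem exists_int_scale {J : Type*} [Fintype J] (c : J → ℚ_[l]) :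
    ∃ (m : ℕ) (a : J → ℤ_[l]), ∀ i, (l : ℚ_[l]) ^ m * c i = (a i : ℚ_[l]) := by
  obtain ⟨m, hm⟩ := pow_unbounded_of_one_lt (∑ i, ‖c i‖) (by exact_mod_cast (Fact.out : l.Prime).one_lt : (1 : ℝ) < l)
  have hle : ∀ i, ‖(l : ℚ_[l]) ^ m * c i‖ ≤ 1 := fun i => by
    rw [norm_mul, norm_pow, Padic.norm_p, inv_pow,
      inv_mul_le_iff₀ (pow_pos (by exact_mod_cast (Fact.out : l.Prime).pos) m), _root_.mul_one]
    exact (Finset.single_le_sum (fun j _ => norm_nonneg (c j)) (Finset.mem_univ i)).trans hm.le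
  exact ⟨m, fun i => ⟨_, hle i⟩, fun i => rfl⟩

variable [Module.Free ℤ_[l] T]

theorem one_tmul_injective : Function.Injective fun w : T => (1 : ℚ_[l]) ⊗ₜ[ℤ_[l]] w := by
  intro a b h
  have hinj := Module.Flat.rTensor_preserves_injective_linearMap (M := T) (Algebra.linearMap ℤ_[l] ℚ_[l])
    (IsFractionRing.injective ℤ_[l] ℚ_[l])
  have h' : (Algebra.linearMap ℤ_[l] ℚ_[l]).rTensor T (1 ⊗ₜ a) = (Algebra.linearMap ℤ_[l] ℚ_[l]).rTensor T (1 ⊗ₜ b) := by
    simpa using h
  simpa using congrArg (TensorProduct.lid ℤ_[l] T) (hinj h')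

/-- Independence is kept by extending the scalars. -/
theorem linearIndependent_one_tmul {J : Type*} [Fintype J] (v : J → T) (hv : LinearIndependent ℤ_[l] v) :
    LinearIndependent ℚ_[l] fun i => (1 : ℚ_[l]) ⊗ₜ[ℤ_[l]] v i := by
  rw [Fintype.linearIndependent_iff] at hv ⊢
  intro c hc i
  obtain ⟨m, a, ha⟩ := exists_int_scale c
  have h : (1 : ℚ_[l]) ⊗ₜ[ℤ_[l]] (∑ i, a i • v i) = (1 : ℚ_[l]) ⊗ₜ[ℤ_[l]] (0 : T) := by
    rw [TensorProduct.tmul_sum, TensorProduct.tmul_zero]
    simp only [one_tmul_smul, ← ha, mul_smul]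
    rw [← Finset.smul_sum, hc, smul_zero]
  have h0 := hv a (one_tmul_injective h) i
  have := ha i
  rw [h0, PadicInt.coe_zero] at this
  exact (mul_eq_zero.1 this).resolve_left (pow_ne_zero _ (Nat.cast_ne_zero.2 (Fact.out : l.Prime).ne_zero))

end module

variable {k : Type u} [Field k] [Finite k] (Ω : Type u) [Field Ω] [Algebra k Ω] [IsAlgClosure k Ω]
  (l : ℕ) [Fact l.Prime] {X : Over (Spec (CommRingCat.of k))} [GrpObj X] [IsCommMonObj X]
  [IsProper X.hom] [GeometricallyIntegral X.hom]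

/-- The span of the endomorphisms has the dimension of the endomorphism ring. -/
theorem finrank_span_ratEnds (hl : (l : k) ≠ 0) :
    Module.finrank ℚ_[l] (Submodule.span ℚ_[l] (H25TateConj.ratEnds Ω l X)) = Module.finrank ℤ (EndAV.End X) := by
  classical
  haveI : Algebra.IsAlgebraic k Ω := IsAlgClosure.isAlgebraic
  haveI : IsAlgClosed Ω := IsAlgClosure.isAlgClosed k
  haveI : Module.Finite ℤ (EndAV.End X) := moduleFinite_hom
  haveI : IsIntegral X.left := GeometricallyIntegral.isIntegral_of_subsingleton X.hom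
  obtain ⟨g, hg⟩ := H25Grp.exists_nat_dim X.hom
  obtain ⟨bT⟩ := exists_tateBasis_pt (Ω := Ω) l hl hg (A := X)
  haveI : Module.Free ℤ_[l] (AbDual.TateMod X l (SGA7.pt Ω)) := Module.Free.of_basis bT
  haveI : Module.Finite ℤ_[l] (AbDual.TateMod X l (SGA7.pt Ω)) := Module.Finite.of_basis bT
  haveI : Module.IsTorsionFree ℤ (EndAV.End X) := Module.isTorsionFree_iff_smul_eq_zero.2 fun m x h => by
    refine or_iff_not_imp_left.2 fun hm => EndAV.End.ext ?_
    have h' := congrArg EndAV.End.toHom h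
    rw [EndAV.End.toHom_zsmul] at h'
    exact congrArg Additive.toMul (eq_zero_of_smul_homs (Additive.ofMul x.toHom) m
      (inferInstanceAs (IsMonHom x.toHom)) hm (congrArg Additive.ofMul h'))
  haveI : Module.Free ℤ (EndAV.End X) := Module.free_of_finite_type_torsion_free'
  let b := Module.finBasis ℤ (EndAV.End X)
  let r := Module.finrank ℤ (EndAV.End X)
  let e : Fin r → (X ⟶ X) := fun i => (b i).toHom
  have he : LinearIndependent ℤ fun i => Additive.ofMul (e i) := by
    let Φ : EndAV.End X →+ Additive (X ⟶ X) := AddMonoidHom.mk' (fun x => Additive.ofMul x.toHom) fun _ _ => rfl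
    exact b.linearIndependent.map_injOn Φ.toIntLinearMap fun x _ y _ h => EndAV.End.ext (Additive.ofMul.injective h)
  have hv := linearIndependent_tateMap_pt (Ω := Ω) l hl e he
  let V := ℚ_[l] ⊗[ℤ_[l]] AbDual.TateMod X l (SGA7.pt Ω)
  let F : EndAV.End X →+* Module.End ℚ_[l] V :=
    (Module.End.baseChangeHom ℤ_[l] ℚ_[l] (AbDual.TateMod X l (SGA7.pt Ω))).toRingHom.comp
      (EndAV.End.tateRep l (SGA7.pt Ω))
  have hind : LinearIndependent ℚ_[l] fun i => F (b i) := by
    rw [Fintype.linearIndependent_iff] at hv ⊢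
    intro c hc i
    obtain ⟨m, a, ha⟩ := exists_int_scale c
    have h0 : ∀ z, (∑ i, a i • AbDual.tateMapₗ (l := l) (T := SGA7.pt Ω) (e i)) z = 0 := by
      intro z
      refine one_tmul_injective (l := l) ?_
      show (1 : ℚ_[l]) ⊗ₜ[ℤ_[l]] _ = (1 : ℚ_[l]) ⊗ₜ[ℤ_[l]] 0
      rw [TensorProduct.tmul_zero, LinearMap.sum_apply, TensorProduct.tmul_sum]
      simp only [LinearMap.smul_apply, one_tmul_smul, ← ha, mul_smul]
      rw [← Finset.smul_sum]
      have h1 := LinearMap.congr_fun hc (1 ⊗ₜ z)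
      rw [LinearMap.sum_apply, LinearMap.zero_apply] at h1
      rw [show (∑ i, c i • ((1 : ℚ_[l]) ⊗ₜ[ℤ_[l]] AbDual.tateMapₗ (l := l) (T := SGA7.pt Ω) (e i) z)) =
        ∑ i, (c i • F (b i)) (1 ⊗ₜ z) from rfl, h1, smul_zero]
    have hz := hv a (LinearMap.ext h0) i
    have := ha i
    rw [hz, PadicInt.coe_zero] at this
    exact (mul_eq_zero.1 this).resolve_left (pow_ne_zero _ (Nat.cast_ne_zero.2 (Fact.out : l.Prime).ne_zero))
  have hspan : Submodule.span ℚ_[l] (H25TateConj.ratEnds Ω l X) = Submodule.span ℚ_[l] (Set.range fun i => F (b i)) := by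
    refine le_antisymm (Submodule.span_le.2 ?_) (Submodule.span_mono ?_)
    · rintro _ ⟨f, hf, rfl⟩
      show F (EndAV.End.of f) ∈ _
      rw [← b.sum_repr (EndAV.End.of f), map_sum]
      refine Submodule.sum_mem _ fun i _ => ?_
      rw [map_zsmul, ← Int.cast_smul_eq_zsmul ℚ_[l]]
      exact Submodule.smul_mem _ _ (Submodule.subset_span ⟨i, rfl⟩)
    · rintro _ ⟨i, rfl⟩
      exact ⟨(b i).toHom, inferInstance, rfl⟩
  rw [hspan, finrank_span_eq_card hind, Fintype.card_fin]

variable (π : X ⟶ X) [IsMonHom π] (hb : π.left.base = 𝟙 _) (hle : ∀ U : X.left.Opens, U ≤ π.left ⁻¹ᵁ U)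
  (happ : ∀ (U : X.left.Opens) (s : Γ(X.left, U)), (π.left.appLE U U (hle U)).hom s = s ^ Nat.card k)

/-- The Frobenius on the rational Tate module. -/
abbrev frobV : Module.End ℚ_[l] (ℚ_[l] ⊗[ℤ_[l]] AbDual.TateMod X l (SGA7.pt Ω)) :=
  (AbDual.tateMapₗ (l := l) (T := SGA7.pt Ω) π).baseChange ℚ_[l]

include hb hle happ

/-- At a prime where the Frobenius splits, the commutant consists of endomorphisms. -/
theorem mem_span_of_split (hl : (l : k) ≠ 0) (p : Polynomial ℚ) (hp : Squarefree p)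
    (hp0 : Polynomial.aeval (EndAV.toEnd0 (EndAV.End.of π)) p = 0)
    (hs : (p.map (algebraMap ℚ ℚ_[l])).Splits)
    (φ : Module.End ℚ_[l] (ℚ_[l] ⊗[ℤ_[l]] AbDual.TateMod X l (SGA7.pt Ω)))
    (hφ : φ ∘ₗ frobV Ω l π = frobV Ω l π ∘ₗ φ) :
    φ ∈ Submodule.span ℚ_[l] (H25TateConj.ratEnds Ω l X) := by
  classical
  haveI : Algebra.IsAlgebraic k Ω := IsAlgClosure.isAlgebraic
  haveI : IsAlgClosed Ω := IsAlgClosure.isAlgClosed k
  haveI : IsIntegral X.left := GeometricallyIntegral.isIntegral_of_subsingleton X.hom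
  obtain ⟨g, hg⟩ := H25Grp.exists_nat_dim X.hom
  obtain ⟨bT⟩ := exists_tateBasis_pt (Ω := Ω) l hl hg (A := X)
  let T := AbDual.TateMod X l (SGA7.pt Ω)
  haveI : Module.Free ℤ_[l] T := Module.Free.of_basis bT
  haveI : Module.Finite ℤ_[l] T := Module.Finite.of_basis bT
  let V := ℚ_[l] ⊗[ℤ_[l]] T
  let πV := frobV Ω l π
  obtain ⟨R, hR, hspan⟩ := H25TateConj.exists_semisimple Ω l X
  haveI := hR
  rw [← hspan]
  -- the polynomial kills the Frobenius
  have hpV : Polynomial.aeval πV (p.map (algebraMap ℚ ℚ_[l])) = 0 := by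
    let E := Module.End ℚ_[l] V
    let F : EndAV.End X →+* E :=
      (Module.End.baseChangeHom ℤ_[l] ℚ_[l] T).toRingHom.comp (EndAV.End.tateRep l (SGA7.pt Ω))
    letI : Algebra ℚ E := ((algebraMap ℚ_[l] E).comp (algebraMap ℚ ℚ_[l])).toAlgebra'
      fun c x => Algebra.commutes _ x
    haveI : IsScalarTower ℚ ℚ_[l] E := IsScalarTower.of_algebraMap_eq' rfl
    let F' : EndAV.End X →ₐ[ℤ] E := { F with
      commutes' := fun n => by
        show F (algebraMap ℤ (EndAV.End X) n) = _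
        rw [Algebra.algebraMap_eq_smul_one, map_zsmul, map_one, Algebra.algebraMap_eq_smul_one] }
    let G : EndAV.End0 X →ₐ[ℚ] E :=
      Algebra.TensorProduct.lift (Algebra.ofId ℚ E) F' fun r x => Algebra.commutes r (F' x)
    have hG : G (EndAV.toEnd0 (EndAV.End.of π)) = F (EndAV.End.of π) := by
      rw [EndAV.toEnd0_apply]
      show Algebra.TensorProduct.lift _ _ _ _ = _
      rw [Algebra.TensorProduct.lift_tmul, map_one, _root_.one_mul]
      rfl
    rw [Polynomial.aeval_map_algebraMap]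
    have h := congrArg G hp0
    rw [← Polynomial.aeval_algHom_apply, hG, map_zero] at h
    exact h
  -- the form
  let X' := (bc k Ω).obj X
  haveI : IsProper X'.hom := MorphismProperty.pullback_snd (P := @IsProper) _ _ ‹IsProper X.hom›
  haveI : GeometricallyIntegral X'.hom :=
    MorphismProperty.pullback_snd (P := @GeometricallyIntegral) _ _ ‹GeometricallyIntegral X.hom›
  haveI : IsIntegral X'.left := GeometricallyIntegral.isIntegral_of_subsingleton X'.hom
  haveI : IsAffineHom (σ k Ω) := isAffineHom_of_isAffine _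
  haveI : IsAffineHom (pullback.fst X.hom (σ k Ω)) := MorphismProperty.pullback_fst (P := @IsAffineHom) _ _ inferInstance
  obtain ⟨M, hMi, hM, hsym⟩ := exists_ample_symm (A := X)
  have hM' : CohB1.IsAmple ((Scheme.Modules.pullback (pullback.fst X.hom (σ k Ω))).obj M) :=
    H11Ample.isAmple_pullback_of_isAffineHom _ hM
  have hlΩ : (l : Ω) ≠ 0 := natCast_ne_zero_bc hl
  obtain ⟨E', hE'alt, hE'nd, hE'π, hE'iso⟩ := exists_form (A := X') l hlΩ _ hM'
  let te := tateEquiv (Ω := Ω) X l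
  let E : LinearMap.BilinForm ℤ_[l] T := E'.compl₁₂ te.toLinearMap te.toLinearMap
  have hpull : pc _ hM'.1 = pullP (pullback.fst X.hom (σ k Ω)) (pc M hM.1) := pullP_pc _ M hM.1 _
  let π' : X' ⟶ X' := (bc k Ω).map π
  haveI : IsMonHom π' := inferInstanceAs (IsMonHom ((bc k Ω).map π))
  haveI : Surjective π.left := ⟨fun x => ⟨x, congrArg (fun b => b x) hb⟩⟩
  haveI : Surjective π'.left := MorphismProperty.of_isPullback (isPullback_map (Ω := Ω) X π) ‹Surjective π.left›
  have hπℓ : ev (pc _ hM'.1) π' = Nat.card k • pc _ hM'.1 := by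
    rw [hpull]
    show pullP π'.left (pullP _ _) = _
    rw [pullP_pullP, ← (isPullback_map (Ω := Ω) X π).w, ← pullP_pullP,
      pullP_powEndo π.left Nat.card_pos hb hle happ, map_nsmul]
    rfl
  have hEπ : ∀ z w, E (AbDual.tateMapₗ (l := l) (T := SGA7.pt Ω) π z) (AbDual.tateMapₗ (l := l) (T := SGA7.pt Ω) π w) =
      (Nat.card k : ℤ_[l]) * E z w := fun z w => by
    show E' (te _) (te _) = _ * E' (te z) (te w)
    rw [tateEquiv_map, tateEquiv_map]
    exact hE'π π' (Nat.card k) hπℓ _ _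
  let B : LinearMap.BilinForm ℚ_[l] V := E.baseChange ℚ_[l]
  have hl0 : (l : ℚ_[l]) ≠ 0 := Nat.cast_ne_zero.2 (Fact.out : l.Prime).ne_zero
  have hB1 : ∀ z w, B (1 ⊗ₜ z) (1 ⊗ₜ w) = (E z w : ℚ_[l]) := fun z w => by
    rw [LinearMap.BilinForm.baseChange_tmul, _root_.mul_one, Algebra.smul_def, _root_.mul_one]
    rfl
  have hBalt : ∀ x, B x x = 0 := fun x => by
    obtain ⟨m, z, hz⟩ := H25TateConj.exists_pow_smul x
    have h := hB1 z z
    rw [← hz, map_smul, map_smul, LinearMap.smul_apply, smul_eq_mul, smul_eq_mul,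
      show E z z = 0 from hE'alt _, PadicInt.coe_zero] at h
    simpa [hl0] using h
  have hBnd : B.Nondegenerate := by
    have hleft : ∀ x, (∀ y, B x y = 0) → x = 0 := fun x hx => by
      obtain ⟨m, z, hz⟩ := H25TateConj.exists_pow_smul x
      have hz0 : z = 0 := by
        refine te.injective ((hE'nd (te z) fun w => ?_).trans (map_zero te).symm)
        have h := hB1 z (te.symm w)
        rw [← hz, map_smul, LinearMap.smul_apply, hx, smul_zero] at h
        have h' : E z (te.symm w) = 0 := PadicInt.coe_eq_zero.1 h.symm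
        change E' (te z) (te (te.symm w)) = 0 at h'
        rwa [te.apply_symm_apply] at h'
      rw [hz0, TensorProduct.tmul_zero, smul_eq_zero] at hz
      exact hz.resolve_left (pow_ne_zero _ hl0)
    refine ⟨hleft, fun y hy => hleft y fun x => ?_⟩
    have h := hBalt (x + y)
    simp only [map_add, LinearMap.add_apply, hBalt, hy x, zero_add, add_zero] at h
    exact h
  have hBπ : ∀ x y, B (πV x) (πV y) = (Nat.card k : ℚ_[l]) * B x y := fun x y => by
    obtain ⟨m, z, hz⟩ := H25TateConj.exists_pow_smul x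
    obtain ⟨n, w, hw⟩ := H25TateConj.exists_pow_smul y
    have h := hB1 (AbDual.tateMapₗ (l := l) (T := SGA7.pt Ω) π z) (AbDual.tateMapₗ (l := l) (T := SGA7.pt Ω) π w)
    rw [hEπ, PadicInt.coe_mul, PadicInt.coe_natCast, ← hB1, ← LinearMap.baseChange_tmul,
      ← LinearMap.baseChange_tmul] at h
    change B (πV (1 ⊗ₜ z)) (πV (1 ⊗ₜ w)) = _ at h
    rw [← hz, ← hw] at h
    simp only [map_smul, LinearMap.smul_apply, smul_eq_mul] at h
    refine mul_left_cancel₀ (pow_ne_zero n hl0) (mul_left_cancel₀ (pow_ne_zero m hl0) ?_)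
    linear_combination h
  -- maximal isotropic stable subspaces are images
  have hmax : ∀ W : Submodule ℚ_[l] V, (∀ x ∈ W, πV x ∈ W) → B.orthogonal W = W →
      ∃ u : R, LinearMap.range (u : Module.End ℚ_[l] V) = W := by
    intro W hW hWo
    let L : Submodule ℤ_[l] T := (W.restrictScalars ℤ_[l]).comap (TensorProduct.mk ℤ_[l] ℚ_[l] T 1)
    have hmemL : ∀ z, z ∈ L ↔ (1 : ℚ_[l]) ⊗ₜ z ∈ W := fun z => Iff.rfl
    have hsat : ∀ (n : ℕ) (y : T), (l ^ n) • y ∈ L → y ∈ L := fun n y hy => by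
      rw [hmemL, ← Nat.cast_smul_eq_nsmul ℤ_[l], one_tmul_smul] at hy
      refine (hmemL y).2 ((Submodule.smul_mem_iff W ?_).1 hy)
      rw [PadicInt.coe_natCast, Nat.cast_pow]
      exact pow_ne_zero n hl0
    haveI : Module.IsTorsionFree ℤ_[l] (T ⧸ L) := Module.isTorsionFree_iff_smul_eq_zero.2 fun r x hrx => by
      refine or_iff_not_imp_left.2 fun hr => ?_
      obtain ⟨y, rfl⟩ := Submodule.Quotient.mk_surjective L x
      rw [← Submodule.Quotient.mk_smul, Submodule.Quotient.mk_eq_zero, hmemL, one_tmul_smul] at hrx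
      rw [Submodule.Quotient.mk_eq_zero, hmemL]
      exact (Submodule.smul_mem_iff W (by simpa using hr)).1 hrx
    haveI : Module.Free ℤ_[l] (T ⧸ L) := Module.free_of_finite_type_torsion_free'
    haveI : Module.Free ℤ_[l] L := inferInstance
    haveI : Module.Finite ℤ_[l] L := inferInstance
    have hrankW : Module.finrank ℚ_[l] W = g := by
      have h1 := LinearMap.BilinForm.finrank_orthogonal hBnd W
      rw [hWo, Module.finrank_baseChange, Module.finrank_eq_card_basis bT, Fintype.card_fin] at h1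
      omega
    have hrank : Module.finrank ℤ_[l] L = g := by
      let b := Module.finBasis ℤ_[l] L
      have hli := linearIndependent_one_tmul (fun i => ((b i : L) : T))
        (b.linearIndependent.map' L.subtype (Submodule.ker_subtype L))
      have hsp : Submodule.span ℚ_[l] (Set.range fun i => (1 : ℚ_[l]) ⊗ₜ[ℤ_[l]] ((b i : L) : T)) = W := by
        refine le_antisymm (Submodule.span_le.2 ?_) fun x hx => ?_
        · rintro _ ⟨i, rfl⟩
          exact (b i).2
        · obtain ⟨m, z, hz⟩ := H25TateConj.exists_pow_smul x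
          have hzL : z ∈ L := (hmemL z).2 (hz ▸ W.smul_mem _ hx)
          refine (Submodule.smul_mem_iff _ (pow_ne_zero m hl0)).1 ?_
          rw [hz, show z = ((∑ i, b.repr ⟨z, hzL⟩ i • b i : L) : T) by rw [b.sum_repr]]
          simp only [AddSubmonoidClass.coe_finset_sum, SetLike.val_smul, TensorProduct.tmul_sum, one_tmul_smul]
          exact Submodule.sum_mem _ fun i _ => Submodule.smul_mem _ _ (Submodule.subset_span ⟨i, rfl⟩)
      rw [← hrankW, ← hsp, finrank_span_eq_card hli, Fintype.card_fin]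
    have hiso : ∀ z ∈ L, ∀ w ∈ L, ∀ n, IsPair (pullP (pullback.fst X.hom (σ k Ω)) (pc M hM.1)) (l ^ n)
        (gpt Ω l z n) (gpt Ω l w n) 1 := fun z hz w hw n => by
      rw [← hpull]
      have h0 : B (1 ⊗ₜ z) (1 ⊗ₜ w) = 0 := (hWo.ge ((hmemL w).1 hw)) _ ((hmemL z).1 hz)
      rw [hB1] at h0
      exact hE'iso _ _ (PadicInt.coe_eq_zero.1 h0) n
    obtain ⟨J, hJ, F, hF⟩ := finite_quotients Ω l hl hg M hM hsym L hrank hsat hiso
    have hgal : ∀ τ : Ω ≃ₐ[k] Ω, ∀ z ∈ L, H25TateConj.galT Ω l X τ z ∈ L := fun τ z hz => by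
      rw [← Submodule.Quotient.mk_eq_zero]
      let bQ := Module.finBasis ℤ_[l] (T ⧸ L)
      refine bQ.repr.injective ?_
      rw [map_zero]
      ext i
      refine PadicInt.ext_of_toZModPow.1 fun m => ?_
      obtain ⟨j, hj⟩ := exists_galAct_eq_pow l hl π hle happ τ m
      obtain ⟨y, hy⟩ := exists_of_component_eq_zero
        (H25TateConj.galT Ω l X τ z - ((AbDual.tateMapₗ (l := l) (T := SGA7.pt Ω) π) ^ j) z) m
        (by rw [map_sub, hj, sub_self])
      have hjL : ((AbDual.tateMapₗ (l := l) (T := SGA7.pt Ω) π) ^ j) z ∈ L := by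
        clear hj hy
        induction j with
        | zero => exact hz
        | succ j ih =>
          rw [pow_succ', Module.End.mul_apply, hmemL]
          exact hW _ ih
      rw [show H25TateConj.galT Ω l X τ z = l ^ m • y + ((AbDual.tateMapₗ (l := l) (T := SGA7.pt Ω) π) ^ j) z from
        eq_add_of_sub_eq hy, Submodule.Quotient.mk_add, (Submodule.Quotient.mk_eq_zero L).2 hjL, add_zero,
        Submodule.Quotient.mk_smul, map_nsmul, Finsupp.smul_apply, Finsupp.zero_apply, map_nsmul, nsmul_eq_mul,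
        ZMod.natCast_self, zero_mul, map_zero]
    obtain ⟨u, hu, hur⟩ := H25TateConj.exists_range_eq_of l W ⟨J, hJ, F, hF⟩ (H25TateConj.galT Ω l X)
      (fun _ _ _ => rfl) fun τ => by
        rintro _ ⟨x, hx, rfl⟩
        obtain ⟨m, z, hz⟩ := H25TateConj.exists_pow_smul x
        refine (Submodule.smul_mem_iff W (pow_ne_zero m hl0)).1 ?_
        rw [← map_smul, hz, LinearMap.baseChange_tmul]
        exact (hmemL _).1 (hgal τ z ((hmemL z).2 (hz ▸ W.smul_mem _ hx)))
    exact ⟨⟨u, hspan.ge hu⟩, hur⟩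
  exact Lines.mem_of_commute πV _ hs
    (((Polynomial.separable_map _).2 (PerfectField.separable_iff_squarefree.2 hp)).squarefree) hpV R B hBnd hBalt
    (Nat.card k : ℚ_[l]) (Nat.cast_ne_zero.2 Nat.card_pos.ne') hBπ hmax φ fun x => LinearMap.congr_fun hφ x

/-- **Tate's theorem**: the endomorphisms commuting with the Frobenius come from endomorphisms. -/
theorem span_eq_commutant (hl : (l : k) ≠ 0) :
    Submodule.span ℚ_[l] (H25TateConj.ratEnds Ω l X) =
      LinearMap.ker (LinearMap.lcomp ℚ_[l] _ (frobV Ω l π) - LinearMap.llcomp ℚ_[l] _ _ _ (frobV Ω l π) :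
        Module.End ℚ_[l] (ℚ_[l] ⊗[ℤ_[l]] AbDual.TateMod X l (SGA7.pt Ω)) →ₗ[ℚ_[l]]
          Module.End ℚ_[l] (ℚ_[l] ⊗[ℤ_[l]] AbDual.TateMod X l (SGA7.pt Ω))) := by
  classical
  haveI : Algebra.IsAlgebraic k Ω := IsAlgClosure.isAlgebraic
  haveI : IsAlgClosed Ω := IsAlgClosure.isAlgClosed k
  haveI : IsIntegral X.left := GeometricallyIntegral.isIntegral_of_subsingleton X.hom
  obtain ⟨g, hg⟩ := H25Grp.exists_nat_dim X.hom
  obtain ⟨p, hp, hp0⟩ := frob_semisimple_poly (Nat.card k) π hb hle happ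
  obtain ⟨l', hl', hlB, hs⟩ := exists_prime_splits p (Nat.card k)
  haveI := hl'
  have hl'k : (l' : k) ≠ 0 := fun h => by
    have h1 := (CharP.cast_eq_zero_iff k (ringChar k) l').1 h
    have h2 : ringChar k ≤ Nat.card k := by
      cases nonempty_fintype k
      obtain ⟨n, hn, hc⟩ := FiniteField.card k (ringChar k)
      rw [Nat.card_eq_fintype_card, hc]
      exact Nat.le_self_pow n.ne_zero _
    rcases (Nat.dvd_prime hl'.out).1 h1 with h3 | h3
    · exact CharP.ringChar_ne_one h3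
    · omega
  have key : ∀ (l : ℕ) [Fact l.Prime],
      Submodule.span ℚ_[l] (H25TateConj.ratEnds Ω l X) ≤
        LinearMap.ker (LinearMap.lcomp ℚ_[l] _ (frobV Ω l π) - LinearMap.llcomp ℚ_[l] _ _ _ (frobV Ω l π) :
          Module.End ℚ_[l] (ℚ_[l] ⊗[ℤ_[l]] AbDual.TateMod X l (SGA7.pt Ω)) →ₗ[ℚ_[l]]
            Module.End ℚ_[l] (ℚ_[l] ⊗[ℤ_[l]] AbDual.TateMod X l (SGA7.pt Ω))) := fun l _ => by
    refine Submodule.span_le.2 ?_
    rintro _ ⟨f, hf, rfl⟩
    refine LinearMap.mem_ker.2 ?_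
    rw [LinearMap.sub_apply, sub_eq_zero]
    rw [LinearMap.lcomp_apply', LinearMap.llcomp_apply', ← LinearMap.baseChange_comp, ← LinearMap.baseChange_comp]
    congr 1
    refine LinearMap.ext fun z => AbDual.TateMod.ext fun n => congrArg Additive.ofMul ?_
    show (_ ≫ π) ≫ f = (_ ≫ f) ≫ π
    rw [Category.assoc, Category.assoc]
    congr 1
    exact Over.OverMorphism.ext (pow_endo_comm (Nat.card k) π.left hb hle happ π.left hb hle happ f.left)
  obtain ⟨bT⟩ := exists_tateBasis_pt (Ω := Ω) l hl hg (A := X)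
  obtain ⟨bT'⟩ := exists_tateBasis_pt (Ω := Ω) l' hl'k hg (A := X)
  haveI : Module.Free ℤ_[l] (AbDual.TateMod X l (SGA7.pt Ω)) := Module.Free.of_basis bT
  haveI : Module.Finite ℤ_[l] (AbDual.TateMod X l (SGA7.pt Ω)) := Module.Finite.of_basis bT
  haveI : Module.Free ℤ_[l'] (AbDual.TateMod X l' (SGA7.pt Ω)) := Module.Free.of_basis bT'
  haveI : Module.Finite ℤ_[l'] (AbDual.TateMod X l' (SGA7.pt Ω)) := Module.Finite.of_basis bT'
  have h' : Submodule.span ℚ_[l'] (H25TateConj.ratEnds Ω l' X) =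
      LinearMap.ker (LinearMap.lcomp ℚ_[l'] _ (frobV Ω l' π) - LinearMap.llcomp ℚ_[l'] _ _ _ (frobV Ω l' π) :
          Module.End ℚ_[l'] (ℚ_[l'] ⊗[ℤ_[l']] AbDual.TateMod X l' (SGA7.pt Ω)) →ₗ[ℚ_[l']]
            Module.End ℚ_[l'] (ℚ_[l'] ⊗[ℤ_[l']] AbDual.TateMod X l' (SGA7.pt Ω))) := by
    refine le_antisymm (key l') fun φ hφ => mem_span_of_split Ω l' π hb hle happ hl'k p hp hp0 hs φ ?_
    exact sub_eq_zero.1 (LinearMap.mem_ker.1 hφ)
  refine Submodule.eq_of_le_of_finrank_eq (key l) ?_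
  rw [finrank_span_ratEnds Ω l hl, ← finrank_span_ratEnds Ω l' hl'k, h']
  exact Groth.Agent.S14944.result k Ω X π hb hle happ l' l hl'k hl

end Groth.Agent.H25Weilp
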